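import Cfsg.Agent.S0445

/-!
# Codes for the centraliser of a transvection of `SL(5, 2)`

The matrix with first row `(1, c, a)`, second row `(0, 1, 0)` and rows `(0, b, M)` below has the code
`c + 2a + 16b + 128 (r₀ + 8 r₁ + 64 r₂)`, the vectors as three bit numbers.
-/

set_option autoImplicit false

namespace Cfsg.Lib.HeldType

/-- The corner. -/
def fC (x : ℕ) : ℕ := Nat.mod x 2
/-- The row part. -/
def fA (x : ℕ) : ℕ := Nat.mod (Nat.div x 2) 8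
/-- The column part. -/
def fB (x : ℕ) : ℕ := Nat.mod (Nat.div x 16) 8
/-- The first row of the middle part. -/
def fR0 (x : ℕ) : ℕ := Nat.mod (Nat.div x 128) 8
/-- The second row of the middle part. -/
def fR1 (x : ℕ) : ℕ := Nat.mod (Nat.div x 1024) 8
/-- The third row of the middle part. -/
def fR2 (x : ℕ) : ℕ := Nat.mod (Nat.div x 8192) 8

/-- The code of given parts. -/
def enc (c a b r0 r1 r2 : ℕ) : ℕ :=
  Nat.add c (Nat.add (Nat.mul 2 a) (Nat.add (Nat.mul 16 b)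
    (Nat.add (Nat.mul 128 r0) (Nat.add (Nat.mul 1024 r1) (Nat.mul 8192 r2)))))

/-- A row vector times the matrix with rows `r0`, `r1`, `r2`. -/
def vm (v r0 r1 r2 : ℕ) : ℕ :=
  Nat.xor (Nat.xor (Nat.mul (Nat.mod v 2) r0) (Nat.mul (Nat.mod (Nat.div v 2) 2) r1))
    (Nat.mul (Nat.mod (Nat.div v 4) 2) r2)

/-- The dot product of two vectors. -/
def dotN (v w : ℕ) : ℕ := Nat.mod (Nat.shiftRight 150 (Nat.land v w)) 2

/-- The product of two codes. -/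
def mulC (x y : ℕ) : ℕ :=
  enc (Nat.mod (Nat.add (Nat.add (fC x) (fC y)) (dotN (fA x) (fB y))) 2)
    (Nat.xor (fA y) (vm (fA x) (fR0 y) (fR1 y) (fR2 y)))
    (Nat.xor (fB x) (Nat.add (dotN (fR0 x) (fB y))
      (Nat.add (Nat.mul 2 (dotN (fR1 x) (fB y))) (Nat.mul 4 (dotN (fR2 x) (fB y))))))
    (vm (fR0 x) (fR0 y) (fR1 y) (fR2 y)) (vm (fR1 x) (fR0 y) (fR1 y) (fR2 y))
    (vm (fR2 x) (fR0 y) (fR1 y) (fR2 y))

/-- The code of the identity. -/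
def oneC : ℕ := 34944
/-- The code of the transvection. -/
def zC : ℕ := 34945

/-- The three rows are independent. -/
def rowsIndep (r0 r1 r2 : ℕ) : Bool :=
  !Nat.beq r0 0 && !Nat.beq r1 0 && !Nat.beq r1 r0 && !Nat.beq r2 0 && !Nat.beq r2 r0 && !Nat.beq r2 r1 &&
    !Nat.beq r2 (Nat.xor r0 r1)

/-- The code of an element. -/
def valid (x : ℕ) : Bool := Nat.blt x 65536 && rowsIndep (fR0 x) (fR1 x) (fR2 x)

/-- The matrices of the middle part. -/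
def allRows : List ℕ :=
  (List.range 512).filter fun m => rowsIndep (Nat.mod m 8) (Nat.mod (Nat.div m 8) 8) (Nat.div m 64)

/-- The valid codes. -/
def allC : List ℕ := allRows.flatMap fun m => (List.range 128).map fun k => Nat.add (Nat.mul 128 m) k

/-- A bit as an element of the field. -/
def bz (v k : ℕ) : ZMod 2 := bif Nat.testBit v k then 1 else 0

/-- The middle part. -/
def mid (x : ℕ) : Matrix (Fin 3) (Fin 3) (ZMod 2) :=
  !![bz (fR0 x) 0, bz (fR0 x) 1, bz (fR0 x) 2;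
     bz (fR1 x) 0, bz (fR1 x) 1, bz (fR1 x) 2;
     bz (fR2 x) 0, bz (fR2 x) 1, bz (fR2 x) 2]

/-- The matrix of a code. -/
def mat (x : ℕ) : Matrix (Fin 5) (Fin 5) (ZMod 2) :=
  Cfsg.Agent.S0445.mkC (bz (fC x) 0) (fun j => bz (fA x) j.1) (fun i => bz (fB x) i.1) (mid x)

theorem fields_enc {c a b r0 r1 r2 : ℕ} (hc : c < 2) (ha : a < 8) (hb : b < 8) (h0 : r0 < 8) (h1 : r1 < 8)
    (h2 : r2 < 8) : fC (enc c a b r0 r1 r2) = c ∧ fA (enc c a b r0 r1 r2) = a ∧ fB (enc c a b r0 r1 r2) = b ∧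
      fR0 (enc c a b r0 r1 r2) = r0 ∧ fR1 (enc c a b r0 r1 r2) = r1 ∧ fR2 (enc c a b r0 r1 r2) = r2 ∧
      enc c a b r0 r1 r2 < 65536 := by
  simp only [fC, fA, fB, fR0, fR1, fR2, enc, Nat.add_eq, Nat.mul_eq]
  change (c + _) % 2 = c ∧ (c + _) / 2 % 8 = a ∧ (c + _) / 16 % 8 = b ∧ (c + _) / 128 % 8 = r0 ∧
    (c + _) / 1024 % 8 = r1 ∧ (c + _) / 8192 % 8 = r2 ∧ _
  omega

theorem fields_lt (x : ℕ) : fC x < 2 ∧ fA x < 8 ∧ fB x < 8 ∧ fR0 x < 8 ∧ fR1 x < 8 ∧ fR2 x < 8 :=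
  ⟨Nat.mod_lt _ (by norm_num), Nat.mod_lt _ (by norm_num), Nat.mod_lt _ (by norm_num),
    Nat.mod_lt _ (by norm_num), Nat.mod_lt _ (by norm_num), Nat.mod_lt _ (by norm_num)⟩

theorem vm_lt : ∀ {v r0 r1 r2 : ℕ}, r0 < 8 → r1 < 8 → r2 < 8 → vm v r0 r1 r2 < 8 := by
  intro v r0 r1 r2 h0 h1 h2
  have key : ∀ b : ℕ, ∀ r : ℕ, r < 8 → (b % 2) * r < 2 ^ 3 := fun b r hr => by
    rcases Nat.mod_two_eq_zero_or_one b with h | h <;> rw [h] <;> omega
  exact Nat.xor_lt_two_pow (n := 3) (Nat.xor_lt_two_pow (n := 3) (key v r0 h0) (key (v / 2) r1 h1))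
    (key (v / 4) r2 h2)

theorem bz_xor (v w k : ℕ) : bz (Nat.xor v w) k = bz v k + bz w k := by
  show bz (v ^^^ w) k = _
  simp only [bz, Nat.testBit_xor]
  cases v.testBit k <;> cases w.testBit k <;> decide

theorem bz_low (b r k : ℕ) : bz (Nat.mul (Nat.mod b 2) r) k = bz b 0 * bz r k := by
  show bz (b % 2 * r) k = _
  have : bz b 0 = if b % 2 = 1 then 1 else 0 := by
    simp [bz, Nat.testBit_zero]
  rw [this]
  rcases Nat.mod_two_eq_zero_or_one b with h | h <;> simp [h, bz]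

theorem bz_vm (v r0 r1 r2 k : ℕ) :
    bz (vm v r0 r1 r2) k = bz v 0 * bz r0 k + bz v 1 * bz r1 k + bz v 2 * bz r2 k := by
  rw [vm, bz_xor, bz_xor, bz_low, bz_low, bz_low]
  have h1 : bz (Nat.div v 2) 0 = bz v 1 := by
    show bz (v / 2) 0 = _
    simp [bz, Nat.testBit_succ]
  have h2 : bz (Nat.div v 4) 0 = bz v 2 := by
    show bz (v / 4) 0 = _
    simp [bz, Nat.testBit_succ, Nat.div_div_eq_div_mul]
  rw [h1, h2]

theorem dotN_spec : ∀ v < 8, ∀ w < 8, (dotN v w : ZMod 2) = bz v 0 * bz w 0 + bz v 1 * bz w 1 + bz v 2 * bz w 2 ∧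
    dotN v w < 2 := by decide +kernel

theorem bz_three : ∀ p < 2, ∀ q < 2, ∀ r < 2,
    bz (Nat.add p (Nat.add (Nat.mul 2 q) (Nat.mul 4 r))) 0 = (p : ZMod 2) ∧
    bz (Nat.add p (Nat.add (Nat.mul 2 q) (Nat.mul 4 r))) 1 = (q : ZMod 2) ∧
    bz (Nat.add p (Nat.add (Nat.mul 2 q) (Nat.mul 4 r))) 2 = (r : ZMod 2) := by decide +kernel

theorem bz_sum : ∀ p < 2, ∀ q < 2, ∀ r < 2,
    bz (Nat.mod (Nat.add (Nat.add p q) r) 2) 0 = bz p 0 + bz q 0 + (r : ZMod 2) := by decide +kernel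

theorem mulC_fields (x y : ℕ) :
    fC (mulC x y) = Nat.mod (Nat.add (Nat.add (fC x) (fC y)) (dotN (fA x) (fB y))) 2 ∧
    fA (mulC x y) = Nat.xor (fA y) (vm (fA x) (fR0 y) (fR1 y) (fR2 y)) ∧
    fB (mulC x y) = Nat.xor (fB x) (Nat.add (dotN (fR0 x) (fB y))
      (Nat.add (Nat.mul 2 (dotN (fR1 x) (fB y))) (Nat.mul 4 (dotN (fR2 x) (fB y))))) ∧
    fR0 (mulC x y) = vm (fR0 x) (fR0 y) (fR1 y) (fR2 y) ∧
    fR1 (mulC x y) = vm (fR1 x) (fR0 y) (fR1 y) (fR2 y) ∧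
    fR2 (mulC x y) = vm (fR2 x) (fR0 y) (fR1 y) (fR2 y) ∧ mulC x y < 65536 := by
  obtain ⟨cx, ax, bx, a0, a1, a2⟩ := fields_lt x
  obtain ⟨cy, ay, byy, b0, b1, b2⟩ := fields_lt y
  have d0 := (dotN_spec _ a0 _ byy).2
  have d1 := (dotN_spec _ a1 _ byy).2
  have d2 := (dotN_spec _ a2 _ byy).2
  refine fields_enc (Nat.mod_lt _ (by norm_num)) (Nat.xor_lt_two_pow (n := 3) ay (vm_lt b0 b1 b2))
    (Nat.xor_lt_two_pow (n := 3) bx ?_) (vm_lt b0 b1 b2) (vm_lt b0 b1 b2) (vm_lt b0 b1 b2)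
  show _ + (2 * _ + 4 * _) < 2 ^ 3
  omega

theorem mat_mulC (x y : ℕ) : mat (mulC x y) = mat x * mat y := by
  obtain ⟨eC, eA, eB, e0, e1, e2, -⟩ := mulC_fields x y
  obtain ⟨cx, ax, bx, a0, a1, a2⟩ := fields_lt x
  obtain ⟨cy, ay, byy, b0, b1, b2⟩ := fields_lt y
  obtain ⟨dA, dAlt⟩ := dotN_spec _ ax _ byy
  obtain ⟨d0, d0lt⟩ := dotN_spec _ a0 _ byy
  obtain ⟨d1, d1lt⟩ := dotN_spec _ a1 _ byy
  obtain ⟨d2, d2lt⟩ := dotN_spec _ a2 _ byy
  obtain ⟨t0, t1, t2⟩ := bz_three _ d0lt _ d1lt _ d2lt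
  have ts := bz_sum _ cx _ cy _ dAlt
  have hA : ∀ k, bz (fA (mulC x y)) k = bz (fA y) k +
      (bz (fA x) 0 * bz (fR0 y) k + bz (fA x) 1 * bz (fR1 y) k + bz (fA x) 2 * bz (fR2 y) k) := fun k => by
    rw [eA, bz_xor, bz_vm]
  have hC : bz (fC (mulC x y)) 0 = bz (fC x) 0 + bz (fC y) 0 +
      (bz (fA x) 0 * bz (fB y) 0 + bz (fA x) 1 * bz (fB y) 1 + bz (fA x) 2 * bz (fB y) 2) := by
    rw [eC, ts, dA]
  have hB0 : bz (fB (mulC x y)) 0 = bz (fB x) 0 +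
      (bz (fR0 x) 0 * bz (fB y) 0 + bz (fR0 x) 1 * bz (fB y) 1 + bz (fR0 x) 2 * bz (fB y) 2) := by
    rw [eB, bz_xor, t0, d0]
  have hB1 : bz (fB (mulC x y)) 1 = bz (fB x) 1 +
      (bz (fR1 x) 0 * bz (fB y) 0 + bz (fR1 x) 1 * bz (fB y) 1 + bz (fR1 x) 2 * bz (fB y) 2) := by
    rw [eB, bz_xor, t1, d1]
  have hB2 : bz (fB (mulC x y)) 2 = bz (fB x) 2 +
      (bz (fR2 x) 0 * bz (fB y) 0 + bz (fR2 x) 1 * bz (fB y) 1 + bz (fR2 x) 2 * bz (fB y) 2) := by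
    rw [eB, bz_xor, t2, d2]
  have h0 : ∀ k, bz (fR0 (mulC x y)) k =
      bz (fR0 x) 0 * bz (fR0 y) k + bz (fR0 x) 1 * bz (fR1 y) k + bz (fR0 x) 2 * bz (fR2 y) k := fun k => by
    rw [e0, bz_vm]
  have h1 : ∀ k, bz (fR1 (mulC x y)) k =
      bz (fR1 x) 0 * bz (fR0 y) k + bz (fR1 x) 1 * bz (fR1 y) k + bz (fR1 x) 2 * bz (fR2 y) k := fun k => by
    rw [e1, bz_vm]
  have h2 : ∀ k, bz (fR2 (mulC x y)) k =
      bz (fR2 x) 0 * bz (fR0 y) k + bz (fR2 x) 1 * bz (fR1 y) k + bz (fR2 x) 2 * bz (fR2 y) k := fun k => by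
    rw [e2, bz_vm]
  clear eC eA eB e0 e1 e2
  ext i j
  fin_cases i <;> fin_cases j <;>
    simp [mat, mid, Cfsg.Agent.S0445.mkC, Matrix.mul_apply, Fin.sum_univ_succ, hA, hC, hB0, hB1, hB2, h0, h1, h2]
      <;> abel

theorem valid_lt {x : ℕ} (h : valid x = true) : x < 65536 := by
  simp only [valid, Bool.and_eq_true] at h
  exact Nat.le_of_ble_eq_true h.1

theorem rows_det : ∀ r0 < 8, ∀ r1 < 8, ∀ r2 < 8, (rowsIndep r0 r1 r2 = true ↔
    Matrix.det !![bz r0 0, bz r0 1, bz r0 2; bz r1 0, bz r1 1, bz r1 2; bz r2 0, bz r2 1, bz r2 2] = (1 : ZMod 2)) := by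
  intro r0 h0 r1 h1 r2 h2
  rw [Matrix.det_fin_three]
  simp only [Matrix.cons_val', Matrix.cons_val_zero, Matrix.cons_val_one, Matrix.cons_val, Matrix.of_apply]
  revert r2
  revert r1
  revert r0
  decide +kernel

theorem det_mat {x : ℕ} (h : valid x = true) : (mat x).det = 1 := by
  simp only [valid, Bool.and_eq_true] at h
  obtain ⟨-, -, -, a0, a1, a2⟩ := fields_lt x
  rw [mat, Cfsg.Agent.S0445.det_mkC]
  exact (rows_det _ a0 _ a1 _ a2).1 h.2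

theorem decode {x : ℕ} (h : x < 65536) : enc (fC x) (fA x) (fB x) (fR0 x) (fR1 x) (fR2 x) = x := by
  simp only [fC, fA, fB, fR0, fR1, fR2, enc, Nat.add_eq, Nat.mul_eq]
  change x % 2 + (2 * (x / 2 % 8) + (16 * (x / 16 % 8) + (128 * (x / 128 % 8) + (1024 * (x / 1024 % 8) +
    8192 * (x / 8192 % 8))))) = x
  omega

theorem eq_of_bz : ∀ v < 8, ∀ w < 8, bz v 0 = bz w 0 → bz v 1 = bz w 1 → bz v 2 = bz w 2 → v = w := by
  decide +kernel

theorem eq_of_bz_zero : ∀ v < 2, ∀ w < 2, bz v 0 = bz w 0 → v = w := by decide +kernel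

theorem mat_inj {x y : ℕ} (hx : x < 65536) (hy : y < 65536) (h : mat x = mat y) : x = y := by
  obtain ⟨cx, ax, bx, a0, a1, a2⟩ := fields_lt x
  obtain ⟨cy, ay, byy, b0, b1, b2⟩ := fields_lt y
  have e := fun i j => congrFun (congrFun h i) j
  rw [← decode hx, ← decode hy,
    eq_of_bz_zero _ cx _ cy (e 0 1), eq_of_bz _ ax _ ay (e 0 2) (e 0 3) (e 0 4),
    eq_of_bz _ bx _ byy (e 2 1) (e 3 1) (e 4 1), eq_of_bz _ a0 _ b0 (e 2 2) (e 2 3) (e 2 4),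
    eq_of_bz _ a1 _ b1 (e 3 2) (e 3 3) (e 3 4), eq_of_bz _ a2 _ b2 (e 4 2) (e 4 3) (e 4 4)]

theorem mat_one : mat oneC = 1 := by decide +kernel

theorem mat_zC : mat zC = Matrix.transvection 0 1 1 := by decide +kernel

theorem length_allC : allC.length = 21504 := by decide +kernel

theorem valid_of_det {x : ℕ} (hx : x < 65536) (h : (mat x).det = 1) : valid x = true := by
  obtain ⟨-, -, -, a0, a1, a2⟩ := fields_lt x
  rw [mat, Cfsg.Agent.S0445.det_mkC] at h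
  simp only [valid, Bool.and_eq_true]
  exact ⟨Nat.ble_eq_true_of_le hx, (rows_det _ a0 _ a1 _ a2).2 h⟩

theorem valid_mulC {x y : ℕ} (hx : valid x = true) (hy : valid y = true) : valid (mulC x y) = true :=
  valid_of_det (mulC_fields x y).2.2.2.2.2.2 (by rw [mat_mulC, Matrix.det_mul, det_mat hx, det_mat hy, one_mul])

theorem mem_allC {x : ℕ} (h : valid x = true) : x ∈ allC := by
  have hx := valid_lt h
  simp only [valid, Bool.and_eq_true] at h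
  refine List.mem_flatMap.2 ⟨x / 128, ?_, List.mem_map.2 ⟨x % 128, List.mem_range.2 (Nat.mod_lt _ (by norm_num)), ?_⟩⟩
  · refine List.mem_filter.2 ⟨List.mem_range.2 (by omega), ?_⟩
    have e0 : Nat.mod (x / 128) 8 = fR0 x := rfl
    have e1 : Nat.mod (Nat.div (x / 128) 8) 8 = fR1 x := by
      show x / 128 / 8 % 8 = x / 1024 % 8
      omega
    have e2 : Nat.div (x / 128) 64 = fR2 x := by
      show x / 128 / 64 = x / 8192 % 8
      omega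
    rw [e0, e1, e2]
    exact h.2
  · show 128 * (x / 128) + x % 128 = x
    exact Nat.div_add_mod x 128

theorem of_all_allC {p : ℕ → Bool} (h : allC.all p = true) {x : ℕ} (hx : valid x = true) : p x = true :=
  List.all_eq_true.1 h x (mem_allC hx)

end Cfsg.Lib.HeldType
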