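import Mathlib

/-!
# A weakly closed abelian subgroup controls fusion among its elements
-/

set_option autoImplicit false

namespace Cfsg.Lib.HeldType

variable {G : Type*} [Group G] [Finite G] {p : ℕ} [Fact p.Prime]

/-- If every conjugate of an abelian `A ≤ T` inside the Sylow subgroup `T` equals `A`, elements of `A` conjugate
in `G` are conjugate in the normaliser of `A`. -/
theorem exists_normalizer_conj (T : Sylow p G) {A : Subgroup G} (hA : A ≤ T) (hcomm : ∀ a ∈ A, ∀ b ∈ A, a * b = b * a)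
    (hweak : ∀ g : G, A.map (MulAut.conj g).toMonoidHom ≤ T → A.map (MulAut.conj g).toMonoidHom = A)
    {x y g : G} (hx : x ∈ A) (hy : y ∈ A) (hg : g * x * g⁻¹ = y) :
    ∃ n ∈ Subgroup.normalizer (A : Set G), n * x * n⁻¹ = y := by
  set B := A.map (MulAut.conj g).toMonoidHom with hB
  set C := Subgroup.centralizer ({y} : Set G)
  have hAC : A ≤ C := fun a ha => Subgroup.mem_centralizer_singleton_iff.2 (hcomm a ha y hy)
  have hBC : B ≤ C := by
    rintro b ⟨a, ha, rfl⟩
    refine Subgroup.mem_centralizer_singleton_iff.2 ?_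
    simp only [MulEquiv.coe_toMonoidHom, MulAut.conj_apply, ← hg]
    calc g * a * g⁻¹ * (g * x * g⁻¹) = g * (a * x) * g⁻¹ := by group
      _ = g * (x * a) * g⁻¹ := by rw [hcomm a ha x hx]
      _ = g * x * g⁻¹ * (g * a * g⁻¹) := by group
  have hpA : IsPGroup p A := T.isPGroup'.to_le hA
  have hpB : IsPGroup p B := hpA.map _
  obtain ⟨P1, hP1⟩ := (hpA.comap_of_injective C.subtype C.subtype_injective).exists_le_sylow
  obtain ⟨P2, hP2⟩ := (hpB.comap_of_injective C.subtype C.subtype_injective).exists_le_sylow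
  obtain ⟨c, rfl⟩ := MulAction.exists_smul_eq C P1 P2
  obtain ⟨S, hS⟩ := (P1.isPGroup'.map C.subtype).exists_le_sylow
  obtain ⟨h, rfl⟩ := MulAction.exists_smul_eq G T S
  have key : ∀ k : G, A.map (MulAut.conj k).toMonoidHom ≤ ((h • T : Sylow p G) : Subgroup G) →
      A.map (MulAut.conj k).toMonoidHom = A.map (MulAut.conj h).toMonoidHom := by
    intro k hk
    have hk' : A.map (MulAut.conj (h⁻¹ * k)).toMonoidHom ≤ T := by
      rintro a ⟨b, hb, rfl⟩
      have hb' := hk ⟨b, hb, rfl⟩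
      rw [Sylow.coe_subgroup_smul] at hb'
      obtain ⟨t, ht, hte⟩ := hb'
      simp only [MulDistribMulAction.toMonoidEnd_apply, MulDistribMulAction.toMonoidHom_apply,
        MulAut.smul_def, MulAut.conj_apply, MulEquiv.coe_toMonoidHom] at hte ⊢
      have : h⁻¹ * k * b * (h⁻¹ * k)⁻¹ = t := by
        calc h⁻¹ * k * b * (h⁻¹ * k)⁻¹ = h⁻¹ * (k * b * k⁻¹) * h := by group
          _ = t := by rw [← hte]; group
      rw [this]; exact ht
    have e := hweak _ hk'
    conv_rhs => rw [← e]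
    rw [Subgroup.map_map]
    congr 1
    ext b
    simp [mul_assoc]
  have hA1 : A.map (MulAut.conj (1 : G)).toMonoidHom ≤ ((h • T : Sylow p G) : Subgroup G) := by
    rintro a ⟨b, hb, rfl⟩
    have : b ∈ (P1 : Subgroup C).map C.subtype :=
      ⟨⟨b, hAC hb⟩, hP1 (show (⟨b, hAC hb⟩ : C) ∈ A.comap C.subtype from hb), rfl⟩
    simpa using hS this
  have hBh : A.map (MulAut.conj ((c : G)⁻¹ * g)).toMonoidHom ≤ ((h • T : Sylow p G) : Subgroup G) := by
    rintro a ⟨b, hb, rfl⟩
    have hbB : g * b * g⁻¹ ∈ B := ⟨b, hb, by simp⟩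
    have h2 : (⟨g * b * g⁻¹, hBC hbB⟩ : C) ∈ ((c • P1 : Sylow p C) : Subgroup C) := hP2 hbB
    rw [Sylow.coe_subgroup_smul] at h2
    obtain ⟨u, hu, hue⟩ := h2
    refine hS ⟨u, hu, ?_⟩
    have hue' : (c : G) * (u : G) * (c : G)⁻¹ = g * b * g⁻¹ := by
      have := congrArg Subtype.val hue
      simpa [MulDistribMulAction.toMonoidEnd_apply, MulAut.smul_def] using this
    simp only [MulEquiv.coe_toMonoidHom, MulAut.conj_apply, Subgroup.coe_subtype]
    calc (u : G) = (c : G)⁻¹ * ((c : G) * u * (c : G)⁻¹) * c := by group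
      _ = (c : G)⁻¹ * g * b * ((c : G)⁻¹ * g)⁻¹ := by rw [hue']; group
  have heq := (key _ hBh).trans (key _ hA1).symm
  have hid : A.map (MulAut.conj (1 : G)).toMonoidHom = A := by
    ext b
    simp
  rw [hid] at heq
  refine ⟨(c : G)⁻¹ * g, ?_, ?_⟩
  · refine Subgroup.mem_normalizer_iff.2 fun a => ⟨fun ha => heq ▸ ⟨a, ha, by simp [mul_assoc]⟩, fun ha => ?_⟩
    rw [← heq] at ha
    obtain ⟨b, hb, hbe⟩ := ha
    simp only [MulEquiv.coe_toMonoidHom, MulAut.conj_apply] at hbe
    have : b = a := by simpa using hbe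
    exact this ▸ hb
  · have hcy : (c : G) * y = y * c := Subgroup.mem_centralizer_singleton_iff.1 c.2
    calc (c : G)⁻¹ * g * x * ((c : G)⁻¹ * g)⁻¹ = (c : G)⁻¹ * (g * x * g⁻¹) * c := by group
      _ = y := by rw [hg, mul_assoc, ← hcy, inv_mul_cancel_left]

end Cfsg.Lib.HeldType
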