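import Cfsg.Agent.Lib.HeldType.Pairs

/-!
# The centraliser is generated by the six letters and has one minimal normal subgroup
-/

set_option autoImplicit false
set_option maxRecDepth 100000
set_option linter.style.haveILetI false
set_option linter.unusedSectionVars false

namespace Cfsg.Lib.HeldType

open Amalgam (wv codes)

attribute [local irreducible] tList invList tMask invMask decA decB allC

/-- Involutions generating `O₂`. -/
def qGens : List ℕ := [34946, 34948, 34952, 34960, 34976, 35008]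

/-- For a class, a code and its inverse. -/
def coreWit : List (ℕ × ℕ × ℕ) :=
  [(0, 34952, 34952), (1, 34960, 34960), (2, 51328, 51328), (4, 20608, 20608), (5, 34960, 34960), (6, 20608, 20608), (7, 34976, 34976)]

/-- The four generators of the Sylow subgroup as words in the letters. -/
def tWords : List (List ℕ) := [[0, 1, 2, 1, 3, 1, 0], [1, 0, 1, 3, 2, 0], [1, 0, 1, 5, 1, 5], [1, 0, 3, 1, 0]]

/-- Words for the cosets of the Sylow subgroup. -/
def cosetWords : List (List ℕ) := [[], [4], [5], [4, 1], [4, 5], [5, 0], [5, 4], [5, 4, 5], [4, 5, 0], [4, 1, 5], [4, 5, 4], [5, 0, 4], [5, 4, 1], [5, 4, 1, 5], [4, 5, 4, 0], [4, 5, 1, 0], [4, 5, 4, 1], [5, 0, 4, 1], [4, 5, 4, 0, 1], [4, 5, 1, 0, 4], [4, 5, 0, 4, 1, 0]]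

/-- Powers by repeated multiplication. -/
def powC (x : ℕ) : ℕ → ℕ
  | 0 => oneC
  | k + 1 => mulC (powC x k) x

/-- A power is an involution, or some commutator with a generator of `O₂` is an involution or squares to `z`. -/
def reachOK (x : ℕ) : Bool :=
  Nat.beq x oneC || [1, 2, 3, 4, 6, 7].any (fun k => Nat.testBit invMask (powC x k)) ||
    [3, 7].any fun o => Nat.beq (powC x o) oneC && qGens.any fun q =>
      let c := mulC (mulC (mulC x q) (powC x (Nat.sub o 1))) q
      !Nat.beq c oneC && (Nat.testBit invMask c || Nat.beq (mulC c c) zC)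

/-- Each class reaches the central one in a few commutators, in the order of the witnesses. -/
def chainOK : List (ℕ × ℕ × ℕ) → List ℕ → Bool
  | [], done => (List.range 8).all fun k => done.any (Nat.beq k)
  | (k, g, gi) :: l, done =>
    let c := mulC (reps.getD k 0) (mulC (mulC g (reps.getD k 0)) gi)
    Nat.blt k 8 && valid g && valid gi && Nat.beq (mulC g gi) oneC && Nat.beq (mulC (reps.getD k 0) (reps.getD k 0)) oneC &&
      (invList.any fun n => Nat.beq (entX n) c && done.any (Nat.beq (entK n))) && chainOK l (k :: done)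

theorem reach_checked : (qGens.all (fun q => valid q && Nat.beq (mulC q q) oneC) &&
    allC.all reachOK) = true := by decide +kernel

theorem chain_checked : chainOK coreWit [3] = true := by decide +kernel

theorem cover_checked : ((List.range 4).all (fun j => (tWords.getD j []).all (fun l => Nat.blt l 6) &&
      Nat.beq (cEval (tWords.getD j [])) (tGens.getD j 0)) && cosetWords.all (fun w => w.all fun l => Nat.blt l 6) &&
    allC.all fun x => cosetWords.any fun w => Nat.testBit tMask (mulC (cEval w) x)) = true := by decide +kernel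

namespace Setup

variable {G : Type*} [Group G] (S : Setup G)

theorem ι_powC {x : ℕ} (hx : valid x = true) : ∀ k, valid (powC x k) = true ∧ S.ι (powC x k) = S.ι x ^ k
  | 0 => ⟨valid_oneC, by rw [show powC x 0 = oneC from rfl, S.map_one, pow_zero]⟩
  | k + 1 => by
    obtain ⟨hv, he⟩ := ι_powC hx k
    exact ⟨valid_mulC hv hx, by rw [show powC x (k + 1) = mulC (powC x k) x from rfl, S.mul hv hx, he, pow_succ]⟩

theorem rep_three : S.rep 3 = S.z := by
  rw [rep, show reps.getD 3 0 = zC by decide +kernel, S.map_z]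

/-- Classes reaching the centre. -/
theorem z_mem_of_chain (N : Subgroup G)
    (hN : ∀ c ∈ Subgroup.centralizer ({S.z} : Set G), ∀ x ∈ N, x ∈ Subgroup.centralizer ({S.z} : Set G) →
      c * x * c⁻¹ ∈ N) :
    ∀ (l : List (ℕ × ℕ × ℕ)) (done : List ℕ), chainOK l done = true →
      (∀ k ∈ done, S.rep k ∈ N → S.z ∈ N) → ∀ k < 8, S.rep k ∈ N → S.z ∈ N
  | [], done, h, hd, k, hk, hmem => by
    obtain ⟨j, hj, he⟩ := List.any_eq_true.1 (List.all_eq_true.1 h k (List.mem_range.2 hk))
    exact hd k (beq_iff.1 he ▸ hj) hmem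
  | (k', g, gi) :: l, done, h, hd, k, hk, hmem => by
    simp only [chainOK, Bool.and_eq_true, beq_iff, List.any_eq_true] at h
    obtain ⟨⟨⟨⟨⟨⟨hk', hg⟩, hgi⟩, hgg⟩, hsq⟩, n, hn, hnx, j, hj, hjk⟩, hl⟩ := h
    refine z_mem_of_chain N hN l _ hl (fun a ha => ?_) k hk hmem
    rcases List.mem_cons.1 ha with rfl | ha
    · intro hr
      have hk8 : a < 8 := Nat.le_of_ble_eq_true hk'
      have hrv := reps_valid a hk8
      have hginv : S.ι gi = (S.ι g)⁻¹ := (inv_eq_of_mul_eq_one_right (by rw [← S.mul hg hgi, hgg, S.map_one])).symm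
      have hc : S.ι (entX n) ∈ N := by
        rw [hnx, S.mul hrv (valid_mulC (valid_mulC hg hrv) hgi), S.mul (valid_mulC hg hrv) hgi, S.mul hg hrv, hginv]
        exact mul_mem hr (hN _ (S.mem hg) _ hr (S.mem hrv))
      obtain ⟨c, hcC, hce⟩ := S.conj_rep hn
      refine hd j hj ?_
      rw [hjk] at hce
      have := hN _ (inv_mem hcC) _ hc (S.mem (entry_valid hn).1)
      rw [← hce] at this
      simpa [mul_assoc] using this
    · exact hd a ha

/-- A subgroup normalised by the centraliser and meeting it nontrivially contains the involution. -/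
theorem z_mem_of_normal (N : Subgroup G)
    (hN : ∀ c ∈ Subgroup.centralizer ({S.z} : Set G), ∀ x ∈ N, x ∈ Subgroup.centralizer ({S.z} : Set G) →
      c * x * c⁻¹ ∈ N)
    {k : G} (hk : k ∈ N) (hkC : k ∈ Subgroup.centralizer ({S.z} : Set G)) (hk1 : k ≠ 1) : S.z ∈ N := by
  obtain ⟨hq, hall⟩ := Bool.and_eq_true_iff.1 reach_checked
  have hinv : ∀ x, valid x = true → invMask.testBit x = true → S.ι x ∈ N → S.z ∈ N := by
    intro x hx hb hxN
    obtain ⟨n, hn, rfl⟩ := List.mem_map.1 (mem_invMask.1 hb)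
    obtain ⟨c, hcC, hce⟩ := S.conj_rep hn
    refine S.z_mem_of_chain N hN coreWit [3] chain_checked (fun a ha h3 => ?_) _ (entry_valid hn).2.2.1 ?_
    · rw [List.mem_singleton.1 ha, S.rep_three] at h3; exact h3
    · have := hN _ (inv_mem hcC) _ hxN (S.mem hx)
      rw [← hce] at this
      simpa [mul_assoc] using this
  obtain ⟨x, hx, rfl⟩ := S.surj hkC
  have h := of_all_allC hall hx
  simp only [reachOK, Bool.or_eq_true, beq_iff, List.any_eq_true, Bool.and_eq_true, Bool.not_eq_true'] at h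
  rcases h with (h | ⟨e, -, h⟩) | ⟨o, ho, hxo, q, hqm, hc1, h⟩
  · exact absurd (h ▸ S.map_one) hk1
  · exact hinv _ (S.ι_powC hx e).1 h ((S.ι_powC hx e).2 ▸ pow_mem hk e)
  · have hqv := List.all_eq_true.1 hq q hqm
    simp only [Bool.and_eq_true, beq_iff] at hqv
    obtain ⟨hp, hpe⟩ := S.ι_powC hx (Nat.sub o 1)
    have hpi : S.ι (powC x (Nat.sub o 1)) = (S.ι x)⁻¹ := by
      have h1 : S.ι x ^ o = 1 := by rw [← (S.ι_powC hx o).2, hxo, S.map_one]
      have ho1 : 1 ≤ o := by fin_cases ho <;> norm_num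
      rw [hpe]
      exact (inv_eq_of_mul_eq_one_right (by rw [← pow_succ', show o.sub 1 + 1 = o from Nat.sub_add_cancel ho1, h1])).symm
    have hcv : valid (mulC (mulC (mulC x q) (powC x (Nat.sub o 1))) q) = true :=
      valid_mulC (valid_mulC (valid_mulC hx hqv.1) hp) hqv.1
    have hcN : S.ι (mulC (mulC (mulC x q) (powC x (Nat.sub o 1))) q) ∈ N := by
      have hqi : S.ι q = (S.ι q)⁻¹ := (inv_eq_of_mul_eq_one_right (by rw [← S.mul hqv.1 hqv.1, hqv.2, S.map_one])).symm
      rw [S.mul (valid_mulC (valid_mulC hx hqv.1) hp) hqv.1, S.mul (valid_mulC hx hqv.1) hp, S.mul hx hqv.1, hpi]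
      have := mul_mem hk (hN _ (S.mem hqv.1) _ (inv_mem hk) (inv_mem (S.mem hx)))
      rw [← hqi] at this
      simpa [mul_assoc] using this
    rcases h with h | h
    · exact hinv _ hcv h hcN
    · rw [← S.map_z, ← h, S.mul hcv hcv]
      exact mul_mem hcN hcN

variable [Finite G]

/-- The six letters generate the centraliser. -/
theorem cent_le {M : Subgroup G} (hM : ∀ i < 6, S.ι (codes.getD i 0) ∈ M) :
    Subgroup.centralizer ({S.z} : Set G) ≤ M := by
  obtain ⟨h12, h3⟩ := Bool.and_eq_true_iff.1 cover_checked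
  obtain ⟨h1, h2⟩ := Bool.and_eq_true_iff.1 h12
  let g : ℕ → G := fun i => S.ι (codes.getD i 0)
  have hw : ∀ w : List ℕ, (∀ l ∈ w, l < 6) → valid (cEval w) = true ∧ S.ι (cEval w) ∈ M := by
    intro w hw
    obtain ⟨hv, he⟩ := S.wv_cEval g (fun i _ => rfl) w hw
    refine ⟨hv, he ▸ ?_⟩
    exact list_prod_mem fun a ha => by
      obtain ⟨l, hl, rfl⟩ := List.mem_map.1 ha
      exact hM l (hw l hl)
  have hT : S.tSub ≤ M := by
    refine (Subgroup.closure_le _).2 ?_
    rintro _ ⟨t, ht, rfl⟩
    obtain ⟨j, hj, rfl⟩ := List.getElem_of_mem ht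
    have hj4 : j < 4 := lt_of_lt_of_le hj (le_of_eq (by decide +kernel))
    have := List.all_eq_true.1 h1 j (List.mem_range.2 hj4)
    simp only [Bool.and_eq_true, List.all_eq_true, beq_iff] at this
    have he := (hw _ fun l hl => Nat.le_of_ble_eq_true (this.1 l hl)).2
    rw [this.2, List.getD_eq_getElem?_getD, List.getElem?_eq_getElem hj, Option.getD_some] at he
    exact he
  intro c hc
  obtain ⟨x, hx, rfl⟩ := S.surj hc
  obtain ⟨w, hwm, hb⟩ := List.any_eq_true.1 (of_all_allC h3 hx)
  obtain ⟨hwv, hwM⟩ := hw w fun l hl => Nat.le_of_ble_eq_true (List.all_eq_true.1 (List.all_eq_true.1 h2 w hwm) l hl)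
  obtain ⟨n, hn, hne⟩ := List.mem_map.1 (mem_tMask.1 hb)
  have hmem : S.ι (cEval w) * S.ι x ∈ M := by
    rw [← S.mul hwv hx, ← hne]
    exact hT (S.mem_tSub.2 ⟨n, hn, rfl⟩)
  simpa [← mul_assoc] using mul_mem (inv_mem hwM) hmem

end Setup

end Cfsg.Lib.HeldType
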