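import Cfsg.Agent.Lib.HeldType.Elementary

/-!
# Which classes of the centraliser can be fused to the involution: checks
-/

set_option autoImplicit false
set_option maxRecDepth 100000

namespace Cfsg.Lib.HeldType

/-- The classes of the elements of the first subgroup. -/
def clsA : List ℕ := [9, 0, 1, 1, 1, 1, 1, 1, 3, 0, 4, 4, 4, 4, 4, 4, 5, 6, 1, 4, 7, 7, 7, 7, 5, 6, 4, 1, 7, 7, 7, 7,
  5, 6, 7, 7, 1, 4, 7, 7, 5, 6, 7, 7, 4, 1, 7, 7, 5, 6, 7, 7, 7, 7, 1, 4, 5, 6, 7, 7, 7, 7, 4, 1]

/-- The classes of the elements of the second subgroup. -/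
def clsB : List ℕ := [9, 0, 1, 1, 0, 0, 2, 2, 1, 2, 1, 2, 1, 2, 2, 1, 3, 0, 4, 4, 0, 0, 2, 2, 4, 2, 4, 2, 4, 2, 2, 4,
  5, 6, 1, 4, 6, 6, 2, 2, 1, 2, 1, 2, 4, 2, 2, 4, 5, 6, 4, 1, 6, 6, 2, 2, 4, 2, 4, 2, 1, 2, 2, 1]

/-- The class list is correct. -/
def clsOK (dec cls : List ℕ) : Bool :=
  (List.range 64).all fun v => Nat.beq v 0 ||
    invList.any fun n => Nat.beq (entX n) (decE dec v) && Nat.beq (entK n) (cls.getD v 9)

/-- A choice of fused classes; class `3` is that of the involution itself. -/
def chosen (b0 b1 b2 b5 b7 : Bool) (k : ℕ) : Bool :=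
  match k with
  | 0 => b0
  | 1 => b1
  | 2 => b2
  | 3 => true
  | 5 => b5
  | 7 => b7
  | _ => false

/-- The fused elements of a subgroup. -/
def inO (cls : List ℕ) (s : ℕ → Bool) (v : ℕ) : Bool := s (cls.getD v 9)

/-- The number of fused `u` with `t u` fused. -/
def prof (cls : List ℕ) (s : ℕ → Bool) (t : ℕ) : ℕ :=
  ((List.range 64).filter fun u => inO cls s u && inO cls s (Nat.xor t u)).length

/-- All fused elements look alike. -/
def uniformOK (cls : List ℕ) (z : ℕ) (s : ℕ → Bool) : Bool :=
  (List.range 64).all fun t => !inO cls s t || Nat.beq (prof cls s t) (prof cls s z)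

/-- The element with coordinates `8`, respectively `16`, is the involution. -/
theorem z_index : decE decA 8 = zC ∧ decE decB 16 = zC := by decide +kernel

theorem clsA_checked : clsOK decA clsA = true := by decide +kernel

theorem clsB_checked : clsOK decB clsB = true := by decide +kernel

/-- The number of `x` commuting with `u` and `w` whose square is `u`. -/
def rootsN (u w : ℕ) : ℕ :=
  (allC.filter fun x => Nat.beq (mulC x w) (mulC w x) && Nat.beq (mulC x u) (mulC u x) &&
    Nat.beq (mulC x x) u).length

/-- The numbers of square roots of the involution and of a representative in their joint centraliser. -/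
def rootPairs : List (ℕ × ℕ) := [(48, 48), (16, 16), (8, 8), (224, 224), (16, 0), (48, 48), (32, 16), (8, 8)]

theorem roots_checked : ((List.range 8).all fun k => Nat.beq (rootsN zC (reps.getD k 0)) (rootPairs.getD k (0, 0)).1 &&
    Nat.beq (rootsN (reps.getD k 0) zC) (rootPairs.getD k (0, 0)).2) = true := by decide +kernel

theorem roots_asym : ∀ k ∈ [4, 6], ∀ j < 8,
    ((rootPairs.getD k (0, 0)).2, (rootPairs.getD k (0, 0)).1) ≠ rootPairs.getD j (0, 0) := by decide +kernel

/-- The seven possibilities. -/
theorem seven : ∀ b0 b1 b2 b5 b7 : Bool, uniformOK clsA 8 (chosen b0 b1 b2 b5 b7) = true →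
    uniformOK clsB 16 (chosen b0 b1 b2 b5 b7) = true →
    (b0, b1, b2, b5, b7) ∈ [(false, false, false, false, false), (true, false, false, false, false),
      (false, false, false, true, false), (true, true, false, true, false), (true, true, true, true, false),
      (true, true, false, true, true), (true, true, true, true, true)] := by decide +kernel

/-- Some involution of each of these classes lies outside the Sylow subgroup. -/
theorem outside_checked : ([1, 2, 4, 7].all fun k =>
    invList.any fun n => Nat.beq (entK n) k && !Nat.testBit tMask (entX n)) = true := by decide +kernel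

theorem nodup_allC : allC.Nodup := (nodup_of_distinctB (m := 0) (by decide +kernel)).1

end Cfsg.Lib.HeldType
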