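import Cfsg.Agent.Lib.HeldType.Hom

/-!
# The three cases
-/

set_option autoImplicit false
set_option maxRecDepth 100000

namespace Cfsg.Lib.HeldType

/-- The case of `SL(5, 2)`. -/
def caseLFive : Case :=
  ⟨sLFive, 0, 0, lettersLFiveA, lettersLFiveB, exclLFiveA, exclLFiveB, sharedLFive, Amalgam.relsL5, Amalgam.sharedL5⟩

/-- The case of the Mathieu group. -/
def caseM24 : Case :=
  ⟨sM24, 2, 0, lettersM24A, lettersM24B, exclM24A, exclM24B, sharedM24, Amalgam.relsM24, Amalgam.sharedM24⟩

/-- The case of the Held group. -/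
def caseHe : Case :=
  ⟨sHe, 2, 3, lettersHeA, lettersHeB, exclHeA, exclHeB, sharedHe, Amalgam.relsHe, Amalgam.sharedHe⟩

theorem caseLFive_ok : caseLFive.OK where
  sideA := ⟨goodA, clsA_checked, stabA_LFive, liftsA, glueA, rfl⟩
  sideB := ⟨goodB, clsB_checked, stabB_LFive, liftsB, glueB, rfl⟩
  letA := (Bool.and_eq_true_iff.1 lettersLFive_checked).1
  letB := (Bool.and_eq_true_iff.1 lettersLFive_checked).2
  extra := ⟨rfl, rfl⟩
  exA := (Bool.and_eq_true_iff.1 exclLFive_checked).1
  exB := (Bool.and_eq_true_iff.1 exclLFive_checked).2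
  shared := sharedLFive_checked
  rels := by decide +kernel
  joins := by decide +kernel

theorem caseM24_ok : caseM24.OK where
  sideA := ⟨goodA, clsA_checked, stabA_M24, liftsA, glueA, rfl⟩
  sideB := ⟨goodB, clsB_checked, stabB_M24, liftsB, glueB, rfl⟩
  letA := (Bool.and_eq_true_iff.1 lettersM24_checked).1
  letB := (Bool.and_eq_true_iff.1 lettersM24_checked).2
  extra := ⟨rfl, rfl⟩
  exA := (Bool.and_eq_true_iff.1 exclM24_checked).1
  exB := (Bool.and_eq_true_iff.1 exclM24_checked).2
  shared := sharedM24_checked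
  rels := by decide +kernel
  joins := by decide +kernel

theorem caseHe_ok : caseHe.OK where
  sideA := ⟨goodA, clsA_checked, stabA_He, liftsA, glueA, rfl⟩
  sideB := ⟨goodB, clsB_checked, stabB_He, liftsB, glueB, rfl⟩
  letA := (Bool.and_eq_true_iff.1 lettersHe_checked).1
  letB := (Bool.and_eq_true_iff.1 lettersHe_checked).2
  extra := ⟨rfl, rfl⟩
  exA := (Bool.and_eq_true_iff.1 exclHe_checked).1
  exB := (Bool.and_eq_true_iff.1 exclHe_checked).2
  shared := sharedHe_checked
  rels := by decide +kernel
  joins := by decide +kernel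

/-- The four-group normalised by the words of the Held case, in the second side. -/
def vB : List ℕ := [33, 50, 19]
/-- The same in the first side. -/
def vA : List ℕ := [17, 26, 11]

theorem sub_checked :
    (Amalgam.subL5.all (fun w => (!([] : List ℕ).isEmpty && Amal.keepsOK caseLFive.LA [] w) ||
        Amal.keepsOK caseLFive.LB (List.range 64) w) &&
      Amalgam.subM24.all (fun w => (!([] : List ℕ).isEmpty && Amal.keepsOK caseM24.LA [] w) ||
        Amal.keepsOK caseM24.LB (List.range 64) w) &&
      Amalgam.subHe.all (fun w => (!vA.isEmpty && Amal.keepsOK caseHe.LA vA w) || Amal.keepsOK caseHe.LB vB w) &&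
      Amal.movesOK sideB.dec (List.range 64) && Amal.movesOK sideB.dec vB) = true ∧
    vA.map (decE sideA.dec) = vB.map (decE sideB.dec) := by decide +kernel

end Cfsg.Lib.HeldType
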