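import Cfsg.Agent.Lib.HeldType.Fusion
import Cfsg.Agent.Lib.HeldType.CaseChecks
import Cfsg.Agent.Lib.Core.Cores

/-!
# The seven possible sets of classes fused to the involution
-/

set_option autoImplicit false
set_option maxRecDepth 100000
set_option linter.style.haveILetI false
set_option linter.unusedSectionVars false

namespace Cfsg.Lib.HeldType

attribute [local irreducible] tList invList tMask invMask decA decB allC

namespace Setup

variable {G : Type*} [Group G] (S : Setup G)

/-- The elements commuting with `a` and `b` and squaring to `a`. -/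
def roots (a b : G) : Set G := {x | x * b = b * x ∧ x * a = a * x ∧ x * x = a}

theorem ncard_roots {u w : ℕ} (hu : valid u = true) (hw : valid w = true) (hz : u = zC ∨ w = zC) :
    (roots (S.ι u) (S.ι w)).ncard = rootsN u w := by
  classical
  have hnd := nodup_allC.filter (p := fun x => Nat.beq (mulC x w) (mulC w x) && Nat.beq (mulC x u) (mulC u x) &&
    Nat.beq (mulC x x) u)
  have hval : ∀ x ∈ allC, valid x = true := fun x hx =>
    List.all_eq_true.1 (show allC.all valid = true by decide +kernel) x hx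
  have hset : roots (S.ι u) (S.ι w) = S.ι '' ↑(allC.filter fun x => Nat.beq (mulC x w) (mulC w x) &&
      Nat.beq (mulC x u) (mulC u x) && Nat.beq (mulC x x) u).toFinset := by
    ext g
    simp only [Set.mem_image, List.coe_toFinset, Set.mem_setOf_eq, List.mem_filter, Bool.and_eq_true, beq_iff]
    constructor
    · rintro ⟨h1, h2, h3⟩
      have hgC : g ∈ Subgroup.centralizer ({S.z} : Set G) := by
        rw [← S.map_z]
        rcases hz with rfl | rfl
        · exact Subgroup.mem_centralizer_singleton_iff.2 h2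
        · exact Subgroup.mem_centralizer_singleton_iff.2 h1
      obtain ⟨x, hx, rfl⟩ := S.surj hgC
      refine ⟨x, ⟨mem_allC hx, ⟨(S.comm_iff hx hw).1 h1, (S.comm_iff hx hu).1 h2⟩, ?_⟩, rfl⟩
      exact S.inj (valid_mulC hx hx) hu ((S.mul hx hx).trans h3)
    · rintro ⟨x, ⟨hx, ⟨h1, h2⟩, h3⟩, rfl⟩
      have hx := hval x hx
      exact ⟨(S.comm_iff hx hw).2 h1, (S.comm_iff hx hu).2 h2, by rw [← S.mul hx hx, h3]⟩
  rw [hset, Set.InjOn.ncard_image, Set.ncard_coe_finset, List.toFinset_card_of_nodup hnd]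
  · rfl
  · intro a ha b hb h
    simp only [List.coe_toFinset, Set.mem_setOf_eq, List.mem_filter] at ha hb
    exact S.inj (hval a ha.1) (hval b hb.1) h

theorem ncard_roots_conj (a b c : G) :
    (roots (c * a * c⁻¹) (c * b * c⁻¹)).ncard = (roots a b).ncard := by
  rw [show roots (c * a * c⁻¹) (c * b * c⁻¹) = (fun x => c * x * c⁻¹) '' roots a b from ?_,
    Set.ncard_image_of_injective _ fun x y h => by simpa using h]
  ext x
  constructor
  · rintro ⟨h1, h2, h3⟩
    refine ⟨c⁻¹ * x * c, ⟨?_, ?_, ?_⟩, by group⟩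
    · calc c⁻¹ * x * c * b = c⁻¹ * (x * (c * b * c⁻¹)) * c := by group
        _ = c⁻¹ * ((c * b * c⁻¹) * x) * c := by rw [h1]
        _ = b * (c⁻¹ * x * c) := by group
    · calc c⁻¹ * x * c * a = c⁻¹ * (x * (c * a * c⁻¹)) * c := by group
        _ = c⁻¹ * ((c * a * c⁻¹) * x) * c := by rw [h2]
        _ = a * (c⁻¹ * x * c) := by group
    · calc c⁻¹ * x * c * (c⁻¹ * x * c) = c⁻¹ * (x * x) * c := by group
        _ = a := by rw [h3]; group
  · rintro ⟨y, ⟨h1, h2, h3⟩, rfl⟩
    refine ⟨?_, ?_, ?_⟩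
    · calc c * y * c⁻¹ * (c * b * c⁻¹) = c * (y * b) * c⁻¹ := by group
        _ = c * (b * y) * c⁻¹ := by rw [h1]
        _ = c * b * c⁻¹ * (c * y * c⁻¹) := by group
    · calc c * y * c⁻¹ * (c * a * c⁻¹) = c * (y * a) * c⁻¹ := by group
        _ = c * (a * y) * c⁻¹ := by rw [h2]
        _ = c * a * c⁻¹ * (c * y * c⁻¹) := by group
    · calc c * y * c⁻¹ * (c * y * c⁻¹) = c * (y * y) * c⁻¹ := by group
        _ = c * a * c⁻¹ := by rw [h3]

theorem roots_rep {k : ℕ} (hk : k < 8) : (roots S.z (S.rep k)).ncard = (rootPairs.getD k (0, 0)).1 ∧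
    (roots (S.rep k) S.z).ncard = (rootPairs.getD k (0, 0)).2 := by
  have h := List.all_eq_true.1 roots_checked k (List.mem_range.2 hk)
  simp only [Bool.and_eq_true, beq_iff] at h
  rw [← S.map_z, rep]
  exact ⟨(S.ncard_roots valid_zC (reps_valid k hk) (Or.inl rfl)).trans h.1,
    (S.ncard_roots (reps_valid k hk) valid_zC (Or.inr rfl)).trans h.2⟩

/-- Two classes are never fused to the involution. -/
theorem not_inS {k : ℕ} (hk : k ∈ [4, 6]) : ¬ S.InS k := by
  intro h
  have hk8 : k < 8 := by fin_cases hk <;> norm_num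
  obtain ⟨g, hg⟩ := isConj_iff.1 h
  set w := g⁻¹ * S.z * g
  have hnC : S.rep k * S.z = S.z * S.rep k :=
    Subgroup.mem_centralizer_singleton_iff.1 (S.mem (reps_valid k hk8))
  have hw : w ∈ Subgroup.centralizer ({S.z} : Set G) := by
    refine Subgroup.mem_centralizer_singleton_iff.2 ?_
    calc g⁻¹ * S.z * g * S.z = g⁻¹ * (S.z * (g * S.z * g⁻¹)) * g := by group
      _ = g⁻¹ * ((g * S.z * g⁻¹) * S.z) * g := by rw [hg, hnC]
      _ = S.z * (g⁻¹ * S.z * g) := by group
  have hz2 : S.z * S.z = 1 := by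
    have := pow_orderOf_eq_one S.z
    rwa [S.hz, pow_two] at this
  have hw2 : w * w = 1 := by
    calc g⁻¹ * S.z * g * (g⁻¹ * S.z * g) = g⁻¹ * (S.z * S.z) * g := by group
      _ = 1 := by rw [hz2]; group
  have hw1 : w ≠ 1 := by
    intro h1
    have hz1 : S.z = 1 := by
      calc S.z = g * w * g⁻¹ := by simp only [w]; group
        _ = 1 := by rw [h1]; group
    have := S.hz
    rw [hz1, orderOf_one] at this
    omega
  obtain ⟨n, hn, hne⟩ := S.exists_entry hw hw2 hw1
  obtain ⟨c, hcC, hc⟩ := S.conj_rep hn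
  rw [hne] at hc
  have hcz : c * S.z * c⁻¹ = S.z := by
    rw [Subgroup.mem_centralizer_singleton_iff.1 hcC, mul_inv_cancel_right]
  have e1 : g * c * S.z * (g * c)⁻¹ = S.rep k := by
    calc g * c * S.z * (g * c)⁻¹ = g * (c * S.z * c⁻¹) * g⁻¹ := by group
      _ = S.rep k := by rw [hcz, hg]
  have e2 : g * c * S.rep (entK n) * (g * c)⁻¹ = S.z := by
    calc g * c * S.rep (entK n) * (g * c)⁻¹ = g * (c * S.rep (entK n) * c⁻¹) * g⁻¹ := by group
      _ = S.z := by rw [hc]; simp only [w]; group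
  have h1 := ncard_roots_conj S.z (S.rep (entK n)) (g * c)
  have h2 := ncard_roots_conj (S.rep (entK n)) S.z (g * c)
  rw [e1, e2] at h1 h2
  have hj := (entry_valid hn).2.2.1
  refine roots_asym k hk _ hj (Prod.ext ?_ ?_)
  · show (rootPairs.getD k (0, 0)).2 = (rootPairs.getD (entK n) (0, 0)).1
    rw [← (S.roots_rep hk8).2, ← (S.roots_rep hj).1, h1]
  · show (rootPairs.getD k (0, 0)).1 = (rootPairs.getD (entK n) (0, 0)).2
    rw [← (S.roots_rep hk8).1, ← (S.roots_rep hj).2, h2]

theorem inS_three : S.InS 3 := by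
  show IsConj S.z (S.ι (reps.getD 3 0))
  rw [show reps.getD 3 0 = zC by decide +kernel, S.map_z]

/-- The fused classes as a function. -/
theorem exists_chosen : ∃ b0 b1 b2 b5 b7 : Bool, ∀ k < 8, chosen b0 b1 b2 b5 b7 k = true ↔ S.InS k := by
  classical
  refine ⟨decide (S.InS 0), decide (S.InS 1), decide (S.InS 2), decide (S.InS 5), decide (S.InS 7), fun k hk => ?_⟩
  interval_cases k <;> simp [chosen, S.inS_three, S.not_inS (k := 4) (by simp), S.not_inS (k := 6) (by simp)]

theorem isConj_e {dec cls : List ℕ} (hcls : clsOK dec cls = true) {v : ℕ} (hv : v < 64) (h0 : v ≠ 0) :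
    cls.getD v 9 < 8 ∧ (IsConj S.z (S.e dec v) ↔ S.InS (cls.getD v 9)) := by
  have h := List.all_eq_true.1 hcls v (List.mem_range.2 hv)
  simp only [Bool.or_eq_true, beq_iff, h0, false_or, List.any_eq_true, Bool.and_eq_true] at h
  obtain ⟨n, hn, hx, hk⟩ := h
  rw [← hk, e, ← hx]
  exact ⟨(entry_valid hn).2.2.1, S.isConj_ι_iff hn⟩

variable [Finite G]

theorem uniform {dec cls : List ℕ} (h : Good dec) (hcls : clsOK dec cls = true) (hc0 : cls.getD 0 9 = 9)
    {zi : ℕ} (hzi : zi < 64) (hz : decE dec zi = zC) {s : ℕ → Bool} (hs9 : s 9 = false)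
    (hs : ∀ k < 8, s k = true ↔ S.InS k) : uniformOK cls zi s = true := by
  classical
  have hO : ∀ v < 64, (inO cls s v = true ↔ IsConj S.z (S.e dec v)) := by
    intro v hv
    rcases eq_or_ne v 0 with rfl | h0
    · rw [S.e_zero h, inO, hc0, hs9]
      simp only [Bool.false_eq_true, false_iff]
      intro hc
      have hz1 : S.z = 1 := isConj_one_left.1 hc
      have := S.hz
      rw [hz1, orderOf_one] at this
      omega
    · obtain ⟨hk, hiff⟩ := S.isConj_e hcls hv h0
      rw [inO, hs _ hk, hiff]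
  refine List.all_eq_true.2 fun t ht => ?_
  have ht64 := List.mem_range.1 ht
  rcases Bool.eq_false_or_eq_true (inO cls s t) with hin | hin
  swap
  · simp [hin]
  simp only [hin, Bool.not_true, Bool.false_or, beq_iff]
  obtain ⟨g, hg⟩ := isConj_iff.1 ((hO t ht64).1 hin)
  have hze : S.e dec zi = S.z := by rw [e, hz, S.map_z]
  obtain ⟨m, hm, hme⟩ := S.exists_conj h (S.e_mem h hzi) (S.e_mem h ht64) (g := g) (by rw [hze]; exact hg)
  have hperm : ∀ v : Fin 64, ∃ w : Fin 64, m * S.e dec v.1 * m⁻¹ = S.e dec w.1 := by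
    intro v
    obtain ⟨w, hw, he⟩ := (S.mem_eSub h).1 ((Subgroup.mem_normalizer_iff.1 hm (S.e dec v.1)).1 (S.e_mem h v.2))
    exact ⟨⟨w, hw⟩, he.symm⟩
  choose σ hσ using hperm
  have hσinj : Function.Injective σ := fun a b hab => Fin.ext (S.e_inj h a.2 b.2 (by
    have := (hσ a).trans ((congrArg (fun w : Fin 64 => S.e dec w.1) hab).trans (hσ b).symm)
    simpa using this))
  have hσbij : Function.Bijective σ := Finite.injective_iff_bijective.1 hσinj
  have hcount : ∀ r, prof cls s r = (Finset.univ.filter fun v : Fin 64 =>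
      (inO cls s v.1 && inO cls s (Nat.xor r v.1)) = true).card := by
    intro r
    rw [prof, ← List.toFinset_card_of_nodup (List.nodup_range.filter _)]
    refine (Finset.card_bij (fun v _ => v.1) ?_ ?_ ?_).symm
    · intro v hv
      exact List.mem_toFinset.2 (List.mem_filter.2 ⟨List.mem_range.2 v.2, (Finset.mem_filter.1 hv).2⟩)
    · intro a _ b _ hab
      exact Fin.ext hab
    · intro u hu
      obtain ⟨hu1, hu2⟩ := List.mem_filter.1 (List.mem_toFinset.1 hu)
      exact ⟨⟨u, List.mem_range.1 hu1⟩, Finset.mem_filter.2 ⟨Finset.mem_univ _, hu2⟩, rfl⟩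
  have hstep : ∀ v : Fin 64, inO cls s (σ v).1 = inO cls s v.1 := by
    intro v
    refine Bool.eq_iff_iff.2 ?_
    rw [hO _ (σ v).2, hO _ v.2, ← hσ v]
    have hc : IsConj (S.e dec v.1) (m * S.e dec v.1 * m⁻¹) := isConj_iff.2 ⟨m, rfl⟩
    exact ⟨fun h' => h'.trans hc.symm, fun h' => h'.trans hc⟩
  have hxor : ∀ v : Fin 64, (σ ⟨Nat.xor zi v.1, Nat.xor_lt_two_pow (n := 6) hzi v.2⟩).1 = Nat.xor t (σ v).1 := by
    intro v
    refine S.e_inj h (σ _).2 (Nat.xor_lt_two_pow (n := 6) ht64 (σ v).2) ?_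
    rw [← hσ, ← S.e_mul h ht64 (σ v).2, ← hσ v, ← S.e_mul h hzi v.2, ← hme]
    group
  rw [hcount, hcount]
  refine (Finset.card_bij (fun v _ => σ v) ?_ ?_ ?_).symm
  · intro v hv
    have hv' := (Finset.mem_filter.1 hv).2
    simp only [Finset.mem_filter, Finset.mem_univ, true_and]
    have h2 := hstep ⟨Nat.xor zi v.1, Nat.xor_lt_two_pow (n := 6) hzi v.2⟩
    rw [hxor] at h2
    rw [hstep v, h2]
    exact hv'
  · intro a _ b _ hab
    exact hσinj hab
  · intro u hu
    obtain ⟨v, rfl⟩ := hσbij.2 u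
    refine ⟨v, ?_, rfl⟩
    have hu' := (Finset.mem_filter.1 hu).2
    simp only [Finset.mem_filter, Finset.mem_univ, true_and]
    have h2 := hstep ⟨Nat.xor zi v.1, Nat.xor_lt_two_pow (n := 6) hzi v.2⟩
    rw [hxor] at h2
    rw [hstep v, h2] at hu'
    exact hu'

/-- The seven possibilities for the fused classes. -/
theorem seven_cases : ∃ b0 b1 b2 b5 b7 : Bool, (∀ k < 8, chosen b0 b1 b2 b5 b7 k = true ↔ S.InS k) ∧
    (b0, b1, b2, b5, b7) ∈ [(false, false, false, false, false), (true, false, false, false, false),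
      (false, false, false, true, false), (true, true, false, true, false), (true, true, true, true, false),
      (true, true, false, true, true), (true, true, true, true, true)] := by
  obtain ⟨b0, b1, b2, b5, b7, hs⟩ := S.exists_chosen
  exact ⟨b0, b1, b2, b5, b7, hs, seven b0 b1 b2 b5 b7
    (S.uniform goodA clsA_checked (by decide +kernel) (by norm_num) z_index.1 rfl hs)
    (S.uniform goodB clsB_checked (by decide +kernel) (by norm_num) z_index.2 rfl hs)⟩

/-- A second conjugate in `O₂` of the centraliser puts class `0` or `5` among the fused ones. -/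
theorem inS_zero_or_five {g : G} (hq : g * S.z * g⁻¹ ∈ Subgroup.centralizer ({S.z} : Set G))
    (hcore : (⟨g * S.z * g⁻¹, hq⟩ : Subgroup.centralizer ({S.z} : Set G)) ∈
      Cfsg.pCore 2 (Subgroup.centralizer ({S.z} : Set G)))
    (hne : g * S.z * g⁻¹ ≠ S.z) : S.InS 0 ∨ S.InS 5 := by
  haveI : Fact (Nat.Prime 2) := ⟨Nat.prime_two⟩
  have hz2 : S.z * S.z = 1 := by
    have := pow_orderOf_eq_one S.z
    rwa [S.hz, pow_two] at this
  have hx2 : g * S.z * g⁻¹ * (g * S.z * g⁻¹) = 1 := by
    calc g * S.z * g⁻¹ * (g * S.z * g⁻¹) = g * (S.z * S.z) * g⁻¹ := by group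
      _ = 1 := by rw [hz2]; group
  have hx1 : g * S.z * g⁻¹ ≠ 1 := fun h1 => by
    have hz1 : S.z = 1 := by simpa using h1
    have := S.hz
    rw [hz1, orderOf_one] at this
    omega
  obtain ⟨n, hn, hne'⟩ := S.exists_entry hq hx2 hx1
  have hS : S.InS (entK n) := (S.isConj_ι_iff hn).1 (hne' ▸ isConj_iff.2 ⟨g, rfl⟩)
  have hk := (entry_valid hn).2.2.1
  -- `O₂` lies in the Sylow subgroup with all conjugates
  have hT : IsPGroup 2 (S.tSub.subgroupOf (Subgroup.centralizer ({S.z} : Set G))) :=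
    S.isPGroup_tSub.comap_of_injective _ (Subgroup.subtype_injective _)
  have hout : entK n ∈ [1, 2, 4, 7] → False := by
    intro hmem
    obtain ⟨m, hm, hme⟩ := List.any_eq_true.1 (List.all_eq_true.1 outside_checked _ hmem)
    simp only [Bool.and_eq_true, beq_iff, Bool.not_eq_true'] at hme
    obtain ⟨c1, hc1, e1⟩ := S.conj_rep hn
    obtain ⟨c2, hc2, e2⟩ := S.conj_rep hm
    rw [hme.1] at e2
    rw [hne'] at e1
    haveI : (Cfsg.pCore 2 (Subgroup.centralizer ({S.z} : Set G))).Normal := inferInstance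
    have hmemC : c2 * c1⁻¹ ∈ Subgroup.centralizer ({S.z} : Set G) := mul_mem hc2 (inv_mem hc1)
    have h' := Subgroup.Normal.conj_mem inferInstance _ hcore ⟨_, hmemC⟩
    have hle : Cfsg.pCore 2 (Subgroup.centralizer ({S.z} : Set G)) ≤
        S.tSub.subgroupOf (Subgroup.centralizer ({S.z} : Set G)) := by
      obtain ⟨P, hP⟩ := S.exists_sylow
      have hTC : S.tSub ≤ Subgroup.centralizer ({S.z} : Set G) := S.tSub_le
      exact Cfsg.Lib.Core.pCore_le_sylow (P.subtype (hP ▸ hTC)) |>.trans (le_of_eq (by rw [Sylow.coe_subtype, hP]))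
    have h'' := hle h'
    rw [Subgroup.mem_subgroupOf] at h''
    have hval : S.ι (entX m) ∈ S.tSub := by
      rw [← e2, show c2 * S.rep (entK n) * c2⁻¹ =
        c2 * c1⁻¹ * (c1 * S.rep (entK n) * c1⁻¹) * (c2 * c1⁻¹)⁻¹ by group, e1]
      simpa using h''
    obtain ⟨t, ht, hte⟩ := S.mem_tSub.1 hval
    have : tMask.testBit (entX m) = true :=
      mem_tMask.2 (List.mem_map.2 ⟨t, ht, S.inj (tList_valid ht) (entry_valid hm).1 hte⟩)
    rw [this] at hme
    exact Bool.false_ne_true hme.2.symm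
  have h3 : entK n ≠ 3 := by
    intro h3
    obtain ⟨c, hc, hce⟩ := S.conj_rep hn
    rw [h3, rep, show reps.getD 3 0 = zC by decide +kernel, S.map_z, hne',
      Subgroup.mem_centralizer_singleton_iff.1 hc, mul_inv_cancel_right] at hce
    exact hne hce.symm
  interval_cases hK : entK n
  · exact Or.inl hS
  · exact (hout (by simp)).elim
  · exact (hout (by simp)).elim
  · exact absurd rfl h3
  · exact (hout (by simp)).elim
  · exact Or.inr hS
  · exact absurd hS (S.not_inS (by simp))
  · exact (hout (by simp)).elim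

end Setup

end Cfsg.Lib.HeldType
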