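import Cfsg.Agent.Lib.HeldType.Code

/-!
# The centraliser of the involution in coordinates
-/

set_option autoImplicit false

namespace Cfsg.Lib.HeldType

open Matrix

/-- An involution whose centraliser is numbered by the codes. -/
structure Setup (G : Type*) [Group G] where
  /-- the involution -/
  z : G
  /-- the element with a given code -/
  ι : ℕ → G
  hz : orderOf z = 2
  mul : ∀ {x y : ℕ}, valid x = true → valid y = true → ι (mulC x y) = ι x * ι y
  inj : ∀ {x y : ℕ}, valid x = true → valid y = true → ι x = ι y → x = y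
  mem : ∀ {x : ℕ}, valid x = true → ι x ∈ Subgroup.centralizer ({z} : Set G)
  surj : ∀ {g : G}, g ∈ Subgroup.centralizer ({z} : Set G) → ∃ x, valid x = true ∧ ι x = g
  map_z : ι zC = z

/-- The matrix of a code in the special linear group. -/
noncomputable def sl (x : ℕ) : SpecialLinearGroup (Fin 5) (ZMod 2) :=
  if h : valid x = true then ⟨mat x, det_mat h⟩ else 1

theorem coe_sl {x : ℕ} (h : valid x = true) : (sl x : Matrix (Fin 5) (Fin 5) (ZMod 2)) = mat x := by
  simp [sl, h]

theorem sl_mul {x y : ℕ} (hx : valid x = true) (hy : valid y = true) : sl (mulC x y) = sl x * sl y :=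
  Subtype.ext (by rw [SpecialLinearGroup.coe_mul, coe_sl hx, coe_sl hy, coe_sl (valid_mulC hx hy), mat_mulC])

theorem sl_inj {x y : ℕ} (hx : valid x = true) (hy : valid y = true) (h : sl x = sl y) : x = y := by
  have := congrArg (fun g : SpecialLinearGroup (Fin 5) (ZMod 2) => (g : Matrix (Fin 5) (Fin 5) (ZMod 2))) h
  simp only [coe_sl hx, coe_sl hy] at this
  exact mat_inj (valid_lt hx) (valid_lt hy) this

variable {s : SpecialLinearGroup (Fin 5) (ZMod 2)}

theorem sl_mem (hs : (s : Matrix (Fin 5) (Fin 5) (ZMod 2)) = transvection 0 1 1) {x : ℕ} (hx : valid x = true) :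
    sl x ∈ Subgroup.centralizer ({s} : Set (SpecialLinearGroup (Fin 5) (ZMod 2))) :=
  Subgroup.mem_centralizer_singleton_iff.2 (Subtype.ext (by
    rw [SpecialLinearGroup.coe_mul, SpecialLinearGroup.coe_mul, hs, coe_sl hx]
    exact (Cfsg.Agent.S0445.comm_mkC _ _ _ _).symm))

theorem allRows_facts : allRows.length = 168 ∧ allRows.Nodup := by decide +kernel

theorem sl_surj (hs : (s : Matrix (Fin 5) (Fin 5) (ZMod 2)) = transvection 0 1 1)
    {g : SpecialLinearGroup (Fin 5) (ZMod 2)}
    (hg : g ∈ Subgroup.centralizer ({s} : Set (SpecialLinearGroup (Fin 5) (ZMod 2)))) :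
    ∃ x, valid x = true ∧ sl x = g := by
  obtain ⟨hlen, hnd⟩ := allRows_facts
  let code : Fin 168 × Fin 128 → ℕ := fun p => 128 * (allRows[p.1.1]'(hlen.symm ▸ p.1.2)) + p.2.1
  have hmem : ∀ i : Fin 168, (allRows[i.1]'(hlen.symm ▸ i.2)) ∈ allRows := fun i => List.getElem_mem _
  have hv : ∀ p, valid (code p) = true := by
    intro p
    obtain ⟨hm, hi⟩ := List.mem_filter.1 (hmem p.1)
    have hm' := List.mem_range.1 hm
    have hk := p.2.2
    simp only [valid, Bool.and_eq_true]
    refine ⟨Nat.ble_eq_true_of_le (show 128 * (allRows[p.1.1]'(hlen.symm ▸ p.1.2)) + p.2.1 + 1 ≤ 65536 by omega), ?_⟩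
    generalize hM : (allRows[p.1.1]'(hlen.symm ▸ p.1.2)) = M at hi hm'
    have e0 : fR0 (code p) = Nat.mod M 8 := by
      show (128 * (allRows[p.1.1]'(hlen.symm ▸ p.1.2)) + p.2.1) / 128 % 8 = M % 8
      omega
    have e1 : fR1 (code p) = Nat.mod (Nat.div M 8) 8 := by
      show (128 * (allRows[p.1.1]'(hlen.symm ▸ p.1.2)) + p.2.1) / 1024 % 8 = M / 8 % 8
      omega
    have e2 : fR2 (code p) = Nat.div M 64 := by
      show (128 * (allRows[p.1.1]'(hlen.symm ▸ p.1.2)) + p.2.1) / 8192 % 8 = M / 64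
      omega
    rw [e0, e1, e2]
    exact hi
  let φ : Fin 168 × Fin 128 → ↥(Subgroup.centralizer ({s} : Set (SpecialLinearGroup (Fin 5) (ZMod 2)))) :=
    fun p => ⟨sl (code p), sl_mem hs (hv p)⟩
  have hinj : Function.Injective φ := by
    intro p q h
    have h' : code p = code q := sl_inj (hv p) (hv q) (congrArg Subtype.val h)
    have h1 := p.2.2
    have h2 := q.2.2
    have e1 : (allRows[p.1.1]'(hlen.symm ▸ p.1.2)) = (allRows[q.1.1]'(hlen.symm ▸ q.1.2)) := by
      have : 128 * (allRows[p.1.1]'(hlen.symm ▸ p.1.2)) + p.2.1 = 128 * (allRows[q.1.1]'(hlen.symm ▸ q.1.2)) + q.2.1 := h'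
      omega
    have e2 : p.2 = q.2 := Fin.ext (by
      have : 128 * (allRows[p.1.1]'(hlen.symm ▸ p.1.2)) + p.2.1 = 128 * (allRows[q.1.1]'(hlen.symm ▸ q.1.2)) + q.2.1 := h'
      omega)
    exact Prod.ext (Fin.ext ((List.Nodup.getElem_inj_iff hnd).1 e1)) e2
  have hbij : Function.Bijective φ := by
    refine (Nat.bijective_iff_injective_and_card φ).2 ⟨hinj, ?_⟩
    rw [Cfsg.Agent.S0445.result s hs]
    simp
  obtain ⟨p, hp⟩ := hbij.2 ⟨g, hg⟩
  exact ⟨code p, hv p, congrArg Subtype.val hp⟩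

theorem valid_zC : valid zC = true := by decide +kernel
theorem valid_oneC : valid oneC = true := by decide +kernel

theorem centre_check : (allC.all fun x => Nat.beq x oneC || Nat.beq x zC ||
    !([12544, 35200, 34946, 34960].all fun y => Nat.beq (mulC x y) (mulC y x))) = true := by
  decide +kernel

theorem centre_gens : ([12544, 35200, 34946, 34960].all valid) = true := by decide +kernel

theorem sl_zC (hs : (s : Matrix (Fin 5) (Fin 5) (ZMod 2)) = transvection 0 1 1) : sl zC = s :=
  Subtype.ext (by rw [coe_sl valid_zC, mat_zC, hs])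

theorem sl_oneC : sl oneC = 1 :=
  Subtype.ext (by rw [coe_sl valid_oneC, mat_one]; rfl)

/-- An isomorphism of centralisers gives coordinates. -/
theorem exists_setup {G : Type*} [Group G] (hs : (s : Matrix (Fin 5) (Fin 5) (ZMod 2)) = transvection 0 1 1)
    {z : G} (hz : orderOf z = 2)
    (e : (Subgroup.centralizer ({z} : Set G)) ≃*
      Subgroup.centralizer ({s} : Set (SpecialLinearGroup (Fin 5) (ZMod 2)))) :
    ∃ S : Setup G, S.z = z ∧ ∀ x (hx : valid x = true), S.ι x = (e.symm ⟨sl x, sl_mem hs hx⟩ : G) := by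
  let ι : ℕ → G := fun x => if h : valid x = true then (e.symm ⟨sl x, sl_mem hs h⟩ : G) else 1
  have hι : ∀ x (hx : valid x = true), ι x = (e.symm ⟨sl x, sl_mem hs hx⟩ : G) := fun x hx => dif_pos hx
  have hsurj : ∀ {g : G}, g ∈ Subgroup.centralizer ({z} : Set G) → ∃ x, valid x = true ∧ ι x = g := by
    intro g hg
    obtain ⟨x, hx, hxe⟩ := sl_surj hs (e ⟨g, hg⟩).2
    refine ⟨x, hx, ?_⟩
    rw [hι x hx, show (⟨sl x, sl_mem hs hx⟩ : Subgroup.centralizer ({s} : Set _)) = e ⟨g, hg⟩ from Subtype.ext hxe,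
      e.symm_apply_apply]
  have hzmem : z ∈ Subgroup.centralizer ({z} : Set G) := Subgroup.mem_centralizer_singleton_iff.2 rfl
  obtain ⟨x, hx, hxe⟩ := sl_surj hs (e ⟨z, hzmem⟩).2
  have hcomm : ∀ y, valid y = true → mulC x y = mulC y x := by
    intro y hy
    refine sl_inj (valid_mulC hx hy) (valid_mulC hy hx) ?_
    rw [sl_mul hx hy, sl_mul hy hx, hxe]
    have hc : (⟨z, hzmem⟩ : Subgroup.centralizer ({z} : Set G)) * e.symm ⟨sl y, sl_mem hs hy⟩ =
        e.symm ⟨sl y, sl_mem hs hy⟩ * ⟨z, hzmem⟩ :=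
      Subtype.ext (Subgroup.mem_centralizer_singleton_iff.1 (e.symm ⟨sl y, sl_mem hs hy⟩).2).symm
    have := congrArg (fun t => ((e t : Subgroup.centralizer ({s} : Set _)) : SpecialLinearGroup (Fin 5) (ZMod 2))) hc
    simpa using this
  have hxz : x = zC := by
    have h := of_all_allC centre_check hx
    simp only [Bool.or_eq_true, Bool.not_eq_true'] at h
    rcases h with (h | h) | h
    · exfalso
      have h1 : e ⟨z, hzmem⟩ = 1 := Subtype.ext (by rw [← hxe, Nat.eq_of_beq_eq_true h, sl_oneC]; rfl)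
      have h2 : (⟨z, hzmem⟩ : Subgroup.centralizer ({z} : Set G)) = 1 := e.injective (h1.trans (map_one e).symm)
      rw [Subgroup.mk_eq_one] at h2
      rw [h2, orderOf_one] at hz
      omega
    · exact Nat.eq_of_beq_eq_true h
    · exfalso
      have hg := List.all_eq_true.1 centre_gens
      rw [← Bool.not_eq_true] at h
      exact h (List.all_eq_true.2 fun y hy => by rw [hcomm y (hg y hy)]; exact Nat.beq_refl _)
  refine ⟨⟨z, ι, hz, ?_, ?_, fun {x} hx => (hι x hx) ▸ (e.symm ⟨sl x, sl_mem hs hx⟩).2, hsurj, ?_⟩, rfl, hι⟩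
  · intro a b ha hb
    rw [hι _ (valid_mulC ha hb), hι _ ha, hι _ hb, ← Subgroup.coe_mul, ← map_mul]
    exact congrArg (fun t => ((e.symm t : Subgroup.centralizer ({z} : Set G)) : G)) (Subtype.ext (sl_mul ha hb))
  · intro a b ha hb h
    rw [hι _ ha, hι _ hb] at h
    exact sl_inj ha hb (congrArg Subtype.val (e.symm.injective (Subtype.ext h)))
  · rw [hι _ valid_zC]
    have : (⟨sl zC, sl_mem hs valid_zC⟩ : Subgroup.centralizer ({s} : Set _)) = e ⟨z, hzmem⟩ :=
      Subtype.ext (by show sl zC = _; rw [← hxz]; exact hxe)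
    rw [this, e.symm_apply_apply]

namespace Setup

variable {G : Type*} [Group G] (S : Setup G)

theorem map_one : S.ι oneC = 1 := by
  have h := S.mul valid_oneC valid_oneC
  rw [show mulC oneC oneC = oneC by decide +kernel] at h
  exact mul_left_cancel (h.symm.trans (mul_one _).symm)

theorem eq_iff {x y : ℕ} (hx : valid x = true) (hy : valid y = true) : S.ι x = S.ι y ↔ x = y :=
  ⟨S.inj hx hy, congrArg _⟩

theorem comm_iff {x y : ℕ} (hx : valid x = true) (hy : valid y = true) :
    Commute (S.ι x) (S.ι y) ↔ mulC x y = mulC y x := by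
  rw [Commute, SemiconjBy, ← S.mul hx hy, ← S.mul hy hx]
  exact S.eq_iff (valid_mulC hx hy) (valid_mulC hy hx)

end Setup

end Cfsg.Lib.HeldType
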