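import Cfsg.Agent.Lib.HeldType.Main

/-!
In every group with this involution centraliser other than the Held group, some conjugate `s` of `z` in `O₂` of the
centraliser shares with `z` a further conjugate in the two cores.
-/

set_option autoImplicit false
set_option maxRecDepth 100000
set_option linter.style.haveILetI false
set_option linter.unusedSectionVars false

namespace Cfsg.Lib.HeldType

open Amalgam (codes)

attribute [local irreducible] tList invList tMask invMask decA decB allC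

/-- The codes of `O₂` of the centraliser. -/
def rList : List ℕ := (List.range 128).map (Nat.add oneC)

/-- They form a normal 2-subgroup. -/
def rOK : Bool :=
  rList.all (fun x => valid x && Nat.beq (mulC (mulC x x) (mulC x x)) oneC) &&
    rList.any (Nat.beq oneC) &&
    (rList.all fun x => rList.all fun y => rList.any (Nat.beq (mulC x y))) &&
    (List.range 6).all fun i => valid (codes.getD i 0) &&
      rList.all fun x => rList.any fun y => Nat.beq (mulC (codes.getD i 0) x) (mulC y (codes.getD i 0))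

theorem r_checked : rOK = true := by decide +kernel

/-- A map of one side sends a fused element of the core to one outside the four-group. -/
def witOK (D : Side) (s : ℕ → Bool) (A : List ℕ) (w : ℕ) : Bool :=
  let v := apA A D.zi
  let u := apA A w
  stabOK D.cls s A && Nat.blt w 64 && rList.any (Nat.beq (decE D.dec v)) && rList.any (Nat.beq (decE D.dec w)) &&
    rList.any (Nat.beq (decE D.dec u)) && inO D.cls s u && !Nat.beq v D.zi && !Nat.beq u 0 && !Nat.beq u D.zi &&
    !Nat.beq u v && !Nat.beq u (Nat.xor v D.zi)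

theorem wit_LFive : witOK sideA sLFive [2, 1, 4, 16, 8, 32] 32 = true := by decide +kernel

theorem wit_M24 : witOK sideA sM24 [2, 1, 4, 16, 8, 32] 32 = true := by decide +kernel

theorem oneZero_core : oneZero.A.all (fun y => rList.any (Nat.beq y)) = true := by decide +kernel

theorem oneFive_core : oneFive.A.all (fun y => rList.any (Nat.beq y)) = true := by decide +kernel

/-- Membership in `O₂` of the centraliser. -/
def InCore {G : Type*} [Group G] (z x : G) : Prop :=
  ∃ h : x ∈ Subgroup.centralizer ({z} : Set G),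
    (⟨x, h⟩ : Subgroup.centralizer ({z} : Set G)) ∈ Cfsg.pCore 2 (Subgroup.centralizer ({z} : Set G))

/-- A second conjugate `x` of `z` in the cores at `z` and at `s = g z g⁻¹`. -/
def Witness {G : Type*} [Group G] (z : G) : Prop :=
  ∃ g x : G, InCore z (g * z * g⁻¹) ∧ g * z * g⁻¹ ≠ z ∧ InCore z x ∧ InCore z (g⁻¹ * x * g) ∧ IsConj z x ∧
    x ≠ z ∧ x ≠ g * z * g⁻¹ ∧ x ≠ g * z * g⁻¹ * z

namespace Setup

variable {G : Type*} [Group G] [Finite G] (S : Setup G)

theorem inCore_ι {x : ℕ} (hx : x ∈ rList) : InCore S.z (S.ι x) := by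
  have h := r_checked
  simp only [rOK, Bool.and_eq_true, List.all_eq_true, List.any_eq_true, List.mem_range, beq_iff] at h
  obtain ⟨⟨⟨hel, ⟨o, ho, hoe⟩⟩, hmul⟩, hgen⟩ := h
  let R : Subgroup G := Subgroup.closure (S.ι '' {y | y ∈ rList})
  have hR : ∀ g, g ∈ R → ∃ y ∈ rList, S.ι y = g := by
    intro g hg
    induction hg using Subgroup.closure_induction with
    | mem a ha => exact ha
    | one => exact ⟨o, ho, by rw [← hoe, S.map_one]⟩
    | mul a b _ _ ha hb =>
      obtain ⟨a', ha', rfl⟩ := ha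
      obtain ⟨b', hb', rfl⟩ := hb
      obtain ⟨y, hy, hye⟩ := hmul a' ha' b' hb'
      exact ⟨y, hy, by rw [← hye, S.mul (hel a' ha').1 (hel b' hb').1]⟩
    | inv a _ ha =>
      obtain ⟨a', ha', rfl⟩ := ha
      obtain ⟨y, hy, hye⟩ := hmul a' ha' a' ha'
      obtain ⟨y', hy', hye'⟩ := hmul y hy a' ha'
      refine ⟨y', hy', eq_inv_of_mul_eq_one_left ?_⟩
      have hv := (hel a' ha').1
      rw [← hye', ← hye, S.mul (valid_mulC hv hv) hv, mul_assoc, ← S.mul hv hv,
        ← S.mul (valid_mulC hv hv) (valid_mulC hv hv), (hel a' ha').2, S.map_one]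
  have hn : Subgroup.centralizer ({S.z} : Set G) ≤ Subgroup.normalizer (R : Set G) := by
    refine S.cent_le fun i hi => ?_
    have hle : R.map (MulAut.conj (S.ι (codes.getD i 0))).toMonoidHom ≤ R := by
      rw [MonoidHom.map_closure, Subgroup.closure_le]
      rintro _ ⟨_, ⟨a, ha, rfl⟩, rfl⟩
      obtain ⟨y, hy, hye⟩ := (hgen i hi).2 a ha
      refine Subgroup.subset_closure ⟨y, hy, ?_⟩
      have h1 : S.ι (codes.getD i 0) * S.ι a = S.ι y * S.ι (codes.getD i 0) := by
        rw [← S.mul (hgen i hi).1 (hel a ha).1, hye, S.mul (hel y hy).1 (hgen i hi).1]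
      show S.ι y = S.ι (codes.getD i 0) * S.ι a * (S.ι (codes.getD i 0))⁻¹
      rw [h1, mul_inv_cancel_right]
    have heq := Subgroup.eq_of_le_of_card_ge hle
      (le_of_eq (Nat.card_congr (R.equivMapOfInjective _ (MulAut.conj _).injective).toEquiv))
    refine Subgroup.mem_normalizer_iff.2 fun a => ⟨fun ha => hle ⟨a, ha, by simp⟩, fun ha => ?_⟩
    rw [← heq] at ha
    obtain ⟨b, hb, hbe⟩ := ha
    have : b = a := by simpa using hbe
    exact this ▸ hb
  have hRC : R ≤ Subgroup.centralizer ({S.z} : Set G) := by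
    rw [Subgroup.closure_le]
    rintro _ ⟨y, hy, rfl⟩
    exact S.mem (hel y hy).1
  have hnorm : (R.subgroupOf (Subgroup.centralizer ({S.z} : Set G))).Normal :=
    (Subgroup.normal_subgroupOf_iff_le_normalizer hRC).2 hn
  have hp : IsPGroup 2 (R.subgroupOf (Subgroup.centralizer ({S.z} : Set G))) := fun g => by
    obtain ⟨y, hy, hye⟩ := hR _ (Subgroup.mem_subgroupOf.1 g.2)
    have hv := (hel y hy).1
    refine ⟨2, Subtype.ext (Subtype.ext ?_)⟩
    rw [SubgroupClass.coe_pow, SubgroupClass.coe_pow, ← hye, show 2 ^ 2 = 2 + 2 from rfl, pow_add, pow_two,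
      ← S.mul hv hv, ← S.mul (valid_mulC hv hv) (valid_mulC hv hv), (hel y hy).2, S.map_one]
    rfl
  exact ⟨S.mem (hel x hx).1, Cfsg.Lib.Core.le_pCore' hnorm hp
    (Subgroup.mem_subgroupOf.2 (Subgroup.subset_closure ⟨x, hx, rfl⟩))⟩

theorem witness_of_side {D : Side} {s : ℕ → Bool} (K : SideOK D s) (hs : ∀ k < 8, s k = true ↔ S.InS k)
    {A : List ℕ} {w : ℕ} (h : witOK D s A w = true) : Witness S.z := by
  simp only [witOK, Bool.and_eq_true, Bool.not_eq_true', List.any_eq_true, beq_iff] at h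
  obtain ⟨⟨⟨⟨⟨⟨⟨⟨⟨⟨hA, hw⟩, ⟨rv, hrv, hev⟩⟩, ⟨rw', hrw, hew⟩⟩, ⟨ru, hru, heu⟩⟩, hO⟩, hvz⟩, hu0⟩, huz⟩, huv⟩, huvz⟩ := h
  have hw64 : w < 64 := Nat.le_of_ble_eq_true hw
  obtain ⟨n, -, hn⟩ := S.exists_of_stab K hs hA
  obtain ⟨hmat, -, -⟩ := stabOK_spec hA
  obtain ⟨hzi, hzd, -⟩ := K.lifts_spec
  have hze : S.e D.dec D.zi = S.z := by rw [e, hzd, S.map_z]
  have hv64 := apA_lt hmat D.zi
  have hu64 := apA_lt hmat w
  have hs' : n * S.z * n⁻¹ = S.e D.dec (apA A D.zi) := by rw [← hze]; exact hn _ hzi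
  have hne : ∀ a b : ℕ, Nat.beq a b = false → a ≠ b := fun a b h e => by
    rw [e, Nat.beq_refl] at h; exact Bool.noConfusion h
  refine ⟨n, S.e D.dec (apA A w), ?_, ?_, ?_, ?_, ?_, ?_, ?_, ?_⟩
  · rw [hs', e, hev]; exact S.inCore_ι hrv
  · rw [hs', ← hze]
    exact fun he => hne _ _ hvz (S.e_inj K.good hv64 hzi he)
  · rw [e, heu]; exact S.inCore_ι hru
  · rw [show n⁻¹ * S.e D.dec (apA A w) * n = S.e D.dec w by rw [← hn w hw64]; group, e, hew]
    exact S.inCore_ι hrw
  · obtain ⟨hk, hiff⟩ := S.isConj_e K.cls_ok hu64 (hne _ _ hu0)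
    rw [inO, hs _ hk] at hO
    exact hiff.2 hO
  · rw [← hze]
    exact fun he => hne _ _ huz (S.e_inj K.good hu64 hzi he)
  · rw [hs']
    exact fun he => hne _ _ huv (S.e_inj K.good hu64 hv64 he)
  · rw [hs', ← hze, S.e_mul K.good hv64 hzi]
    exact fun he => hne _ _ huvz (S.e_inj K.good hu64 (Nat.xor_lt_two_pow (n := 6) hv64 hzi) he)

theorem witness_of_one {d : OneData} (hA : d.subOK = true) (hs : ∀ k < 8, S.InS k ↔ k = 3 ∨ k = d.k)
    (hax : d.axisOK = true) (hc : d.A.all (fun y => rList.any (Nat.beq y)) = true) : Witness S.z := by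
  have hcore : ∀ i < 16, InCore S.z (OneData.el S d i) := fun i hi => by
    obtain ⟨r, hr, hre⟩ := List.any_eq_true.1 (List.all_eq_true.1 hc _ (OneData.getD_mem hA hi))
    rw [OneData.el, beq_iff.1 hre]
    exact S.inCore_ι hr
  have hb : ∀ i < 16, i ≠ 0 → OneData.Block S (OneData.el S d i) := fun i hi h0 =>
    (OneData.block_iff hA hs).2 ⟨i, hi, h0, rfl⟩
  obtain ⟨g, hg⟩ := isConj_iff.1 (hb 2 (by norm_num) (by norm_num)).1
  have htop := (Subgroup.eq_top_iff' _).1 (OneData.stab_eq_top hA hs hax) g⁻¹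
  have hx : OneData.Block S (g⁻¹ * OneData.el S d 4 * g) := by
    simpa using (htop (OneData.el S d 4)).1 (hb 4 (by norm_num) (by norm_num))
  obtain ⟨j, hj, -, hje⟩ := (OneData.block_iff hA hs).1 hx
  have he1 := OneData.el_one hA (S := S)
  refine ⟨g, OneData.el S d 4, ?_, ?_, hcore 4 (by norm_num), hje ▸ hcore j hj,
    (hb 4 (by norm_num) (by norm_num)).1, ?_, ?_, ?_⟩
  · rw [hg]; exact hcore 2 (by norm_num)
  · rw [hg, ← he1]
    exact fun he => absurd (OneData.el_inj hA (by norm_num) (by norm_num) he) (by norm_num)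
  · rw [← he1]
    exact fun he => absurd (OneData.el_inj hA (by norm_num) (by norm_num) he) (by norm_num)
  · rw [hg]
    exact fun he => absurd (OneData.el_inj hA (by norm_num) (by norm_num) he) (by norm_num)
  · rw [hg, ← he1, OneData.el_mul hA (by norm_num) (by norm_num)]
    exact fun he => absurd (OneData.el_inj hA (by norm_num) (Nat.xor_lt_two_pow (n := 4) (by norm_num) (by norm_num)) he)
      (by decide)

end Setup

/-- A group with this involution centraliser and `z` not weakly closed in it is the Held group or has a witness. -/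
theorem iso_He_or_witness {G : Type*} [Group G] [Finite G] (s : Matrix.SpecialLinearGroup (Fin 5) (ZMod 2))
    (hs : (s : Matrix (Fin 5) (Fin 5) (ZMod 2)) = Matrix.transvection 0 1 1) (z : G) (hz : orderOf z = 2)
    (e : Subgroup.centralizer ({z} : Set G) ≃*
      Subgroup.centralizer ({s} : Set (Matrix.SpecialLinearGroup (Fin 5) (ZMod 2))))
    {g : G} (hg : g * z * g⁻¹ ∈ Subgroup.centralizer ({z} : Set G)) (hne : g * z * g⁻¹ ≠ z) :
    Cfsg.Spor.IsoHe G ∨ Witness z := by
  obtain ⟨S, S', rfl, hS'z, hdual⟩ := Setup.exists_dual hz s hs e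
  obtain ⟨b0, b1, b2, b5, b7, hch, hmem⟩ := S.seven_cases
  simp only [List.mem_cons, Prod.mk.injEq, List.not_mem_nil, or_false] at hmem
  rcases hmem with ⟨rfl, rfl, rfl, rfl, rfl⟩ | ⟨rfl, rfl, rfl, rfl, rfl⟩ | ⟨rfl, rfl, rfl, rfl, rfl⟩ |
    ⟨rfl, rfl, rfl, rfl, rfl⟩ | ⟨rfl, rfl, rfl, rfl, rfl⟩ | ⟨rfl, rfl, rfl, rfl, rfl⟩ | ⟨rfl, rfl, rfl, rfl, rfl⟩
  · exfalso
    have hzo := pow_orderOf_eq_one S.z
    rw [S.hz, pow_two] at hzo
    have h2 : g * S.z * g⁻¹ * (g * S.z * g⁻¹) = 1 := by
      rw [show ∀ a b : G, a * b * a⁻¹ * (a * b * a⁻¹) = a * (b * b) * a⁻¹ from fun a b => by group, hzo]; group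
    have h1 : g * S.z * g⁻¹ ≠ 1 := fun e1 => by
      have hz1 : S.z = 1 := by simpa using e1
      have := S.hz
      rw [hz1, orderOf_one] at this
      omega
    obtain ⟨n, hn, hne'⟩ := S.exists_entry hg h2 h1
    have hk : entK n = 3 := by
      have h : ∀ k < 8, chosen false false false false false k = true → k = 3 := by decide +kernel
      exact h _ (Setup.entry_valid hn).2.2.1 ((hch _ (Setup.entry_valid hn).2.2.1).2
        ((S.isConj_ι_iff hn).1 (hne' ▸ isConj_iff.2 ⟨g, rfl⟩)))
    obtain ⟨c, hc, hce⟩ := S.conj_rep hn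
    rw [hne', hk, Setup.rep, show reps.getD 3 0 = zC by decide +kernel, S.map_z,
      Subgroup.mem_centralizer_singleton_iff.1 hc, mul_inv_cancel_right] at hce
    exact hne hce.symm
  · refine Or.inr (S.witness_of_one oneZero_sub (fun j hj => ?_) oneZero_axis oneZero_core)
    rw [← hch j hj]
    interval_cases j <;> decide
  · refine Or.inr (S.witness_of_one oneFive_sub (fun j hj => ?_) oneFive_axis oneFive_core)
    rw [← hch j hj]
    interval_cases j <;> decide
  · exact Or.inr (S.witness_of_side ⟨goodA, clsA_checked, stabA_LFive, liftsA, glueA, rfl⟩ hch wit_LFive)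
  · exact Or.inr (S.witness_of_side ⟨goodA, clsA_checked, stabA_M24, liftsA, glueA, rfl⟩ hch wit_M24)
  · refine Or.inr (hS'z ▸ S'.witness_of_side ⟨goodA, clsA_checked, stabA_M24, liftsA, glueA, rfl⟩
      (fun k hk => ?_) wit_M24)
    rw [hdual k hk, ← hch _ (by interval_cases k <;> decide)]
    interval_cases k <;> decide
  · exact Or.inl (S.iso_He hch)

end Cfsg.Lib.HeldType
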