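import Cfsg.Agent.Lib.HeldType.Hom

/-!
# The generated subgroup is the whole group: the descent
-/

set_option autoImplicit false
set_option maxRecDepth 100000
set_option linter.style.haveILetI false
set_option linter.unusedSectionVars false

namespace Cfsg.Lib.HeldType

open Amalgam (wv)

attribute [local irreducible] tList invList tMask invMask decA decB allC

section Dihedral

variable {G : Type*} [Group G]

/-- Two involutions are conjugate by a power of their product, or have a central involution `i` in the group they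
generate, with the two kinds of conjugacy this gives. -/
theorem dihedral_cases [Finite G] {a b : G} (ha : a * a = 1) (hb : b * b = 1) :
    (∃ e : ℕ, (a * b) ^ e * a * ((a * b) ^ e)⁻¹ = b) ∨
      ∃ i : G, i ≠ 1 ∧ i * i = 1 ∧ i * a = a * i ∧ i * b = b * i ∧ (∃ j : ℕ, i = (a * b) ^ j) ∧
        ((∃ e : ℕ, (a * b) ^ e * (a * i) * ((a * b) ^ e)⁻¹ = b) ∨
          (∃ e : ℕ, (a * b) ^ e * a * ((a * b) ^ e)⁻¹ = a * i) ∧
            ∃ e : ℕ, (a * b) ^ e * b * ((a * b) ^ e)⁻¹ = b * i) := by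
  set d := a * b with hd
  have hai : a⁻¹ = a := inv_eq_of_mul_eq_one_right ha
  have hbi : b⁻¹ = b := inv_eq_of_mul_eq_one_right hb
  clear_value d
  have hda : ∀ e : ℕ, a * d ^ e = (d ^ e)⁻¹ * a := by
    intro e
    induction e with
    | zero => simp
    | succ e ih =>
      have h1 : a * d = d⁻¹ * a := by
        rw [hd, mul_inv_rev, hai, hbi, ← mul_assoc, ha, one_mul, mul_assoc, ha, mul_one]
      calc a * d ^ (e + 1) = a * d ^ e * d := by rw [pow_succ, mul_assoc]
        _ = (d ^ e)⁻¹ * (d⁻¹ * a) := by rw [ih, mul_assoc, h1]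
        _ = (d ^ (e + 1))⁻¹ * a := by rw [← mul_assoc, ← mul_inv_rev, ← pow_succ']
  have hdb : ∀ e : ℕ, b * d ^ e = (d ^ e)⁻¹ * b := by
    intro e
    have hb' : b = a * d := by rw [hd, ← mul_assoc, ha, one_mul]
    calc b * d ^ e = a * d ^ e * d := by
          rw [hb', mul_assoc, mul_assoc, (Commute.self_pow d e).eq]
      _ = (d ^ e)⁻¹ * a * d := by rw [hda]
      _ = (d ^ e)⁻¹ * b := by rw [mul_assoc, ← hb']
  have conjA : ∀ e : ℕ, d ^ e * a * (d ^ e)⁻¹ = d ^ (2 * e) * a := by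
    intro e
    have h1 : a * (d ^ e)⁻¹ = d ^ e * a := by
      rw [mul_inv_eq_iff_eq_mul, mul_assoc, hda, mul_inv_cancel_left]
    rw [mul_assoc, h1, ← mul_assoc, ← pow_add, two_mul]
  have conjB : ∀ e : ℕ, d ^ e * b * (d ^ e)⁻¹ = d ^ (2 * e) * b := by
    intro e
    have h1 : b * (d ^ e)⁻¹ = d ^ e * b := by
      rw [mul_inv_eq_iff_eq_mul, mul_assoc, hdb, mul_inv_cancel_left]
    rw [mul_assoc, h1, ← mul_assoc, ← pow_add, two_mul]
  have hn : d ^ orderOf d = 1 := pow_orderOf_eq_one d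
  have hpos := orderOf_pos d
  have hbda : b = d⁻¹ * a := by rw [hd, mul_inv_rev, hai, hbi, mul_assoc, ha, mul_one]
  rcases Nat.even_or_odd (orderOf d) with ⟨m, hm⟩ | ⟨m, hm⟩
  swap
  · refine Or.inl ⟨m, ?_⟩
    rw [conjA, hbda]
    congr 1
    exact eq_inv_of_mul_eq_one_left (by rw [← pow_succ, ← hm, hn])
  refine Or.inr ⟨d ^ m, ?_, ?_, ?_, ?_, ⟨m, rfl⟩, ?_⟩
  · intro h
    have := Nat.le_of_dvd (by omega) (orderOf_dvd_of_pow_eq_one h)
    omega
  · rw [← pow_add, ← hm, hn]
  · rw [hda]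
    congr 1
    exact eq_inv_of_mul_eq_one_left (by rw [← pow_add, ← hm, hn])
  · rw [hdb]
    congr 1
    exact eq_inv_of_mul_eq_one_left (by rw [← pow_add, ← hm, hn])
  have hinv : (d ^ m)⁻¹ = d ^ m := inv_eq_of_mul_eq_one_right (by rw [← pow_add, ← hm, hn])
  rcases Nat.even_or_odd m with ⟨l, hl⟩ | ⟨l, hl⟩
  · refine Or.inr ⟨⟨l, ?_⟩, ⟨l, ?_⟩⟩
    · rw [conjA, hda, hinv, hl, two_mul]
    · rw [conjB, hdb, hinv, hl, two_mul]
  · refine Or.inl ⟨l, ?_⟩
    have hcomm : d ^ l * d ^ m = d ^ m * d ^ l := (Commute.refl d).pow_pow l m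
    have : d ^ l * (a * d ^ m) * (d ^ l)⁻¹ = d ^ m * (d ^ l * a * (d ^ l)⁻¹) := by
      rw [hda, hinv, ← mul_assoc (d ^ l), hcomm]
      group
    rw [this, conjA, ← mul_assoc, ← pow_add, hbda]
    congr 1
    refine eq_inv_of_mul_eq_one_left ?_
    rw [← pow_succ, show m + 2 * l + 1 = m + m by omega, ← hm, hn]

end Dihedral

/-- A fused vector with a word moving `z` to it and the preimages of a basis. -/
structure Mover where
  /-- the coordinate -/
  v : ℕ
  /-- a word moving `z` to it -/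
  word : List ℕ
  /-- the basis pulled back -/
  pre : List ℕ

/-- A node of the descent. -/
structure Node where
  /-- whether it lies in the second side -/
  side : Bool
  /-- the basis -/
  basis : List ℕ
  /-- the vector whose orbit lands in the generated subgroup -/
  main : Mover
  /-- movers for the fused translates of `z` -/
  trans : List Mover
  /-- extensions: a code, the child, and a conjugating code -/
  ext : List (ℕ × ℕ × ℕ)

/-- The nonzero vectors of the span. -/
def span (b : List ℕ) : List ℕ := (b.foldl (fun l x => l ++ l.map (Nat.xor x)) [0]).filter fun x => !Nat.beq x 0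

/-- The mover is right. -/
def Mover.ok (D : Side) (L : Letters) (b : List ℕ) (W : Mover) : Bool :=
  Nat.blt W.v 64 && L.inDom W.word && W.word.all (fun l => Nat.blt l 8) && Nat.beq (apA (L.eval W.word).2 D.zi) W.v &&
    Nat.beq W.pre.length b.length &&
    (List.range b.length).all fun j =>
      Nat.blt (W.pre.getD j 0) 64 && Nat.beq (apA (L.eval W.word).2 (W.pre.getD j 0)) (b.getD j 0)

/-- Two members with the same index lie in classes told apart by their numbers of square roots, so no code carries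
`xs` to `ys`. -/
def noConj (D : Side) (xs ys : List ℕ) : Bool :=
  (List.range xs.length).any fun j =>
    let p := rootPairs.getD (D.cls.getD (xs.getD j 0) 9) (0, 0)
    let q := rootPairs.getD (D.cls.getD (ys.getD j 0) 9) (0, 0)
    !Nat.beq (xs.getD j 0) 0 && !Nat.beq (ys.getD j 0) 0 && (!Nat.beq p.1 q.1 || !Nat.beq p.2 q.2)

/-- The codes of the members of the span. -/
def spanCodes (D : Side) (b : List ℕ) : List ℕ := (span b).map (decE D.dec)

/-- The checks at a node, given the bases of all nodes. -/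
def Node.ok (N : Node) (D : Side) (L : Letters) (s : ℕ → Bool) (fm : ℕ) (kids : List (List ℕ)) : Bool :=
  N.basis.all (fun x => Nat.blt x 64) &&
    (span N.basis).all (fun q => Nat.blt q 64 && !inO D.cls s q) &&
    N.main.ok D L N.basis && noConj D N.basis N.main.pre &&
    (span N.basis).all (fun q =>
      !inO D.cls s (Nat.xor D.zi q) || N.trans.any fun W => W.ok D L N.basis && Nat.beq W.v (Nat.xor D.zi q) &&
        noConj D N.main.pre W.pre && (!inO D.cls s (Nat.xor N.main.v q) || noConj D N.basis W.pre)) &&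
    invList.all fun n =>
      let k := entX n
      !(N.basis.all fun x => Nat.beq (mulC k (decE D.dec x)) (mulC (decE D.dec x) k)) ||
        inE (spanCodes D N.basis) k ||
        (oneC :: spanCodes D N.basis).any (fun q => Nat.testBit fm (mulC k q)) ||
        N.ext.any fun e => Nat.beq e.1 k && valid e.2.2 && Nat.blt e.2.1 kids.length &&
          let pool := spanCodes D N.basis ++ (oneC :: spanCodes D N.basis).map (mulC k)
          (kids.getD e.2.1 []).all fun x => valid x && pool.any fun y => Nat.beq (mulC e.2.2 y) (mulC x e.2.2)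

namespace Amal

variable {G : Type*} [Group G] [Finite G] {S : Setup G} {c : Case} (A : Amal S c)

/-- Conjugates of `z` commuting with the listed elements lie in the generated subgroup. -/
def Claim (P : List ℕ) : Prop :=
  ∀ u : G, IsConj S.z u → (∀ x ∈ P, u * S.ι x = S.ι x * u) → u ∈ A.M

theorem conj_mem_of_eq {h m : G} (hm : m ∈ A.M) (he : h * S.z * h⁻¹ = m * S.z * m⁻¹) : h ∈ A.M := by
  have hc : m⁻¹ * h ∈ Subgroup.centralizer ({S.z} : Set G) := by
    refine Subgroup.mem_centralizer_singleton_iff.2 ?_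
    calc m⁻¹ * h * S.z = m⁻¹ * (h * S.z * h⁻¹) * h := by group
      _ = S.z * (m⁻¹ * h) := by rw [he]; group
  simpa using mul_mem hm (A.cent_le hc)

/-- Every fused involution of the generated subgroup is conjugate to `z` in it. -/
def Fused : Prop := ∀ u : G, u ∈ A.M → IsConj S.z u → ∃ m ∈ A.M, m * S.z * m⁻¹ = u

theorem cent_le_of_fused (hF : A.Fused) {u : G} (hu : u ∈ A.M) (hc : IsConj S.z u) :
    Subgroup.centralizer ({u} : Set G) ≤ A.M := by
  intro g hg
  obtain ⟨m, hm, hme⟩ := hF u hu hc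
  have h1 : g * m ∈ A.M := A.conj_mem_of_eq hm (by
    calc g * m * S.z * (g * m)⁻¹ = g * (m * S.z * m⁻¹) * g⁻¹ := by group
      _ = m * S.z * m⁻¹ := by rw [hme, Subgroup.mem_centralizer_singleton_iff.1 hg, mul_inv_cancel_right])
  simpa using mul_mem h1 (inv_mem hm)

end Amal

namespace Node

variable {G : Type*} [Group G] [Finite G] {S : Setup G} {c : Case} (A : Amal S c)

theorem claim_of_ok {fm : ℕ} (hfm : ∀ x, fm.testBit x = true → ∃ m ∈ invList, entX m = x ∧ c.s (entK m) = true)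
    {N : Node} {D : Side} {L : Letters} {gl : List ℕ} {kids : List (List ℕ)}
    (P : Split S D c.s gl) (KD : SideOK D c.s) (hs : ∀ k < 8, c.s k = true ↔ S.InS k)
    (hL : L.check D c.s gl = true) (hx : A.g L.extra = S.pval D P.y (L.val.getD L.extra pone)) (hF : A.Fused)
    (h : N.ok D L c.s fm kids = true) (hkids : ∀ e ∈ N.ext, e.2.1 < kids.length → A.Claim (kids.getD e.2.1 [])) :
    A.Claim (N.basis.map (decE D.dec)) := by
  classical
  simp only [Node.ok, Bool.and_eq_true, List.all_eq_true, beq_iff, Bool.not_eq_true', Bool.or_eq_true,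
    List.any_eq_true] at h
  obtain ⟨⟨⟨⟨⟨hb, hspan⟩, hmain⟩, hnc⟩, htr⟩, hext⟩ := h
  set b := N.basis
  have hb64 : ∀ x ∈ b, x < 64 := fun x hx => Nat.le_of_ble_eq_true (hb x hx)
  have hq64 : ∀ q ∈ span b, q < 64 := fun q hq => Nat.le_of_ble_eq_true (hspan q hq).1
  have hvalid : ∀ a, a < 64 → valid (decE D.dec a) = true := fun a ha =>
    (KD.good.valid_mem (KD.good.mem_of_lt ha)).1
  have hne0 : ∀ q ∈ span b, q ≠ 0 := fun q hq h0 => by
    have := (List.mem_filter.1 hq).2
    rw [h0] at this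
    exact absurd this (by decide)
  have hO : ∀ v < 64, v ≠ 0 → (inO D.cls c.s v = true ↔ IsConj S.z (S.e D.dec v)) := fun v hv h0 => by
    obtain ⟨hk, hiff⟩ := S.isConj_e KD.cls_ok hv h0
    rw [inO, hs _ hk, hiff]
  obtain ⟨hzi, hzd, -⟩ := KD.lifts_spec
  have hze : S.e D.dec D.zi = S.z := by rw [Setup.e, hzd, S.map_z]
  let H := Subgroup.centralizer (S.e D.dec '' {x | x ∈ b} : Set G)
  have hH : ∀ {g : G}, g ∈ H ↔ ∀ x ∈ b, g * S.e D.dec x = S.e D.dec x * g := by
    intro g
    rw [Subgroup.mem_centralizer_iff]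
    refine ⟨fun h' x hx' => (h' _ ⟨x, hx', rfl⟩).symm, ?_⟩
    rintro h' _ ⟨x, hx', rfl⟩
    exact (h' x hx').symm
  -- movers
  have hmov : ∀ W : Mover, W.ok D L b = true → W.v < 64 ∧ ∃ m ∈ A.M, m * S.z * m⁻¹ = S.e D.dec W.v ∧
      ∀ j < b.length, W.pre.getD j 0 < 64 ∧ m * S.e D.dec (W.pre.getD j 0) * m⁻¹ = S.e D.dec (b.getD j 0) := by
    intro W hW
    simp only [Mover.ok, Bool.and_eq_true, List.all_eq_true, beq_iff, List.mem_range] at hW
    obtain ⟨⟨⟨⟨⟨hv, hdom⟩, h8⟩, hz⟩, -⟩, hpre⟩ := hW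
    obtain ⟨hp, hwv⟩ := S.wv_eval KD hs P hL A.g A.cent hx W.word hdom
    have hact := Amal.acts_pval KD hs P hp
    refine ⟨Nat.le_of_ble_eq_true hv, S.pval D P.y (L.eval W.word), ?_, ?_, fun j hj => ?_⟩
    · rw [← hwv]
      exact list_prod_mem fun a ha => by
        obtain ⟨l, hl, rfl⟩ := List.mem_map.1 ha
        exact A.g_mem (Nat.le_of_ble_eq_true (h8 l hl))
    · have := hact D.zi hzi
      rwa [hz, hze] at this
    · obtain ⟨h1, h2⟩ := hpre j hj
      refine ⟨Nat.le_of_ble_eq_true h1, ?_⟩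
      rw [hact _ (Nat.le_of_ble_eq_true h1), h2]
  -- no conjugation
  have hnoconj : ∀ xs ys : List ℕ, noConj D xs ys = true → (∀ j < xs.length, xs.getD j 0 < 64 ∧ ys.getD j 0 < 64) →
      ∀ g ∈ Subgroup.centralizer ({S.z} : Set G),
        (∀ j < xs.length, g * S.e D.dec (xs.getD j 0) * g⁻¹ = S.e D.dec (ys.getD j 0)) → False := by
    intro xs ys hno hlt g hg hall
    obtain ⟨j, hj, hjne⟩ := List.any_eq_true.1 hno
    have hj' := List.mem_range.1 hj
    simp only [Bool.and_eq_true, Bool.or_eq_true, Bool.not_eq_true', Bool.eq_false_iff, ne_eq, beq_iff] at hjne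
    obtain ⟨⟨hx0, hy0⟩, hne⟩ := hjne
    have hrep : ∀ a < 64, a ≠ 0 → D.cls.getD a 9 < 8 ∧ ∃ d ∈ Subgroup.centralizer ({S.z} : Set G),
        d * S.rep (D.cls.getD a 9) * d⁻¹ = S.e D.dec a := by
      intro a ha h0
      have h := List.all_eq_true.1 KD.cls_ok a (List.mem_range.2 ha)
      simp only [Bool.or_eq_true, beq_iff, h0, false_or, List.any_eq_true, Bool.and_eq_true] at h
      obtain ⟨m, hm, hmx, hmk⟩ := h
      obtain ⟨d, hd, hde⟩ := S.conj_rep hm
      rw [← hmk]
      exact ⟨(Setup.entry_valid hm).2.2.1, d, hd, by rw [hde, Setup.e, hmx]⟩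
    obtain ⟨hk1, d1, hd1, he1⟩ := hrep _ (hlt j hj').1 hx0
    obtain ⟨hk2, d2, hd2, he2⟩ := hrep _ (hlt j hj').2 hy0
    set w := d2⁻¹ * (g * d1) with hw
    have hwC : w ∈ Subgroup.centralizer ({S.z} : Set G) := mul_mem (inv_mem hd2) (mul_mem hg hd1)
    have hwz : w * S.z * w⁻¹ = S.z := by rw [Subgroup.mem_centralizer_singleton_iff.1 hwC, mul_inv_cancel_right]
    have hwr : w * S.rep (D.cls.getD (xs.getD j 0) 9) * w⁻¹ = S.rep (D.cls.getD (ys.getD j 0) 9) := by
      calc w * S.rep (D.cls.getD (xs.getD j 0) 9) * w⁻¹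
          = d2⁻¹ * (g * (d1 * S.rep (D.cls.getD (xs.getD j 0) 9) * d1⁻¹) * g⁻¹) * d2 := by rw [hw]; group
        _ = S.rep (D.cls.getD (ys.getD j 0) 9) := by rw [he1, hall j hj', ← he2]; group
    have e1 := Setup.ncard_roots_conj S.z (S.rep (D.cls.getD (xs.getD j 0) 9)) w
    have e2 := Setup.ncard_roots_conj (S.rep (D.cls.getD (xs.getD j 0) 9)) S.z w
    rw [hwz, hwr] at e1 e2
    rcases hne with hne | hne
    · exact hne (by rw [← (S.roots_rep hk1).1, ← (S.roots_rep hk2).1, e1])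
    · exact hne (by rw [← (S.roots_rep hk1).2, ← (S.roots_rep hk2).2, e2])
  have hbget : ∀ j < b.length, b.getD j 0 ∈ b := fun j hj => by
    rw [List.getD_eq_getElem?_getD, List.getElem?_eq_getElem hj, Option.getD_some]
    exact List.getElem_mem _
  have hHb : ∀ g ∈ H, ∀ j < b.length, g * S.e D.dec (b.getD j 0) * g⁻¹ = S.e D.dec (b.getD j 0) := fun g hg j hj => by
    rw [hH.1 hg _ (hbget j hj), mul_inv_cancel_right]
  -- the span is central in `H`
  have hHspan : ∀ g ∈ H, ∀ q ∈ (0 :: span b), g * S.e D.dec q = S.e D.dec q * g := by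
    intro g hg
    have key : ∀ (l acc : List ℕ), (∀ x ∈ l, x ∈ b) → (∀ q ∈ acc, q < 64 ∧ g * S.e D.dec q = S.e D.dec q * g) →
        ∀ q ∈ l.foldl (fun l x => l ++ l.map (Nat.xor x)) acc, q < 64 ∧ g * S.e D.dec q = S.e D.dec q * g := by
      intro l
      induction l with
      | nil => exact fun acc _ h' => h'
      | cons x l ih =>
        intro acc hl hacc
        refine ih _ (fun y hy => hl y (List.mem_cons_of_mem _ hy)) fun q hq => ?_
        rcases List.mem_append.1 hq with hq | hq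
        · exact hacc q hq
        · obtain ⟨r, hr, rfl⟩ := List.mem_map.1 hq
          have hxb := hl x List.mem_cons_self
          obtain ⟨hr64, hrc⟩ := hacc r hr
          refine ⟨Nat.xor_lt_two_pow (n := 6) (hb64 x hxb) hr64, ?_⟩
          rw [← S.e_mul KD.good (hb64 x hxb) hr64, ← mul_assoc, hH.1 hg x hxb, mul_assoc, hrc, mul_assoc]
    intro q hq
    rcases List.mem_cons.1 hq with rfl | hq
    · rw [S.e_zero KD.good, mul_one, one_mul]
    · refine (key b [0] (fun x hx' => hx') (fun r hr => ?_) q (List.mem_filter.1 hq).1).2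
      rw [List.mem_singleton.1 hr, S.e_zero KD.good]
      exact ⟨by norm_num, by simp⟩
  have hv64 : N.main.v < 64 := (hmov _ hmain).1
  obtain ⟨-, n, hn, hnz, hnpre⟩ := hmov _ hmain
  have hzH : S.z ∈ H := hH.2 fun x hx' => by
    rw [← hze, S.eSub_comm KD.good (S.e_mem KD.good hzi) (S.e_mem KD.good (hb64 x hx'))]
  have hvH : S.e D.dec N.main.v ∈ H := hH.2 fun x hx' =>
    S.eSub_comm KD.good (S.e_mem KD.good hv64) (S.e_mem KD.good (hb64 x hx'))
  have hz2 : S.z * S.z = 1 := by rw [← hze]; exact S.e_sq KD.good hzi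
  -- the orbit of the main vector lands in the subgroup
  have horb : ∀ g ∈ H, g * S.e D.dec N.main.v * g⁻¹ ∈ A.M := by
    intro g hg
    by_contra hout
    set u := g * S.e D.dec N.main.v * g⁻¹ with hu
    have huH : u ∈ H := mul_mem (mul_mem hg hvH) (inv_mem hg)
    have huz : IsConj S.z u := isConj_iff.2 ⟨g * n, by rw [hu, ← hnz]; group⟩
    have hu2 : u * u = 1 := by
      rw [hu, show ∀ a : G, g * a * g⁻¹ * (g * a * g⁻¹) = g * (a * a) * g⁻¹ from fun a => by group,
        S.e_sq KD.good hv64]; group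
    -- no conjugacy with `z`
    have hA : ∀ e ∈ H, e * S.z * e⁻¹ ≠ u := by
      intro e he heq
      refine hnoconj _ _ hnc (fun j hj => ⟨hb64 _ (hbget j hj), (hnpre j hj).1⟩) (n⁻¹ * (g⁻¹ * e)) ?_ fun j hj => ?_
      · refine Subgroup.mem_centralizer_singleton_iff.2 (mul_inv_eq_iff_eq_mul.1 ?_)
        calc n⁻¹ * (g⁻¹ * e) * S.z * (n⁻¹ * (g⁻¹ * e))⁻¹ = n⁻¹ * (g⁻¹ * (e * S.z * e⁻¹) * g) * n := by group
          _ = n⁻¹ * S.e D.dec N.main.v * n := by rw [heq, hu]; group
          _ = S.z := by rw [← hnz]; group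
      · calc n⁻¹ * (g⁻¹ * e) * S.e D.dec (b.getD j 0) * (n⁻¹ * (g⁻¹ * e))⁻¹
            = n⁻¹ * (g⁻¹ * e * S.e D.dec (b.getD j 0) * (g⁻¹ * e)⁻¹) * n := by group
          _ = n⁻¹ * S.e D.dec (b.getD j 0) * n := by rw [hHb _ (mul_mem (inv_mem hg) he) j hj]
          _ = S.e D.dec (N.main.pre.getD j 0) := by rw [← (hnpre j hj).2]; group
    -- translates of `z`
    have hB : ∀ q ∈ span b, (∀ e ∈ H, e * (S.z * S.e D.dec q) * e⁻¹ ≠ u) ∧
        ¬ ((∃ e ∈ H, e * S.z * e⁻¹ = S.z * S.e D.dec q) ∧ ∃ e ∈ H, e * u * e⁻¹ = u * S.e D.dec q) := by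
      intro q hq
      have hzq : S.z * S.e D.dec q = S.e D.dec (Nat.xor D.zi q) := by
        rw [← hze, S.e_mul KD.good hzi (hq64 q hq)]
      have hzq64 : Nat.xor D.zi q < 64 := Nat.xor_lt_two_pow (n := 6) hzi (hq64 q hq)
      have hzq0 : Nat.xor D.zi q ≠ 0 := by
        intro h0
        have hzq' : D.zi = q := Nat.xor_eq_zero_iff.1 h0
        have hnf := (hspan q hq).2
        rw [← hzq', Bool.eq_false_iff] at hnf
        exact hnf ((hO D.zi hzi (hzq' ▸ hne0 q hq)).2 (by rw [hze]))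
      rcases htr q hq with hnf | ⟨W, -, ⟨⟨hW, hWv⟩, hW1⟩, hW2⟩
      · have hnf' : ¬ IsConj S.z (S.z * S.e D.dec q) := by
          rw [hzq, ← hO _ hzq64 hzq0]
          rw [Bool.eq_false_iff] at hnf
          exact hnf
        exact ⟨fun e _ heq => hnf' (huz.trans (isConj_iff.2 ⟨e, heq⟩).symm),
          fun ⟨⟨e, _, heq⟩, _⟩ => hnf' (isConj_iff.2 ⟨e, heq⟩)⟩
      obtain ⟨-, w, hw, hwz, hwpre⟩ := hmov W hW
      rw [hWv] at hwz
      refine ⟨fun e he heq => ?_, ?_⟩
      · refine hnoconj _ _ hW1 (fun j hj => ?_) (w⁻¹ * (e⁻¹ * g * n)) ?_ fun j hj => ?_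
        · have hj' : j < b.length := by
            simp only [Mover.ok, Bool.and_eq_true, beq_iff] at hmain
            omega
          exact ⟨(hnpre j hj').1, (hwpre j hj').1⟩
        · refine Subgroup.mem_centralizer_singleton_iff.2 (mul_inv_eq_iff_eq_mul.1 ?_)
          calc w⁻¹ * (e⁻¹ * g * n) * S.z * (w⁻¹ * (e⁻¹ * g * n))⁻¹
              = w⁻¹ * (e⁻¹ * (g * (n * S.z * n⁻¹) * g⁻¹) * e) * w := by group
            _ = w⁻¹ * (e⁻¹ * (e * (S.z * S.e D.dec q) * e⁻¹) * e) * w := by rw [hnz, ← hu, heq]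
            _ = w⁻¹ * (S.e D.dec (Nat.xor D.zi q)) * w := by rw [← hzq]; group
            _ = S.z := by rw [← hwz]; group
        · have hj' : j < b.length := by
            simp only [Mover.ok, Bool.and_eq_true, beq_iff] at hmain
            omega
          calc w⁻¹ * (e⁻¹ * g * n) * S.e D.dec (N.main.pre.getD j 0) * (w⁻¹ * (e⁻¹ * g * n))⁻¹
              = w⁻¹ * (e⁻¹ * g * (n * S.e D.dec (N.main.pre.getD j 0) * n⁻¹) * (e⁻¹ * g)⁻¹) * w := by group
            _ = w⁻¹ * S.e D.dec (b.getD j 0) * w := by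
              rw [(hnpre j hj').2, hHb _ (mul_mem (inv_mem he) hg) j hj']
            _ = S.e D.dec (W.pre.getD j 0) := by rw [← (hwpre j hj').2]; group
      · rintro ⟨⟨e, he, heq⟩, ⟨f, hf, hfeq⟩⟩
        rcases hW2 with hW2 | hW2
        · -- the translate of the main vector is not fused
          have hvq64 : Nat.xor N.main.v q < 64 := Nat.xor_lt_two_pow (n := 6) hv64 (hq64 q hq)
          have hcomm : g * S.e D.dec q = S.e D.dec q * g := hHspan g hg q (List.mem_cons_of_mem _ hq)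
          have huq : u * S.e D.dec q = g * S.e D.dec (Nat.xor N.main.v q) * g⁻¹ := by
            rw [← S.e_mul KD.good hv64 (hq64 q hq), hu]
            calc g * S.e D.dec N.main.v * g⁻¹ * S.e D.dec q
                = g * S.e D.dec N.main.v * (g⁻¹ * (S.e D.dec q * g)) * g⁻¹ := by group
              _ = g * (S.e D.dec N.main.v * S.e D.dec q) * g⁻¹ := by rw [← hcomm]; group
          have hcj : IsConj S.z (S.e D.dec (Nat.xor N.main.v q)) := by
            refine huz.trans (isConj_iff.2 ⟨g⁻¹ * f, ?_⟩)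
            rw [show g⁻¹ * f * u * (g⁻¹ * f)⁻¹ = g⁻¹ * (f * u * f⁻¹) * g by group, hfeq, huq]
            group
          have h0 : Nat.xor N.main.v q ≠ 0 := fun h0 => by
            rw [h0, S.e_zero KD.good] at hcj
            have hz1 : S.z = 1 := isConj_one_left.1 hcj
            have := S.hz
            rw [hz1, orderOf_one] at this
            omega
          rw [← hO _ hvq64 h0, hW2] at hcj
          exact Bool.false_ne_true hcj
        · refine hnoconj _ _ hW2 (fun j hj => ⟨hb64 _ (hbget j hj), (hwpre j hj).1⟩) (w⁻¹ * e) ?_ fun j hj => ?_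
          · refine Subgroup.mem_centralizer_singleton_iff.2 (mul_inv_eq_iff_eq_mul.1 ?_)
            calc w⁻¹ * e * S.z * (w⁻¹ * e)⁻¹ = w⁻¹ * (e * S.z * e⁻¹) * w := by group
              _ = S.z := by rw [heq, hzq, ← hwz]; group
          · calc w⁻¹ * e * S.e D.dec (b.getD j 0) * (w⁻¹ * e)⁻¹
                = w⁻¹ * (e * S.e D.dec (b.getD j 0) * e⁻¹) * w := by group
              _ = S.e D.dec (W.pre.getD j 0) := by rw [hHb _ he j hj, ← (hwpre j hj).2]; group
    have hdH : ∀ e : ℕ, (S.z * u) ^ e ∈ H := fun e => pow_mem (mul_mem hzH huH) e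
    rcases dihedral_cases hz2 hu2 with ⟨e, he⟩ | ⟨i, hi1, hi2, hiz, hiu, ⟨ei, hei⟩, hcase⟩
    · exact hA _ (hdH e) he
    have hiH : i ∈ H := hei ▸ hdH ei
    have hiC : i ∈ Subgroup.centralizer ({S.z} : Set G) := Subgroup.mem_centralizer_singleton_iff.2 hiz
    obtain ⟨m, hm, rfl⟩ := S.exists_entry hiC hi2 hi1
    have hmv := (Setup.entry_valid hm).1
    rcases hext m hm with ((hk | hk) | ⟨q, hq, hqm⟩) | ⟨e, he, ⟨⟨hek, hcv⟩, helt⟩, hkid⟩
    · rw [List.all_eq_false] at hk
      obtain ⟨x, hx', hxne⟩ := hk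
      refine hxne (beq_iff.2 (S.inj (valid_mulC hmv (hvalid x (hb64 x hx'))) (valid_mulC (hvalid x (hb64 x hx')) hmv) ?_))
      rw [S.mul hmv (hvalid x (hb64 x hx')), S.mul (hvalid x (hb64 x hx')) hmv]
      exact hH.1 hiH x hx'
    · obtain ⟨q, hq, hqe⟩ := List.mem_map.1 (inE_iff.1 hk)
      have hiq : S.ι (entX m) = S.e D.dec q := congrArg S.ι hqe.symm
      rw [hiq] at hcase
      rcases hcase with ⟨e, he⟩ | ⟨⟨e, he⟩, ⟨f, hf⟩⟩
      · exact (hB q hq).1 _ (hdH e) he
      · exact (hB q hq).2 ⟨⟨_, hdH e, he⟩, ⟨_, hdH f, hf⟩⟩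
    · obtain ⟨m', hm', hkq, hks⟩ := hfm _ hqm
      have hq' : ∃ r ∈ (0 :: span b), decE D.dec r = q := by
        rcases List.mem_cons.1 hq with rfl | hq
        · exact ⟨0, List.mem_cons_self, KD.good.zero⟩
        · obtain ⟨r, hr, hre⟩ := List.mem_map.1 hq
          exact ⟨r, List.mem_cons_of_mem _ hr, hre⟩
      obtain ⟨r, hr, rfl⟩ := hq'
      have hr64 : r < 64 := by
        rcases List.mem_cons.1 hr with rfl | hr
        · norm_num
        · exact hq64 r hr
      have hfu : IsConj S.z (S.ι (entX m) * S.e D.dec r) := by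
        rw [Setup.e, ← S.mul hmv (hvalid r hr64), ← hkq]
        exact (S.isConj_ι_iff hm').2 ((hs _ (Setup.entry_valid hm').2.2.1).1 hks)
      have hmem : S.ι (entX m) * S.e D.dec r ∈ A.M :=
        mul_mem (A.cent_le (S.mem hmv)) (A.cent_le (S.mem (hvalid r hr64)))
      refine hout (A.cent_le_of_fused hF hmem hfu (Subgroup.mem_centralizer_singleton_iff.2 ?_))
      rw [← mul_assoc, ← hiu, mul_assoc, hHspan u huH r hr, mul_assoc]
    · have hpool : ∀ y ∈ spanCodes D b ++ (oneC :: spanCodes D b).map (mulC (entX m)),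
          valid y = true ∧ u * S.ι y = S.ι y * u := by
        have h1 : ∀ y ∈ oneC :: spanCodes D b, valid y = true ∧ u * S.ι y = S.ι y * u := by
          intro y hy
          rcases List.mem_cons.1 hy with rfl | hy
          · exact ⟨valid_oneC, by rw [S.map_one, mul_one, one_mul]⟩
          · obtain ⟨r, hr, rfl⟩ := List.mem_map.1 hy
            exact ⟨hvalid r (hq64 r hr), hHspan u huH r (List.mem_cons_of_mem _ hr)⟩
        intro y hy
        rcases List.mem_append.1 hy with hy | hy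
        · exact h1 y (List.mem_cons_of_mem _ hy)
        · obtain ⟨y', hy', rfl⟩ := List.mem_map.1 hy
          obtain ⟨hy'v, hy'c⟩ := h1 y' hy'
          refine ⟨valid_mulC hmv hy'v, ?_⟩
          rw [S.mul hmv hy'v, ← mul_assoc, ← hiu, mul_assoc, hy'c, mul_assoc]
      have hclaim := hkids e he (Nat.le_of_ble_eq_true helt)
      have hcM : S.ι e.2.2 ∈ A.M := A.cent_le (S.mem hcv)
      have h1 := hclaim (S.ι e.2.2 * u * (S.ι e.2.2)⁻¹) (huz.trans (isConj_iff.2 ⟨_, rfl⟩)) fun x hx' => by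
        obtain ⟨hxv, y, hy, hye⟩ := hkid x hx'
        obtain ⟨hyv, hyc⟩ := hpool y hy
        have hxy : S.ι x = S.ι e.2.2 * S.ι y * (S.ι e.2.2)⁻¹ := by
          rw [← S.mul hcv hyv, hye, S.mul hxv hcv, mul_inv_cancel_right]
        rw [hxy]
        calc S.ι e.2.2 * u * (S.ι e.2.2)⁻¹ * (S.ι e.2.2 * S.ι y * (S.ι e.2.2)⁻¹)
            = S.ι e.2.2 * (u * S.ι y) * (S.ι e.2.2)⁻¹ := by group
          _ = S.ι e.2.2 * (S.ι y * u) * (S.ι e.2.2)⁻¹ := by rw [hyc]
          _ = _ := by group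
      exact hout (by simpa [mul_assoc] using mul_mem (mul_mem (inv_mem hcM) h1) hcM)
  -- so the centraliser lies in the subgroup
  intro u hu hcomm
  have hHM : ∀ g ∈ H, g ∈ A.M := by
    intro g hg
    have hmem := horb g hg
    obtain ⟨m, hm, hme⟩ := hF _ hmem (isConj_iff.2 ⟨g * n, by rw [← hnz]; group⟩)
    have h1 : g * n ∈ A.M := A.conj_mem_of_eq hm (by
      rw [hme, ← hnz]; group)
    simpa using mul_mem h1 (inv_mem hn)
  refine hHM u (hH.2 fun x hx' => ?_)
  exact hcomm _ (List.mem_map.2 ⟨x, hx', rfl⟩)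

end Node

end Cfsg.Lib.HeldType
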