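import Cfsg.Agent.Lib.HeldType.EData

/-!
# The Sylow subgroup and its two elementary abelian subgroups of order 64: checks
-/

set_option autoImplicit false
set_option maxRecDepth 100000

namespace Cfsg.Lib.HeldType

/-- The element with given coordinates. -/
def decE (dec : List ℕ) (v : ℕ) : ℕ := dec.getD v oneC

/-- Membership in a subgroup given by coordinates. -/
def inE (dec : List ℕ) (x : ℕ) : Bool := dec.any (Nat.beq x)

/-- No entry repeats or lies in `m`. -/
def distinctB : List ℕ → ℕ → Bool
  | [], _ => true
  | x :: l, m => !Nat.testBit m x && distinctB l (Nat.lor m (Nat.shiftLeft 1 x))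

theorem nodup_of_distinctB : ∀ {l : List ℕ} {m : ℕ}, distinctB l m = true →
    l.Nodup ∧ ∀ x ∈ l, Nat.testBit m x = false
  | [], _, _ => ⟨List.nodup_nil, by simp⟩
  | x :: l, m, h => by
    simp only [distinctB, Bool.and_eq_true, Bool.not_eq_true'] at h
    obtain ⟨hnd, hl⟩ := nodup_of_distinctB h.2
    have key : ∀ y ∈ l, Nat.testBit m y = false ∧ x ≠ y := by
      intro y hy
      have := hl y hy
      change (m ||| 1 <<< x).testBit y = false at this
      rw [Nat.testBit_or, Bool.or_eq_false_iff] at this
      refine ⟨this.1, fun e => ?_⟩
      subst e
      simp [Nat.one_shiftLeft, Nat.testBit_two_pow_self] at this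
    refine ⟨List.nodup_cons.2 ⟨fun hx => (key x hx).2 rfl, hnd⟩, fun y hy => ?_⟩
    rcases List.mem_cons.1 hy with rfl | hy
    · exact h.1
    · exact (key y hy).1

/-- The coordinates give an elementary abelian group inside the Sylow subgroup, equal to its centraliser. -/
def decOK (dec : List ℕ) : Bool :=
  Nat.beq dec.length 64 && Nat.beq (decE dec 0) oneC && distinctB dec 0 &&
    dec.all (fun x => valid x && Nat.testBit tMask x) &&
    ((List.range 64).all fun a => (List.range 64).all fun b =>
      Nat.beq (mulC (decE dec a) (decE dec b)) (decE dec (Nat.xor a b))) &&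
    allC.all fun x =>
      !([1, 2, 4, 8, 16, 32].all fun b => Nat.beq (mulC x (decE dec b)) (mulC (decE dec b) x)) || inE dec x

/-- `g` normalises the subgroup. -/
def normOK (dec : List ℕ) (g : ℕ) : Bool :=
  valid g && [1, 2, 4, 8, 16, 32].all fun b => dec.any fun c => Nat.beq (mulC g (decE dec b)) (mulC c g)

/-- The Sylow subgroup is listed. -/
def tListOK : Bool :=
  Nat.beq tList.length 1024 && distinctB (tList.map entX) 0 && tGens.all valid &&
    ((List.range 1024).all fun i =>
      let n := tList.getD i 0
      valid (entX n) && (bif Nat.beq i 0 then Nat.beq (entX n) oneC else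
        let p := Nat.mod (Nat.div n 65536) 2048
        Nat.blt p i && Nat.blt (Nat.div n 134217728) 4 &&
          Nat.beq (entX n) (mulC (entX (tList.getD p 0)) (tGens.getD (Nat.div n 134217728) oneC)))) &&
    tList.all fun n => tGens.all fun g => Nat.testBit tMask (mulC (entX n) g)

/-- The involutions of the Sylow subgroup. -/
def tInv : List ℕ := (invList.map entX).filter fun x => Nat.testBit tMask x

/-- The involutions of the Sylow subgroup commuting with a given one. -/
def commCount (t : ℕ) : ℕ := (tInv.filter fun u => Nat.beq (mulC t u) (mulC u t)).length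

/-- No other subgroup of the Sylow subgroup is elementary of order 64. -/
def onlyTwoOK : Bool :=
  tInv.all (fun t => inE decA t || inE decB t || Nat.blt (commCount t) 63) &&
    decA.all fun a => inE decB a || decB.all fun b => inE decA b || !Nat.beq (mulC a b) (mulC b a)

/-- The centre of the Sylow subgroup. -/
def tCentreOK : Bool :=
  tList.all fun n => Nat.beq (entX n) oneC || Nat.beq (entX n) zC ||
    !(tGens.all fun g => Nat.beq (mulC (entX n) g) (mulC g (entX n)))

/-- A class meeting only the second subgroup. -/
def asymOK : Bool :=
  (invList.all fun n => !Nat.beq (entK n) 2 || !inE decA (entX n)) &&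
    invList.any fun n => Nat.beq (entK n) 2 && inE decB (entX n)

theorem tMask_checked : Nat.beq tMask (tList.foldl (fun m n => Nat.lor m (Nat.shiftLeft 1 (entX n))) 0) = true := by
  decide +kernel

theorem decA_checked : decOK decA = true := by decide +kernel

theorem decB_checked : decOK decB = true := by decide +kernel

theorem tList_checked : tListOK = true := by decide +kernel

theorem norm_checked : (tGens.all (normOK decA) && tGens.all (normOK decB) &&
    normOK decA (cGens.getD 4 0) && normOK decB (cGens.getD 5 0)) = true := by decide +kernel

theorem onlyTwo_checked : onlyTwoOK = true := by decide +kernel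

theorem tCentre_checked : tCentreOK = true := by decide +kernel

theorem asym_checked : asymOK = true := by decide +kernel

theorem invMem_checked : (invList.all fun n => valid (entX n) && !Nat.beq (entX n) oneC &&
    Nat.beq (mulC (entX n) (entX n)) oneC) = true := by decide +kernel

end Cfsg.Lib.HeldType
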