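import Cfsg.Agent.Lib.HeldType.Sylow

/-!
# The two elementary abelian subgroups of order 64 and the fusion of involutions in them
-/

set_option autoImplicit false
set_option maxRecDepth 100000
set_option linter.style.haveILetI false
set_option linter.unusedSectionVars false

namespace Cfsg.Lib.HeldType

attribute [local irreducible] tList invList tMask invMask decA decB

/-- One of the two lists of coordinates. -/
def Good (dec : List ℕ) : Prop := dec = decA ∨ dec = decB

theorem good_checks {dec : List ℕ} (h : Good dec) :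
    decOK dec = true ∧ tGens.all (normOK dec) = true ∧ inE dec zC = true := by
  have hn := norm_checked
  simp only [Bool.and_eq_true] at hn
  rcases h with rfl | rfl
  · exact ⟨decA_checked, hn.1.1.1, by decide +kernel⟩
  · exact ⟨decB_checked, hn.1.1.2, by decide +kernel⟩

theorem goodA : Good decA := Or.inl rfl

theorem goodB : Good decB := Or.inr rfl

namespace Good

variable {dec : List ℕ} (h : Good dec)
include h

theorem length : dec.length = 64 := by
  have := (good_checks h).1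
  simp only [decOK, Bool.and_eq_true] at this
  exact beq_iff.1 this.1.1.1.1.1

theorem zero : decE dec 0 = oneC := by
  have := (good_checks h).1
  simp only [decOK, Bool.and_eq_true] at this
  exact beq_iff.1 this.1.1.1.1.2

theorem nodup : dec.Nodup := by
  have := (good_checks h).1
  simp only [decOK, Bool.and_eq_true] at this
  exact (nodup_of_distinctB this.1.1.1.2).1

theorem mem_of_lt {a : ℕ} (ha : a < 64) : decE dec a ∈ dec := by
  rw [decE, List.getD_eq_getElem?_getD, List.getElem?_eq_getElem (h.length.symm ▸ ha), Option.getD_some]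
  exact List.getElem_mem _

theorem exists_index {x : ℕ} (hx : x ∈ dec) : ∃ a < 64, decE dec a = x := by
  obtain ⟨i, hi, rfl⟩ := List.getElem_of_mem hx
  refine ⟨i, h.length ▸ hi, ?_⟩
  rw [decE, List.getD_eq_getElem?_getD, List.getElem?_eq_getElem hi, Option.getD_some]

theorem index_inj {a b : ℕ} (ha : a < 64) (hb : b < 64) (he : decE dec a = decE dec b) : a = b := by
  rw [decE, decE, List.getD_eq_getElem?_getD, List.getD_eq_getElem?_getD,
    List.getElem?_eq_getElem (h.length.symm ▸ ha), List.getElem?_eq_getElem (h.length.symm ▸ hb),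
    Option.getD_some, Option.getD_some] at he
  exact (h.nodup.getElem_inj_iff).1 he

theorem valid_mem {x : ℕ} (hx : x ∈ dec) : valid x = true ∧ tMask.testBit x = true := by
  have := (good_checks h).1
  simp only [decOK, Bool.and_eq_true] at this
  exact Bool.and_eq_true_iff.1 (List.all_eq_true.1 this.1.1.2 x hx)

theorem mul_eq {a b : ℕ} (ha : a < 64) (hb : b < 64) :
    mulC (decE dec a) (decE dec b) = decE dec (Nat.xor a b) := by
  have := (good_checks h).1
  simp only [decOK, Bool.and_eq_true] at this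
  exact beq_iff.1 (List.all_eq_true.1 (List.all_eq_true.1 this.1.2 a (List.mem_range.2 ha)) b (List.mem_range.2 hb))

theorem self_cent {x : ℕ} (hx : valid x = true)
    (hc : ∀ b ∈ [1, 2, 4, 8, 16, 32], mulC x (decE dec b) = mulC (decE dec b) x) : x ∈ dec := by
  have := (good_checks h).1
  simp only [decOK, Bool.and_eq_true] at this
  have h2 := of_all_allC this.2 hx
  simp only [Bool.or_eq_true, Bool.not_eq_true'] at h2
  rcases h2 with h2 | h2
  · exact absurd (List.all_eq_true.2 fun b hb => beq_iff.2 (hc b hb)) (Bool.eq_false_iff.1 h2)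
  · exact inE_iff.1 h2

end Good

namespace Setup

variable {G : Type*} [Group G] (S : Setup G)

/-- The element with given coordinates. -/
def e (dec : List ℕ) (v : ℕ) : G := S.ι (decE dec v)

/-- The subgroup of a list of coordinates. -/
def eSub (dec : List ℕ) : Subgroup G := Subgroup.closure (S.ι '' {x | x ∈ dec})

variable {dec : List ℕ} (h : Good dec)
include h

theorem e_mul {a b : ℕ} (ha : a < 64) (hb : b < 64) : S.e dec a * S.e dec b = S.e dec (Nat.xor a b) := by
  rw [e, e, e, ← S.mul (h.valid_mem (h.mem_of_lt ha)).1 (h.valid_mem (h.mem_of_lt hb)).1, h.mul_eq ha hb]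

theorem e_zero : S.e dec 0 = 1 := by rw [e, h.zero, S.map_one]

theorem e_inj {a b : ℕ} (ha : a < 64) (hb : b < 64) (he : S.e dec a = S.e dec b) : a = b :=
  h.index_inj ha hb (S.inj (h.valid_mem (h.mem_of_lt ha)).1 (h.valid_mem (h.mem_of_lt hb)).1 he)

theorem mem_eSub {g : G} : g ∈ S.eSub dec ↔ ∃ a < 64, S.e dec a = g := by
  constructor
  · intro hg
    induction hg using Subgroup.closure_induction with
    | mem g hg =>
      obtain ⟨x, hx, rfl⟩ := hg
      obtain ⟨a, ha, hae⟩ := h.exists_index hx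
      exact ⟨a, ha, by rw [e, hae]⟩
    | one => exact ⟨0, by norm_num, S.e_zero h⟩
    | mul a b _ _ iha ihb =>
      obtain ⟨u, hu, rfl⟩ := iha
      obtain ⟨v, hv, rfl⟩ := ihb
      exact ⟨_, Nat.xor_lt_two_pow (n := 6) hu hv, (S.e_mul h hu hv).symm⟩
    | inv a _ iha =>
      obtain ⟨u, hu, rfl⟩ := iha
      refine ⟨u, hu, eq_inv_of_mul_eq_one_left ?_⟩
      rw [S.e_mul h hu hu, show Nat.xor u u = 0 from Nat.xor_self u, S.e_zero h]
  · rintro ⟨a, ha, rfl⟩
    exact Subgroup.subset_closure ⟨_, h.mem_of_lt ha, rfl⟩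

theorem e_mem {a : ℕ} (ha : a < 64) : S.e dec a ∈ S.eSub dec := (S.mem_eSub h).2 ⟨a, ha, rfl⟩

theorem e_sq {a : ℕ} (ha : a < 64) : S.e dec a * S.e dec a = 1 := by
  rw [S.e_mul h ha ha, show Nat.xor a a = 0 from Nat.xor_self a, S.e_zero h]

theorem eSub_comm {a b : G} (ha : a ∈ S.eSub dec) (hb : b ∈ S.eSub dec) : a * b = b * a := by
  obtain ⟨u, hu, rfl⟩ := (S.mem_eSub h).1 ha
  obtain ⟨v, hv, rfl⟩ := (S.mem_eSub h).1 hb
  rw [S.e_mul h hu hv, S.e_mul h hv hu, show Nat.xor u v = Nat.xor v u from Nat.xor_comm u v]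

theorem eSub_sq {a : G} (ha : a ∈ S.eSub dec) : a * a = 1 := by
  obtain ⟨u, hu, rfl⟩ := (S.mem_eSub h).1 ha
  exact S.e_sq h hu

theorem card_eSub : Nat.card (S.eSub dec) = 64 := by
  have : Nat.card (S.eSub dec) = Nat.card (Fin 64) := by
    refine (Nat.card_congr (Equiv.ofBijective (fun a : Fin 64 => (⟨S.e dec a.1, S.e_mem h a.2⟩ : S.eSub dec))
      ⟨fun a b hab => Fin.ext (S.e_inj h a.2 b.2 (congrArg Subtype.val hab)), fun g => ?_⟩)).symm
    obtain ⟨a, ha, he⟩ := (S.mem_eSub h).1 g.2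
    exact ⟨⟨a, ha⟩, Subtype.ext he⟩
  simpa using this

theorem z_mem : S.z ∈ S.eSub dec :=
  Subgroup.subset_closure ⟨zC, inE_iff.1 (good_checks h).2.2, S.map_z⟩

theorem centralizer_eSub : Subgroup.centralizer (S.eSub dec : Set G) = S.eSub dec := by
  refine le_antisymm (fun g hg => ?_) fun g hg => Subgroup.mem_centralizer_iff.2 fun a ha => S.eSub_comm h ha hg
  have hgc := Subgroup.mem_centralizer_iff.1 hg
  obtain ⟨x, hx, rfl⟩ := S.surj (Subgroup.mem_centralizer_singleton_iff.2 (hgc _ (S.z_mem h)).symm)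
  refine Subgroup.subset_closure ⟨x, h.self_cent hx (fun b hb => ?_), rfl⟩
  have hb64 : b < 64 := by fin_cases hb <;> norm_num
  exact (S.comm_iff hx (h.valid_mem (h.mem_of_lt hb64)).1).1 (hgc _ (S.e_mem h hb64)).symm

variable [Finite G]

theorem eSub_le : S.eSub dec ≤ S.tSub := by
  refine (Subgroup.closure_le _).2 ?_
  rintro _ ⟨x, hx, rfl⟩
  obtain ⟨n, hn, he⟩ := List.mem_map.1 (mem_tMask.1 (h.valid_mem hx).2)
  exact S.mem_tSub.2 ⟨n, hn, congrArg S.ι he⟩

/-- An element sending the basis into the subgroup normalises it. -/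
theorem mem_normalizer_of_basis {g : G} (hg : ∀ b ∈ [1, 2, 4, 8, 16, 32], g * S.e dec b * g⁻¹ ∈ S.eSub dec) :
    g ∈ Subgroup.normalizer (S.eSub dec : Set G) := by
  have hgen : ∀ a < 64, g * S.e dec a * g⁻¹ ∈ S.eSub dec := by
    have key : ∀ a < 64, a = 0 ∨ a ∈ [1, 2, 4, 8, 16, 32] ∨ ∃ b ∈ [1, 2, 4, 8, 16, 32], b < 64 ∧
        Nat.xor a b < a := by decide +kernel
    intro a
    induction a using Nat.strong_induction_on with
    | _ a ih =>
      intro ha
      rcases key a ha with rfl | hb | ⟨b, hb, hb64, hlt⟩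
      · rw [S.e_zero h]; simp
      · exact hg a hb
      · have e1 : S.e dec a = S.e dec b * S.e dec (Nat.xor a b) := by
          rw [S.e_mul h hb64 (lt_trans hlt ha)]
          congr 1
          show a = b ^^^ (a ^^^ b)
          rw [Nat.xor_comm a b, ← Nat.xor_assoc, Nat.xor_self, Nat.zero_xor]
        rw [e1, ← conj_mul]
        exact mul_mem (hg b hb) (ih _ hlt (lt_trans hlt ha))
  have hle : (S.eSub dec).map (MulAut.conj g).toMonoidHom ≤ S.eSub dec := by
    rintro _ ⟨a, ha, rfl⟩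
    obtain ⟨u, hu, rfl⟩ := (S.mem_eSub h).1 ha
    simpa using hgen u hu
  have heq := Subgroup.eq_of_le_of_card_ge hle
    (le_of_eq (Nat.card_congr ((S.eSub dec).equivMapOfInjective _ (MulAut.conj g).injective).toEquiv))
  refine Subgroup.mem_normalizer_iff.2 fun a => ⟨fun ha => hle ⟨a, ha, by simp⟩, fun ha => ?_⟩
  rw [← heq] at ha
  obtain ⟨b, hb, hbe⟩ := ha
  have : b = a := by simpa using hbe
  exact this ▸ hb

theorem ι_mem_normalizer {x : ℕ} (hx : normOK dec x = true) :
    S.ι x ∈ Subgroup.normalizer (S.eSub dec : Set G) := by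
  simp only [normOK, Bool.and_eq_true] at hx
  refine S.mem_normalizer_of_basis h fun b hb => ?_
  obtain ⟨c, hc, he⟩ := List.any_eq_true.1 (List.all_eq_true.1 hx.2 b hb)
  have hb64 : b < 64 := by fin_cases hb <;> norm_num
  have hvc := (h.valid_mem hc).1
  rw [e, ← S.mul hx.1 (h.valid_mem (h.mem_of_lt hb64)).1, beq_iff.1 he, S.mul hvc hx.1, mul_inv_cancel_right]
  exact Subgroup.subset_closure ⟨c, hc, rfl⟩

theorem tSub_le_normalizer : S.tSub ≤ Subgroup.normalizer (S.eSub dec : Set G) := by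
  refine (Subgroup.closure_le _).2 ?_
  rintro _ ⟨j, hj, rfl⟩
  exact S.ι_mem_normalizer h (List.all_eq_true.1 (good_checks h).2.1 j hj)

end Setup

theorem sep_checked : ([0, 1, 3, 4, 5, 6, 7].all fun k => allC.all fun c =>
    !Nat.beq (mulC c (reps.getD k 0)) (mulC (reps.getD 2 0) c)) = true := by decide +kernel

theorem classes_disjoint {G : Type*} [Group G] (S : Setup G) {k : ℕ} (hk : k < 8) (hk2 : k ≠ 2) {c : G}
    (hc : c ∈ Subgroup.centralizer ({S.z} : Set G)) (he : c * S.rep k * c⁻¹ = S.rep 2) : False := by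
  obtain ⟨x, hx, rfl⟩ := S.surj hc
  have hmem : k ∈ [0, 1, 3, 4, 5, 6, 7] := by interval_cases k <;> first | exact absurd rfl hk2 | decide
  have h := of_all_allC (List.all_eq_true.1 sep_checked k hmem) hx
  rw [mul_inv_eq_iff_eq_mul, Setup.rep, Setup.rep, ← S.mul hx (Setup.reps_valid k hk),
    ← S.mul (Setup.reps_valid 2 (by norm_num)) hx] at he
  rw [S.inj (valid_mulC hx (Setup.reps_valid k hk)) (valid_mulC (Setup.reps_valid 2 (by norm_num)) hx) he,
    Nat.beq_refl] at h
  exact Bool.false_ne_true h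

theorem tInv_mem {t : ℕ} (h : t ∈ tInv) : ∃ n ∈ invList, entX n = t := by
  obtain ⟨h1, -⟩ := List.mem_filter.1 h
  obtain ⟨n, hn, he⟩ := List.mem_map.1 h1
  exact ⟨n, hn, he⟩

namespace Setup

variable {G : Type*} [Group G] [Finite G] (S : Setup G)

theorem exists_tInv {g : G} (hg : g ∈ S.tSub) (h2 : g * g = 1) (h1 : g ≠ 1) :
    ∃ x ∈ tInv, S.ι x = g := by
  obtain ⟨n, hn, he⟩ := S.exists_entry (S.tSub_le hg) h2 h1
  obtain ⟨m, hm, hme⟩ := S.mem_tSub.1 hg
  have hx : entX n = entX m := S.inj (entry_valid hn).1 (tList_valid hm) (he.trans hme.symm)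
  refine ⟨entX n, List.mem_filter.2 ⟨List.mem_map.2 ⟨n, hn, rfl⟩, mem_tMask.2 ?_⟩, he⟩
  exact hx ▸ List.mem_map.2 ⟨m, hm, rfl⟩

theorem eq_eSub_of_elementary {A : Subgroup G} (hA : A ≤ S.tSub) (hcomm : ∀ a ∈ A, ∀ b ∈ A, a * b = b * a)
    (hsq : ∀ a ∈ A, a * a = 1) (hcard : Nat.card A = 64) : A = S.eSub decA ∨ A = S.eSub decB := by
  have hall := onlyTwo_checked
  simp only [onlyTwoOK, Bool.and_eq_true] at hall
  have hA' : ∀ a ∈ A, a ≠ 1 → ∃ x ∈ tInv, S.ι x = a := fun a ha h1 => S.exists_tInv (hA ha) (hsq a ha) h1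
  have hin : ∀ a ∈ A, a ∈ S.eSub decA ∨ a ∈ S.eSub decB := by
    intro a ha
    by_cases h1 : a = 1
    · exact Or.inl (h1 ▸ one_mem _)
    obtain ⟨x, hx, rfl⟩ := hA' a ha h1
    have := List.all_eq_true.1 hall.1 x hx
    simp only [Bool.or_eq_true, inE_iff] at this
    rcases this with (h | h) | h
    · exact Or.inl (Subgroup.subset_closure ⟨x, h, rfl⟩)
    · exact Or.inr (Subgroup.subset_closure ⟨x, h, rfl⟩)
    · exfalso
      have hlt : commCount x < 63 := Nat.le_of_ble_eq_true h
      have hsub : (A : Set G) ⊆ insert 1 (S.ι '' ↑((tInv.filter fun u => Nat.beq (mulC x u) (mulC u x)).toFinset)) := by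
        intro b hb
        by_cases hb1 : b = 1
        · exact Or.inl hb1
        obtain ⟨u, hu, rfl⟩ := hA' b hb hb1
        refine Or.inr ⟨u, ?_, rfl⟩
        obtain ⟨n, hn, hne⟩ := tInv_mem hx
        obtain ⟨m, hm, hme⟩ := tInv_mem hu
        rw [List.coe_toFinset]
        exact List.mem_filter.2 ⟨hu, beq_iff.2 ((S.comm_iff (hne ▸ (entry_valid hn).1) (hme ▸ (entry_valid hm).1)).1
          (hcomm _ ha _ hb))⟩
      have h64 : Nat.card A = (A : Set G).ncard := rfl
      have hle := Set.ncard_le_ncard hsub (Set.toFinite _)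
      have hins := Set.ncard_insert_le 1 (S.ι '' ↑((tInv.filter fun u => Nat.beq (mulC x u) (mulC u x)).toFinset))
      have himg := Set.ncard_image_le (f := S.ι) (s := ↑((tInv.filter fun u => Nat.beq (mulC x u) (mulC u x)).toFinset))
        (Finset.finite_toSet _)
      rw [Set.ncard_coe_finset] at himg
      have := List.toFinset_card_le (tInv.filter fun u => Nat.beq (mulC x u) (mulC u x))
      simp only [commCount] at hlt
      omega
  have hcases : A ≤ S.eSub decA ∨ A ≤ S.eSub decB := by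
    by_contra hcon
    push Not at hcon
    obtain ⟨⟨a, ha, haA⟩, ⟨b, hb, hbB⟩⟩ :=
      And.intro (SetLike.not_le_iff_exists.1 hcon.1) (SetLike.not_le_iff_exists.1 hcon.2)
    obtain ⟨u, hu, rfl⟩ := (S.mem_eSub (Or.inr rfl)).1 ((hin a ha).resolve_left haA)
    obtain ⟨v, hv, rfl⟩ := (S.mem_eSub (Or.inl rfl)).1 ((hin b hb).resolve_right hbB)
    have h := List.all_eq_true.1 hall.2 _ (Good.mem_of_lt (Or.inl rfl : Good decA) hv)
    simp only [Bool.or_eq_true, inE_iff] at h
    rcases h with h | h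
    · exact hbB (Subgroup.subset_closure ⟨_, h, rfl⟩)
    have h' := List.all_eq_true.1 h _ (Good.mem_of_lt (Or.inr rfl : Good decB) hu)
    simp only [Bool.or_eq_true, inE_iff, Bool.not_eq_true'] at h'
    rcases h' with h' | h'
    · exact haA (Subgroup.subset_closure ⟨_, h', rfl⟩)
    · refine absurd (beq_iff.2 ?_) (Bool.eq_false_iff.1 h')
      exact (S.comm_iff (Good.valid_mem (Or.inl rfl : Good decA) (Good.mem_of_lt (Or.inl rfl) hv)).1
        (Good.valid_mem (Or.inr rfl : Good decB) (Good.mem_of_lt (Or.inr rfl) hu)).1).1 (hcomm _ hb _ ha)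
  rcases hcases with h | h
  · exact Or.inl (Subgroup.eq_of_le_of_card_ge h (le_of_eq ((S.card_eSub (Or.inl rfl)).trans hcard.symm)))
  · exact Or.inr (Subgroup.eq_of_le_of_card_ge h (le_of_eq ((S.card_eSub (Or.inr rfl)).trans hcard.symm)))

theorem not_conj_AB (c : G) (hc : c ∈ Subgroup.centralizer ({S.z} : Set G)) :
    (S.eSub decA).map (MulAut.conj c).toMonoidHom ≠ S.eSub decB := by
  intro heq
  have h := asym_checked
  simp only [asymOK, Bool.and_eq_true] at h
  obtain ⟨n, hn, hne⟩ := List.any_eq_true.1 h.2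
  simp only [Bool.and_eq_true, beq_iff, inE_iff] at hne
  have hmem : S.ι (entX n) ∈ S.eSub decB := Subgroup.subset_closure ⟨_, hne.2, rfl⟩
  rw [← heq] at hmem
  obtain ⟨a, ha, hae⟩ := hmem
  obtain ⟨v, hv, rfl⟩ := (S.mem_eSub (Or.inl rfl)).1 ha
  simp only [MulEquiv.coe_toMonoidHom, MulAut.conj_apply] at hae
  have hne1 : S.e decA v ≠ 1 := fun h1 => (S.ι_sq hn).2 (by rw [← hae, h1]; group)
  obtain ⟨m, hm, hme⟩ := S.exists_entry (S.tSub_le (S.eSub_le (Or.inl rfl) ha)) (S.e_sq (Or.inl rfl) hv) hne1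
  have hmA : entX m ∈ decA := by
    have : entX m = decE decA v :=
      S.inj (entry_valid hm).1 (Good.valid_mem (Or.inl rfl : Good decA) (Good.mem_of_lt (Or.inl rfl) hv)).1 hme
    exact this ▸ Good.mem_of_lt (Or.inl rfl) hv
  have hk2 := List.all_eq_true.1 h.1 m hm
  simp only [Bool.or_eq_true, Bool.not_eq_true'] at hk2
  rcases hk2 with hk2 | hk2
  · refine absurd (beq_iff.2 ?_) (Bool.eq_false_iff.1 hk2)
    obtain ⟨c1, hc1, e1⟩ := S.conj_rep hm
    obtain ⟨c2, hc2, e2⟩ := S.conj_rep hn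
    rw [hne.1] at e2
    by_contra hk
    exact classes_disjoint S (entry_valid hm).2.2.1 hk (c := c2⁻¹ * c * c1)
      (mul_mem (mul_mem (inv_mem hc2) hc) hc1) (by
        rw [show c2⁻¹ * c * c1 * S.rep (entK m) * (c2⁻¹ * c * c1)⁻¹ =
          c2⁻¹ * (c * (c1 * S.rep (entK m) * c1⁻¹) * c⁻¹) * c2 by group, e1, hme, hae, ← e2]
        group)
  · exact absurd (inE_iff.2 hmA) (Bool.eq_false_iff.1 hk2)

end Setup

end Cfsg.Lib.HeldType
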