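import Cfsg.Agent.Lib.Concrete.Mathieu
import Cfsg.Agent.Lib.CosetEnum.Groups.HeSimple
import Cfsg.Agent.Lib.HeldType.Amalgam.L5
import Cfsg.Agent.Lib.ZStar.Main
import Cfsg.Agent.S0445
import Cfsg.Agent.Lib.Linear.SLBasic
import Cfsg.Prelude.Def_Sporadic

/-!
# Closing lemmas for the recognition by the centraliser `2^{1+6}.L₃(2)`
-/

set_option autoImplicit false
set_option linter.style.haveILetI false
set_option linter.unusedSectionVars false

namespace Cfsg.Lib.HeldType.Final

open Matrix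

theorem card_sl_five : Nat.card (SpecialLinearGroup (Fin 5) (ZMod 2)) = 9999360 := by
  haveI : Fact (Nat.Prime 2) := ⟨Nat.prime_two⟩
  have h := Cfsg.Lib.Linear.card_SL_mul (F := ZMod 2) 5 (by norm_num)
  generalize Nat.card (SpecialLinearGroup (Fin 5) (ZMod 2)) = N at h ⊢
  rw [show Fintype.card (ZMod 2) = 2 from ZMod.card 2, Fin.prod_univ_five] at h
  norm_num at h
  exact h

theorem card_he : Nat.card Cfsg.Spor.He = 4030387200 := Cfsg.Lib.CosetEnum.HePres.isHe.2

theorem card_m24 : Nat.card Cfsg.M24 = 244823040 := Cfsg.Lib.Concrete.card_M24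

/-- The matrix `1 + u fᵀ` for orthogonal vectors. -/
theorem det_dyad {u f : Fin 5 → ZMod 2} (h : f ⬝ᵥ u = 0) : (1 + vecMulVec u f).det = 1 := by
  rw [vecMulVec_eq Unit, Matrix.det_one_add_replicateCol_mul_replicateRow, h, add_zero]

theorem dyad_mulVec (u f w : Fin 5 → ZMod 2) : (1 + vecMulVec u f) *ᵥ w = w + (f ⬝ᵥ w) • u := by
  rw [add_mulVec, one_mulVec, vecMulVec_mulVec]
  simp

theorem exists_dyad : ∀ v : Fin 5 → ZMod 2, v ≠ 0 → ∃ f u w : Fin 5 → ZMod 2,
    f ⬝ᵥ v = 0 ∧ f ⬝ᵥ u = 0 ∧ f ⬝ᵥ w = 1 ∧ u ≠ 0 ∧ u ≠ v := by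
  decide +kernel

/-- The stabiliser of a vector is not simple. -/
theorem stabilizer_not_simple {v : Fin 5 → ZMod 2} (hv : v ≠ 0) :
    ¬ IsSimpleGroup (MulAction.stabilizer (SpecialLinearGroup (Fin 5) (ZMod 2)) v) := by
  intro hs
  set K := MulAction.stabilizer (SpecialLinearGroup (Fin 5) (ZMod 2)) v with hK
  have hfix : ∀ g : K, (g : SpecialLinearGroup (Fin 5) (ZMod 2)) • v = v := fun g => g.2
  have h2 : ∀ x : Fin 5 → ZMod 2, x + x = 0 := fun x => funext fun i =>
    (by decide : ∀ t : ZMod 2, t + t = 0) (x i)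
  let N : Subgroup K :=
    { carrier := {g | ∀ w, (g : SpecialLinearGroup (Fin 5) (ZMod 2)) • w = w ∨
        (g : SpecialLinearGroup (Fin 5) (ZMod 2)) • w = w + v}
      one_mem' := fun w => Or.inl (by simp)
      mul_mem' := by
        intro g h hg hh w
        have hgv : ∀ x, (g : SpecialLinearGroup (Fin 5) (ZMod 2)) • (x + v) =
            (g : SpecialLinearGroup (Fin 5) (ZMod 2)) • x + v := fun x => by
          rw [smul_add, hfix g]
        rw [Subgroup.coe_mul, mul_smul]
        rcases hh w with e | e <;> rw [e]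
        · exact hg w
        · rw [hgv]
          rcases hg w with e' | e' <;> rw [e']
          · exact Or.inr rfl
          · exact Or.inl (by rw [add_assoc, h2, add_zero])
      inv_mem' := by
        intro g hg w
        have hgv : (g : SpecialLinearGroup (Fin 5) (ZMod 2))⁻¹ • v = v := inv_smul_eq_iff.2 (hfix g).symm
        rw [Subgroup.coe_inv]
        rcases hg w with e | e
        · exact Or.inl (inv_smul_eq_iff.2 e.symm)
        · refine Or.inr ?_
          have h1 := congrArg ((g : SpecialLinearGroup (Fin 5) (ZMod 2))⁻¹ • ·) e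
          simp only [inv_smul_smul, smul_add, hgv] at h1
          conv_rhs => rw [h1, add_assoc, h2, add_zero] }
  have hN : N.Normal := by
    refine ⟨fun g hg h w => ?_⟩
    rw [Subgroup.coe_mul, Subgroup.coe_mul, Subgroup.coe_inv, mul_smul, mul_smul]
    rcases hg ((h : SpecialLinearGroup (Fin 5) (ZMod 2))⁻¹ • w) with e | e <;> rw [e]
    · exact Or.inl (smul_inv_smul _ _)
    · exact Or.inr (by rw [smul_add, smul_inv_smul, hfix h])
  obtain ⟨f, u, w, hfv, hfu, hfw, hu0, huv⟩ := exists_dyad v hv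
  have hmk : ∀ x : Fin 5 → ZMod 2, f ⬝ᵥ x = 0 → ∃ g : K, ∀ y : Fin 5 → ZMod 2,
      (g : SpecialLinearGroup (Fin 5) (ZMod 2)) • y = y + (f ⬝ᵥ y) • x := by
    intro x hx
    refine ⟨⟨⟨1 + vecMulVec x f, det_dyad hx⟩, ?_⟩, fun y => dyad_mulVec x f y⟩
    show (1 + vecMulVec x f) *ᵥ v = v
    rw [dyad_mulVec, hfv, zero_smul, add_zero]
  obtain ⟨a, ha⟩ := hmk v hfv
  obtain ⟨b, hb⟩ := hmk u hfu
  have haN : a ∈ N := fun y => by
    rw [ha y]
    rcases (by decide : ∀ t : ZMod 2, t = 0 ∨ t = 1) (f ⬝ᵥ y) with e | e <;> rw [e] <;> simp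
  have hbN : b ∉ N := fun h => by
    have e := hb w
    rw [hfw, one_smul] at e
    rcases h w with e' | e' <;> rw [e] at e'
    · exact hu0 (by simpa using e')
    · exact huv (by simpa using e')
  rcases hs.eq_bot_or_eq_top_of_normal N hN with e | e
  · have ha1 : a = 1 := Subgroup.mem_bot.1 (e ▸ haN)
    have := ha w
    rw [ha1, hfw, one_smul, Subgroup.coe_one, one_smul] at this
    exact hv (by simpa using this.symm)
  · exact hbN (e ▸ Subgroup.mem_top b)

variable {G : Type*} [Group G] [Finite G] {s : SpecialLinearGroup (Fin 5) (ZMod 2)} {z : G}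

/-- In a simple group the involution is not weakly closed in its centraliser, and only the three
simple models remain. -/
theorem simple_cases [IsSimpleGroup G] (hs : (s : Matrix (Fin 5) (Fin 5) (ZMod 2)) = transvection 0 1 1)
    (hz : orderOf z = 2)
    (e : Subgroup.centralizer ({z} : Set G) ≃* Subgroup.centralizer ({s} : Set (SpecialLinearGroup (Fin 5) (ZMod 2))))
    (h : (∀ g : G, g * z * g⁻¹ ∈ Subgroup.centralizer ({z} : Set G) → g * z * g⁻¹ = z) ∨
      (∃ v : Fin 5 → ZMod 2, v ≠ 0 ∧ Nonempty (G ≃* MulAction.stabilizer (SpecialLinearGroup (Fin 5) (ZMod 2)) v)) ∨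
      Nonempty (G ≃* SpecialLinearGroup (Fin 5) (ZMod 2)) ∨ Nonempty (G ≃* Cfsg.M24) ∨ Cfsg.Spor.IsoHe G) :
    Nonempty (G ≃* SpecialLinearGroup (Fin 5) (ZMod 2)) ∨ Nonempty (G ≃* Cfsg.M24) ∨ Cfsg.Spor.IsoHe G := by
  rcases h with h | ⟨v, hv, ⟨φ⟩⟩ | h
  · exfalso
    have hC : Nat.card (Subgroup.centralizer ({z} : Set G)) = 21504 := by
      rw [Nat.card_congr e.toEquiv, Cfsg.Agent.S0445.result s hs]
    have hz1 : z ≠ 1 := fun h1 => by rw [h1, orderOf_one] at hz; omega
    have hI : Cfsg.IsIsolatedInvolution z := ⟨hz, fun g hg =>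
      h g (Subgroup.mem_centralizer_singleton_iff.2 hg.eq.symm)⟩
    have hstar := Cfsg.Lib.ZStar.zStarHolds G z hI
    rcases IsSimpleGroup.eq_bot_or_eq_top_of_normal (Cfsg.oddCore G) inferInstance with hb | hb
    · have hcomm : ∀ g : G, z * g = g * z := fun g => by
        have := hstar g
        rw [hb, Subgroup.mem_bot, mul_inv_eq_one, mul_inv_eq_iff_eq_mul] at this
        exact this
      have htop : Subgroup.centralizer ({z} : Set G) = ⊤ := eq_top_iff.2 fun g _ =>
        Subgroup.mem_centralizer_singleton_iff.2 (hcomm g).symm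
      rw [htop, Subgroup.card_top] at hC
      rcases IsSimpleGroup.eq_bot_or_eq_top_of_normal (Subgroup.center G) inferInstance with hc | hc
      · exact hz1 (Subgroup.mem_bot.1 (hc ▸ (Subgroup.mem_center_iff.2 fun g => (hcomm g).symm :
          z ∈ Subgroup.center G)))
      · letI : CommGroup G :=
          { ‹Group G› with mul_comm := fun a b => (Subgroup.mem_center_iff.1 (hc ▸ Subgroup.mem_top a) b).symm }
        have hp := IsSimpleGroup.prime_card (α := G)
        rw [hC] at hp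
        norm_num at hp
    · have hodd := Cfsg.Lib.ZStar.odd_card_oddCore (G := G)
      rw [hb, Subgroup.card_top] at hodd
      have hd := orderOf_dvd_natCard z
      rw [hz] at hd
      exact (Nat.not_even_iff_odd.2 hodd) (even_iff_two_dvd.2 hd)
  · haveI := (φ.isSimpleGroup_congr).1 ‹IsSimpleGroup G›
    exact absurd this (stabilizer_not_simple hv)
  · exact h

theorem isM24_of_iso (h : Nonempty (G ≃* Cfsg.M24)) [IsSimpleGroup G] : Cfsg.IsM24 G := by
  obtain ⟨φ⟩ := h
  exact ⟨inferInstance, (Nat.card_congr φ.toEquiv).trans card_m24⟩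

theorem isHe_of_iso (h : Cfsg.Spor.IsoHe G) [IsSimpleGroup G] : Cfsg.IsHe G := by
  obtain ⟨φ⟩ := h
  exact ⟨inferInstance, (Nat.card_congr φ.toEquiv).trans card_he⟩

/-- Two groups among the three models with the same order are isomorphic. -/
theorem iso_of_card {H : Type*} [Group H]
    (hG : Nonempty (G ≃* SpecialLinearGroup (Fin 5) (ZMod 2)) ∨ Nonempty (G ≃* Cfsg.M24) ∨ Cfsg.Spor.IsoHe G)
    (hH : Nonempty (H ≃* SpecialLinearGroup (Fin 5) (ZMod 2)) ∨ Nonempty (H ≃* Cfsg.M24) ∨ Cfsg.Spor.IsoHe H)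
    (hc : Nat.card G = Nat.card H) : Nonempty (G ≃* H) := by
  have c5 := card_sl_five
  have c24 := card_m24
  have cHe := card_he
  rcases hG with ⟨⟨a⟩⟩ | ⟨⟨a⟩⟩ | ⟨⟨a⟩⟩ <;> rcases hH with ⟨⟨b⟩⟩ | ⟨⟨b⟩⟩ | ⟨⟨b⟩⟩ <;>
    rw [Nat.card_congr a.toEquiv, Nat.card_congr b.toEquiv] at hc <;>
    first
      | exact ⟨a.trans b.symm⟩
      | omega

/-- A group of the order of the Held group among the models is the Held group. -/
theorem isoHe_of_card (hG : Nonempty (G ≃* SpecialLinearGroup (Fin 5) (ZMod 2)) ∨ Nonempty (G ≃* Cfsg.M24) ∨ Cfsg.Spor.IsoHe G)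
    (hc : Nat.card G = 4030387200) : Cfsg.Spor.IsoHe G := by
  have c5 := card_sl_five
  have c24 := card_m24
  rcases hG with ⟨⟨a⟩⟩ | ⟨⟨a⟩⟩ | h
  · rw [Nat.card_congr a.toEquiv] at hc; omega
  · rw [Nat.card_congr a.toEquiv] at hc; omega
  · exact h

end Cfsg.Lib.HeldType.Final
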