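import Cfsg.Agent.Lib.HeldType.Elementary

/-!
# Both elementary subgroups are weakly closed
-/

set_option autoImplicit false
set_option maxRecDepth 100000
set_option linter.style.haveILetI false
set_option linter.unusedSectionVars false

namespace Cfsg.Lib.HeldType

attribute [local irreducible] tList invList tMask invMask decA decB

namespace Setup

variable {G : Type*} [Group G] [Finite G] (S : Setup G)

theorem not_map_AB {g : G} :
    (S.eSub decA).map (MulAut.conj g).toMonoidHom ≠ S.eSub decB := by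
  intro heq
  haveI : Fact (Nat.Prime 2) := ⟨Nat.prime_two⟩
  obtain ⟨P, hP⟩ := S.exists_sylow
  set N := Subgroup.normalizer (S.eSub decB : Set G)
  have hTN : (P : Subgroup G) ≤ N := hP ▸ S.tSub_le_normalizer goodB
  have hgN : ((g • P : Sylow 2 G) : Subgroup G) ≤ N := by
    rintro x ⟨t, ht, rfl⟩
    have htA := S.tSub_le_normalizer goodA (hP ▸ ht)
    simp only [MulDistribMulAction.toMonoidEnd_apply, MulDistribMulAction.toMonoidHom_apply, MulAut.smul_def,
      MulAut.conj_apply]
    refine S.mem_normalizer_of_basis goodB fun b hb => ?_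
    have hb64 : b < 64 := by fin_cases hb <;> norm_num
    have hm := S.e_mem goodB hb64
    rw [← heq] at hm
    obtain ⟨a, ha, hae⟩ := hm
    simp only [MulEquiv.coe_toMonoidHom, MulAut.conj_apply] at hae
    rw [← hae, ← heq]
    refine ⟨t * a * t⁻¹, ((Subgroup.mem_normalizer_iff.1 htA) a).1 ha, ?_⟩
    simp only [MulEquiv.coe_toMonoidHom, MulAut.conj_apply]
    group
  obtain ⟨n, hn⟩ := MulAction.exists_smul_eq N ((g • P : Sylow 2 G).subtype hgN) (P.subtype hTN)
  rw [Sylow.smul_subtype] at hn
  have hPn : (n : G) • (g • P : Sylow 2 G) = P := Sylow.subtype_injective hn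
  set c := (n : G) * g
  have hcP : c • P = P := by rw [mul_smul]; exact hPn
  have hconj : ∀ t, t ∈ S.tSub ↔ c * t * c⁻¹ ∈ S.tSub := by
    intro t
    rw [← hP]
    exact (Subgroup.mem_normalizer_iff.1 (Sylow.smul_eq_iff_mem_normalizer.1 hcP)) t
  have hzT : S.z ∈ S.tSub := S.eSub_le goodA (S.z_mem goodA)
  have hfix : c * S.z * c⁻¹ = S.z := by
    rcases S.eq_one_or_z_of_central ((hconj S.z).1 hzT) (fun t ht => by
      have hc := Subgroup.mem_centralizer_singleton_iff.1 (S.tSub_le ((hconj (c⁻¹ * t * c)).2 (by simpa [mul_assoc] using ht)))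
      calc t * (c * S.z * c⁻¹) = c * ((c⁻¹ * t * c) * S.z) * c⁻¹ := by group
        _ = c * (S.z * (c⁻¹ * t * c)) * c⁻¹ := by rw [hc]
        _ = c * S.z * c⁻¹ * t := by group) with h | h
    · exfalso
      have hz1 : S.z = 1 := by simpa using h
      have := S.hz
      rw [hz1, orderOf_one] at this
      omega
    · exact h
  refine S.not_conj_AB c (Subgroup.mem_centralizer_singleton_iff.2 (mul_inv_eq_iff_eq_mul.1 hfix)) ?_
  ext x
  have hn' := Subgroup.mem_normalizer_iff.1 n.2
  constructor
  · rintro ⟨a, ha, rfl⟩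
    have : g * a * g⁻¹ ∈ S.eSub decB := heq ▸ ⟨a, ha, rfl⟩
    have h2 := (hn' _).1 this
    simpa [c, mul_assoc] using h2
  · intro hx
    have h2 : (n : G)⁻¹ * x * n ∈ S.eSub decB := by
      refine (hn' _).2 ?_
      simpa [mul_assoc] using hx
    rw [← heq] at h2
    obtain ⟨a, ha, hae⟩ := h2
    refine ⟨a, ha, ?_⟩
    simp only [MulEquiv.coe_toMonoidHom, MulAut.conj_apply] at hae ⊢
    show (n : G) * g * a * ((n : G) * g)⁻¹ = x
    calc (n : G) * g * a * ((n : G) * g)⁻¹ = n * (g * a * g⁻¹) * (n : G)⁻¹ := by group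
      _ = x := by rw [hae]; group

theorem weakly_closed {dec : List ℕ} (h : Good dec) (g : G)
    (hg : (S.eSub dec).map (MulAut.conj g).toMonoidHom ≤ S.tSub) :
    (S.eSub dec).map (MulAut.conj g).toMonoidHom = S.eSub dec := by
  have hcard : Nat.card ((S.eSub dec).map (MulAut.conj g).toMonoidHom) = 64 :=
    (Nat.card_congr ((S.eSub dec).equivMapOfInjective _ (MulAut.conj g).injective).toEquiv).symm.trans (S.card_eSub h)
  have hcases := S.eq_eSub_of_elementary hg (by
      rintro _ ⟨a, ha, rfl⟩ _ ⟨b, hb, rfl⟩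
      rw [← map_mul, S.eSub_comm h ha hb, map_mul]) (by
      rintro _ ⟨a, ha, rfl⟩
      rw [← map_mul, S.eSub_sq h ha, _root_.map_one]) hcard
  rcases h with rfl | rfl
  · exact hcases.resolve_right S.not_map_AB
  · refine hcases.resolve_left fun hA => ?_
    have hback : (S.eSub decA).map (MulAut.conj g⁻¹).toMonoidHom = S.eSub decB := by
      rw [← hA, Subgroup.map_map]
      ext x
      simp [mul_assoc]
    exact S.not_map_AB hback

/-- Fusion inside one of the subgroups happens in its normaliser. -/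
theorem exists_conj {dec : List ℕ} (h : Good dec) {x y g : G} (hx : x ∈ S.eSub dec) (hy : y ∈ S.eSub dec)
    (hg : g * x * g⁻¹ = y) : ∃ n ∈ Subgroup.normalizer (S.eSub dec : Set G), n * x * n⁻¹ = y := by
  haveI : Fact (Nat.Prime 2) := ⟨Nat.prime_two⟩
  obtain ⟨P, hP⟩ := S.exists_sylow
  exact exists_normalizer_conj P (hP ▸ S.eSub_le h) (fun a ha b hb => S.eSub_comm h ha hb)
    (fun k hk => S.weakly_closed h k (hP ▸ hk)) hx hy hg

end Setup

end Cfsg.Lib.HeldType
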