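import Cfsg.Agent.Lib.HeldType.Pairs

/-!
# Excluding gluings, and the element common to both normalisers
-/

set_option autoImplicit false
set_option maxRecDepth 100000
set_option linter.style.haveILetI false
set_option linter.unusedSectionVars false

namespace Cfsg.Lib.HeldType

open Amalgam (wv codes)

attribute [local irreducible] tList invList tMask invMask decA decB allC

/-- The class of a code agrees with the given one. -/
def classIs (x k : ℕ) : Bool := invList.any fun n => Nat.beq (entX n) x && Nat.beq (entK n) k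

/-- A conjugating pair and two codes of differently fused classes. -/
structure Excl where
  /-- the conjugating pair -/
  n : ℕ × List ℕ
  /-- the first code -/
  x1 : ℕ
  /-- its pair -/
  p1 : ℕ × List ℕ
  /-- its word -/
  w1 : List ℕ
  /-- its class -/
  k1 : ℕ
  /-- the second code -/
  x2 : ℕ
  /-- its pair -/
  p2 : ℕ × List ℕ
  /-- its word -/
  w2 : List ℕ
  /-- its class -/
  k2 : ℕ

/-- The witness is valid for the gluing. -/
def Excl.ok (W : Excl) (D : Side) (s : ℕ → Bool) (gl : List ℕ) : Bool :=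
  gl.all valid && Nat.beq gl.length 2 && pairOK D s W.n && codePairOK D gl W.x1 W.p1 W.w1 &&
    codePairOK D gl W.x2 W.p2 W.w2 && pmul W.n W.p1 == pmul W.p2 W.n && classIs W.x1 W.k1 && classIs W.x2 W.k2 &&
    s W.k1 != s W.k2

/-- The certificate for an element in both normalisers. -/
structure Shared where
  /-- the word in the first -/
  a : List ℕ
  /-- its action on the second subgroup -/
  act : List ℕ
  /-- the second basis as pairs of the first side -/
  inA : List ((ℕ × List ℕ) × List ℕ)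
  /-- the images as pairs of the first side -/
  imA : List ((ℕ × List ℕ) × List ℕ)
  /-- the first basis as pairs of the second side -/
  inB : List ((ℕ × List ℕ) × List ℕ)
  /-- the images as pairs of the second side -/
  imB : List ((ℕ × List ℕ) × List ℕ)
  /-- the candidates in the second for its inverse -/
  bs : List (List ℕ)

/-- The certificate is valid. -/
def Shared.ok (W : Shared) (DA DB : Side) (_s : ℕ → Bool) (glA glB : List ℕ) (LA LB : Letters) : Bool :=
  let α := LA.eval W.a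
  glA.all valid && Nat.beq glA.length 2 && glB.all valid && Nat.beq glB.length 2 && LA.inDom W.a &&
    W.bs.all LB.inDom && pmul α (pmul α α) == pone &&
    Nat.beq W.act.length 6 && W.act.all (fun c => Nat.blt c 64) &&
    ((List.range 6).all fun b =>
      codePairOK DA glA (decE DB.dec (2 ^ b)) (W.inA.getD b (pone, [])).1 (W.inA.getD b (pone, [])).2 &&
      codePairOK DA glA (decE DB.dec (W.act.getD b 0)) (W.imA.getD b (pone, [])).1 (W.imA.getD b (pone, [])).2 &&
      codePairOK DB glB (decE DA.dec (2 ^ b)) (W.inB.getD b (pone, [])).1 (W.inB.getD b (pone, [])).2 &&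
      codePairOK DB glB (decE DA.dec (α.2.getD b 0)) (W.imB.getD b (pone, [])).1 (W.imB.getD b (pone, [])).2 &&
      pmul α (W.inA.getD b (pone, [])).1 == pmul (W.imA.getD b (pone, [])).1 α) &&
    (List.range 64).all fun v =>
      !((List.range 6).all (fun b =>
          pmul (v, W.act) (W.inB.getD b (pone, [])).1 == pmul (W.imB.getD b (pone, [])).1 (v, W.act)) &&
        pmul (v, W.act) (pmul (v, W.act) (v, W.act)) == pone) ||
      W.bs.any fun w => pmul (v, W.act) (LB.eval w) == pone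

namespace Setup

variable {G : Type*} [Group G] [Finite G] (S : Setup G) {D : Side} {s : ℕ → Bool} {gl : List ℕ}

theorem classIs_spec {x k : ℕ} (h : classIs x k = true) : ∃ n ∈ invList, entX n = x ∧ entK n = k := by
  obtain ⟨n, hn, h'⟩ := List.any_eq_true.1 h
  simp only [Bool.and_eq_true, beq_iff] at h'
  exact ⟨n, hn, h'⟩

/-- A gluing with such a witness does not occur. -/
theorem excluded (K : SideOK D s) (hs : ∀ k < 8, s k = true ↔ S.InS k) {W : Excl} (h : W.ok D s gl = true) :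
    IsEmpty (Split S D s gl) := by
  simp only [Excl.ok, Bool.and_eq_true, beq_iff, beq_iff_eq, bne_iff_ne] at h
  obtain ⟨⟨⟨⟨⟨⟨⟨⟨hgl, hlen⟩, hn⟩, h1⟩, h2⟩, heq⟩, hc1⟩, hc2⟩, hne⟩ := h
  refine ⟨fun P => hne ?_⟩
  obtain ⟨hv1, hp1, e1⟩ := S.codePair_spec K hs P hgl hlen h1
  obtain ⟨hv2, hp2, e2⟩ := S.codePair_spec K hs P hgl hlen h2
  have hm := congrArg (S.pval D P.y) heq
  rw [(S.pval_mul K hs P hn hp1).2, (S.pval_mul K hs P hp2 hn).2, e1, e2] at hm
  obtain ⟨n1, hn1, hx1, hk1⟩ := classIs_spec hc1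
  obtain ⟨n2, hn2, hx2, hk2⟩ := classIs_spec hc2
  have hcj : IsConj (S.ι W.x1) (S.ι W.x2) := isConj_iff.2 ⟨S.pval D P.y W.n, mul_inv_eq_iff_eq_mul.2 hm⟩
  have hk18 : W.k1 < 8 := hk1 ▸ (entry_valid hn1).2.2.1
  have hk28 : W.k2 < 8 := hk2 ▸ (entry_valid hn2).2.2.1
  have key : S.InS W.k1 ↔ S.InS W.k2 := by
    rw [← hk1, ← hk2, ← S.isConj_ι_iff hn1, ← S.isConj_ι_iff hn2, hx1, hx2]
    exact ⟨fun h' => h'.trans hcj, fun h' => h'.trans hcj.symm⟩
  exact Bool.eq_iff_iff.2 ((hs _ hk18).trans (key.trans (hs _ hk28).symm))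

theorem pval_inj (K : SideOK D s) (hs : ∀ k < 8, s k = true ↔ S.InS k) (P : Split S D s gl) {p q : ℕ × List ℕ}
    (hp : pairOK D s p = true) (hq : pairOK D s q = true) (he : S.pval D P.y p = S.pval D P.y q) : p = q := by
  obtain ⟨h1, h2⟩ := S.pairOK_spec K hs hp
  obtain ⟨h3, h4⟩ := S.pairOK_spec K hs hq
  have hact : ∀ {r : ℕ × List ℕ}, r.1 < 64 → stabOK D.cls s r.2 = true → S.Acts D (S.pval D P.y r) r.2 := by
    intro r hr1 hr2 v hv
    have := S.acts_mul K (stabOK_spec hr2).1 (S.acts_e K hr1) (P.acts hr2) v hv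
    rw [apA_compA, apA_idA _ (apA_lt (stabOK_spec hr2).1 v)] at this
    exact this
  have hA : p.2 = q.2 :=
    S.acts_unique K (stabOK_spec h2).1 (stabOK_spec h4).1 (hact h1 h2) (he ▸ hact h3 h4)
  have he' : S.e D.dec p.1 * P.y p.2 = S.e D.dec q.1 * P.y q.2 := he
  rw [hA] at he'
  exact Prod.ext (S.e_inj K.good h1 h3 (mul_right_cancel he')) hA

/-- The element of the certificate equals one of the candidates. -/
theorem exists_shared {DA DB : Side} {glA glB : List ℕ} (KA : SideOK DA s) (KB : SideOK DB s)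
    (hs : ∀ k < 8, s k = true ↔ S.InS k) (PA : Split S DA s glA) (PB : Split S DB s glB) {LA LB : Letters}
    (hA : LA.check DA s glA = true) (hB : LB.check DB s glB = true) (g : ℕ → G)
    (hg : ∀ i < 6, g i = S.ι (codes.getD i 0))
    (hxA : g LA.extra = S.pval DA PA.y (LA.val.getD LA.extra pone))
    (hxB : g LB.extra = S.pval DB PB.y (LB.val.getD LB.extra pone)) {W : Shared}
    (h : W.ok DA DB s glA glB LA LB = true) :
    ∃ w ∈ W.bs, wv g (W.a ++ w) = 1 := by
  simp only [Shared.ok, Bool.and_eq_true, beq_iff, beq_iff_eq] at h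
  obtain ⟨⟨⟨⟨⟨⟨⟨⟨⟨⟨hglA, hlenA⟩, hglB⟩, hlenB⟩, hdom⟩, hbs⟩, hcube⟩, hal⟩, hact⟩, hb⟩, hsearch⟩ := h
  obtain ⟨hα, hαe⟩ := S.wv_eval KA hs PA hA g hg hxA W.a hdom
  set α := LA.eval W.a
  set el := S.pval DA PA.y α
  have hmat : IsMat W.act := ⟨hal, fun c hc => Nat.le_of_ble_eq_true (List.all_eq_true.1 hact c hc)⟩
  have hpow : ∀ b < 6, (2 : ℕ) ^ b < 64 := fun b hb => by interval_cases b <;> norm_num
  have hbb : ∀ b < 6, el * S.e DB.dec (2 ^ b) * el⁻¹ = S.e DB.dec (W.act.getD b 0) := by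
    intro b hb'
    have := List.all_eq_true.1 hb b (List.mem_range.2 hb')
    simp only [Bool.and_eq_true, beq_iff_eq] at this
    obtain ⟨-, hp, e1⟩ := S.codePair_spec KA hs PA hglA hlenA this.1.1.1.1
    obtain ⟨-, hq, e2⟩ := S.codePair_spec KA hs PA hglA hlenA this.1.1.1.2
    have hm := congrArg (S.pval DA PA.y) this.2
    rw [(S.pval_mul KA hs PA hα hp).2, (S.pval_mul KA hs PA hq hα).2, e1, e2] at hm
    exact mul_inv_eq_iff_eq_mul.2 hm
  have hactB : S.Acts DB el W.act := S.acts_of_basis KB hmat hbb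
  have hstab := S.stab_of_acts KB hs hmat hactB
  obtain ⟨v, hv, hve⟩ : ∃ v < 64, el = S.pval DB PB.y (v, W.act) := by
    have hm : el * (PB.y W.act)⁻¹ ∈ S.eSub DB.dec := by
      obtain ⟨B, hB', hBact⟩ := S.exists_acts KB (inv_mem (S.acts_mem KB hmat (PB.acts hstab)))
      refine S.mem_eSub_of_acts_id KB fun u hu => ?_
      have hw := apA_lt hB' u
      have h1 := PB.acts hstab _ hw
      have h2 : PB.y W.act * S.e DB.dec (apA B u) * (PB.y W.act)⁻¹ = S.e DB.dec u := by
        rw [← hBact u hu]; group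
      rw [apA_idA u hu]
      calc el * (PB.y W.act)⁻¹ * S.e DB.dec u * (el * (PB.y W.act)⁻¹)⁻¹
          = el * (PB.y W.act)⁻¹ * (PB.y W.act * S.e DB.dec (apA B u) * (PB.y W.act)⁻¹) *
              (el * (PB.y W.act)⁻¹)⁻¹ := by rw [h2]
        _ = el * S.e DB.dec (apA B u) * el⁻¹ := by group
        _ = S.e DB.dec u := by rw [hactB _ hw, ← h1, h2]
    obtain ⟨v, hv, hve⟩ := (S.mem_eSub KB.good).1 hm
    refine ⟨v, hv, ?_⟩
    show el = S.e DB.dec v * PB.y W.act
    rw [hve, inv_mul_cancel_right]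
  have hpv : pairOK DB s (v, W.act) = true := by
    simp only [pairOK, Bool.and_eq_true]
    exact ⟨Nat.ble_eq_true_of_le hv, hstab⟩
  have hsv := List.all_eq_true.1 hsearch v (List.mem_range.2 hv)
  simp only [Bool.or_eq_true, Bool.not_eq_true', Bool.and_eq_false_iff] at hsv
  rcases hsv with (hsv | hsv) | hsv
  · refine absurd (List.all_eq_true.2 fun b hb' => beq_iff_eq.2 ?_) (Bool.eq_false_iff.1 hsv)
    have hb6 := List.mem_range.1 hb'
    have := List.all_eq_true.1 hb b hb'
    simp only [Bool.and_eq_true, beq_iff_eq] at this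
    obtain ⟨-, hp, e1⟩ := S.codePair_spec KB hs PB hglB hlenB this.1.1.2
    obtain ⟨-, hq, e2⟩ := S.codePair_spec KB hs PB hglB hlenB this.1.2
    refine S.pval_inj KB hs PB (S.pval_mul KB hs PB hpv hp).1 (S.pval_mul KB hs PB hq hpv).1 ?_
    rw [(S.pval_mul KB hs PB hpv hp).2, (S.pval_mul KB hs PB hq hpv).2, e1, e2, ← hve]
    have hA' := (S.pairOK_spec KA hs hα).2
    have h2 := (S.acts_mul KA (stabOK_spec hA').1 (S.acts_e KA (S.pairOK_spec KA hs hα).1) (PA.acts hA')) _ (hpow b hb6)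
    rw [apA_compA, apA_idA _ (apA_lt (stabOK_spec hA').1 _), apA_basis _ hb6] at h2
    exact mul_inv_eq_iff_eq_mul.1 h2
  · refine absurd (beq_iff_eq.2 ?_) (Bool.eq_false_iff.1 hsv)
    obtain ⟨h2, e2⟩ := S.pval_mul KB hs PB hpv hpv
    obtain ⟨h3, e3⟩ := S.pval_mul KB hs PB hpv h2
    obtain ⟨h2', e2'⟩ := S.pval_mul KA hs PA hα hα
    obtain ⟨-, e3'⟩ := S.pval_mul KA hs PA hα h2'
    rw [hcube, S.pval_one KA hs PA, e2'] at e3'
    refine S.pval_inj KB hs PB h3 (by simp only [pairOK, pone, Bool.and_eq_true]; exact ⟨rfl, S.stab_idA KB hs⟩) ?_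
    rw [e3, e2, ← hve, S.pval_one KB hs PB]
    exact e3'.symm
  · obtain ⟨w, hw, hwe⟩ := List.any_eq_true.1 hsv
    refine ⟨w, hw, ?_⟩
    obtain ⟨hpw, hwv⟩ := S.wv_eval KB hs PB hB g hg hxB w (List.all_eq_true.1 hbs w hw)
    rw [wv_append, hαe, hwv]
    show el * S.pval DB PB.y (LB.eval w) = 1
    rw [hve, ← (S.pval_mul KB hs PB hpv hpw).2, beq_iff_eq.1 hwe, S.pval_one KB hs PB]

end Setup

end Cfsg.Lib.HeldType
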