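import Cfsg.Agent.Lib.HeldType.DescentData
import Cfsg.Agent.Lib.HeldType.Amalgam.He
import Cfsg.Agent.Lib.HeldType.Amalgam.L5
import Cfsg.Agent.Lib.HeldType.Amalgam.M24

/-!
# Recognising the three models
-/

set_option autoImplicit false
set_option maxRecDepth 100000
set_option linter.style.haveILetI false
set_option linter.unusedSectionVars false

namespace Cfsg.Lib.HeldType

open Amalgam (wv zWord)
open Matrix (SpecialLinearGroup)

attribute [local irreducible] tList invList tMask invMask decA decB allC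

theorem sub_lt_eight : (Amalgam.subL5.all (fun w => w.all fun l => Nat.blt l 8) &&
    Amalgam.subM24.all (fun w => w.all fun l => Nat.blt l 8) &&
    Amalgam.subHe.all (fun w => w.all fun l => Nat.blt l 8)) = true := by decide +kernel

namespace Amal

variable {G : Type*} [Group G] [Finite G] {S : Setup G} {c : Case} (A : Amal S c)

theorem holds_gM (h8 : (c.rels.all (fun w => w.all fun l => Nat.blt l 8) &&
    c.shared.all (fun w => w.all fun l => Nat.blt l 8)) = true) :
    ∀ r ∈ c.rels ++ [c.shared.getD A.join []], wv A.gM r = 1 := by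
  intro r hr
  refine Subtype.ext ?_
  rw [A.coe_wv_gM, A.holds r hr, Subgroup.coe_one]
  intro l hl
  obtain ⟨h1, h2⟩ := Bool.and_eq_true_iff.1 h8
  rcases List.mem_append.1 hr with hr | hr
  · exact Nat.le_of_ble_eq_true (List.all_eq_true.1 (List.all_eq_true.1 h1 r hr) l hl)
  · rw [List.mem_singleton.1 hr, List.getD_eq_getElem?_getD, List.getElem?_eq_getElem A.join_lt, Option.getD_some] at hl
    exact Nat.le_of_ble_eq_true (List.all_eq_true.1 (List.all_eq_true.1 h2 _ (List.getElem_mem _)) l hl)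

theorem big {sub : List (List ℕ)} {UA UB : List ℕ} (K : c.OK) (hs : ∀ k < 8, c.s k = true ↔ S.InS k)
    (hU : UA = [] ∨ UA.map (decE sideA.dec) = UB.map (decE sideB.dec))
    (h : sub.all (fun w => (!UA.isEmpty && keepsOK c.LA UA w) || keepsOK c.LB UB w) = true)
    (hmv : movesOK sideB.dec UB = true) (h8 : sub.all (fun w => w.all fun l => Nat.blt l 8) = true) :
    Subgroup.closure {x | ∃ w ∈ sub, wv A.gM w = x} ≠ ⊤ := by
  rw [show {x | ∃ w ∈ sub, wv A.gM w = x} = Set.range fun j : Fin sub.length => wv A.gM sub[j.1] from ?_]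
  · exact A.sub_ne_top K hs hU h hmv h8
  ext x
  constructor
  · rintro ⟨w, hw, rfl⟩
    obtain ⟨i, hi, rfl⟩ := List.getElem_of_mem hw
    exact ⟨⟨i, hi⟩, rfl⟩
  · rintro ⟨j, rfl⟩
    exact ⟨_, List.getElem_mem _, rfl⟩

theorem extends_top {H : Type*} [Group H] (hM : A.M = ⊤) (h : Nonempty (A.M ≃* H)) : Nonempty (G ≃* H) := by
  obtain ⟨e⟩ := h
  exact ⟨((MulEquiv.subgroupCongr hM).trans Subgroup.topEquiv).symm.trans e⟩

end Amal

namespace Setup

variable {G : Type*} [Group G] [Finite G] (S : Setup G)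

/-- The fused classes of `SL(5, 2)` force `SL(5, 2)`. -/
theorem iso_LFive (hs : ∀ k < 8, sLFive k = true ↔ S.InS k) :
    Nonempty (G ≃* SpecialLinearGroup (Fin 5) (ZMod 2)) := by
  obtain ⟨A⟩ := S.exists_amal caseLFive_ok hs
  have h := linksLFive_checked
  simp only [Bool.and_eq_true, Bool.not_eq_true'] at h
  obtain ⟨⟨⟨hlf, hln⟩, hx⟩, hk0⟩ := h
  have hF := A.fused_of_links caseLFive_ok hs hlf
  have hM := A.eq_top_of_claim caseLFive_ok hs hlf hln hx hk0
    (A.claim_nodes caseLFive_ok hs hF maskLFive_checked descentLFive_checked (fun P hP => absurd hP List.not_mem_nil)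
      _ List.mem_cons_self)
  refine A.extends_top hM ?_
  obtain ⟨h1, h2⟩ := sub_checked
  simp only [Bool.and_eq_true] at h1
  have h8 := sub_lt_eight
  simp only [Bool.and_eq_true] at h8
  refine Amalgam.L5_iso A.gM A.join (lt_of_lt_of_eq A.join_lt (by decide +kernel)) (A.holds_gM (by decide +kernel))
    A.closure_gM (A.big caseLFive_ok hs (Or.inl rfl) h1.1.1.1.1 h1.1.2 h8.1.1)
    fun N hN k hk hc h1' => A.z_mem_normal N (hN := hN) k hk hc h1'

/-- The fused classes of the Mathieu group force the Mathieu group. -/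
theorem iso_M24 (hs : ∀ k < 8, sM24 k = true ↔ S.InS k) : Nonempty (G ≃* Cfsg.M24) := by
  obtain ⟨A⟩ := S.exists_amal caseM24_ok hs
  have h := linksM24_checked
  simp only [Bool.and_eq_true, Bool.not_eq_true'] at h
  obtain ⟨⟨⟨hlf, hln⟩, hx⟩, hk0⟩ := h
  have hF := A.fused_of_links caseM24_ok hs hlf
  have hM := A.eq_top_of_claim caseM24_ok hs hlf hln hx hk0
    (A.claim_nodes caseM24_ok hs hF maskM24_checked descentM24_checked (fun P hP => absurd hP List.not_mem_nil)
      _ List.mem_cons_self)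
  refine A.extends_top hM ?_
  obtain ⟨h1, h2⟩ := sub_checked
  simp only [Bool.and_eq_true] at h1
  have h8 := sub_lt_eight
  simp only [Bool.and_eq_true] at h8
  refine Amalgam.M24_iso A.gM A.join (lt_of_lt_of_eq A.join_lt (by decide +kernel)) (A.holds_gM (by decide +kernel))
    A.closure_gM (A.big caseM24_ok hs (Or.inl rfl) h1.1.1.1.2 h1.1.2 h8.1.2)
    fun N hN k hk hc h1' => A.z_mem_normal N (hN := hN) k hk hc h1'

/-- The fused classes of the Held group and the last four-group force the Held group. -/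
theorem iso_He_of_claim (hs : ∀ k < 8, sHe k = true ↔ S.InS k)
    (hV : ∀ A : Amal S caseHe, A.Fused → A.Claim (vB.map (decE sideB.dec))) : Nonempty (G ≃* Cfsg.Spor.He) := by
  obtain ⟨A⟩ := S.exists_amal caseHe_ok hs
  have h := linksHe_checked
  simp only [Bool.and_eq_true, Bool.not_eq_true'] at h
  obtain ⟨⟨⟨hlf, hln⟩, hx⟩, hk0⟩ := h
  have hF := A.fused_of_links caseHe_ok hs hlf
  have hM := A.eq_top_of_claim caseHe_ok hs hlf hln hx hk0
    (A.claim_nodes caseHe_ok hs hF maskHe_checked descentHe_checked (fun P hP => List.mem_singleton.1 hP ▸ hV A hF)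
      _ List.mem_cons_self)
  refine A.extends_top hM ?_
  obtain ⟨h1, h2⟩ := sub_checked
  simp only [Bool.and_eq_true] at h1
  have h8 := sub_lt_eight
  simp only [Bool.and_eq_true] at h8
  refine Amalgam.He_iso A.gM A.join (lt_of_lt_of_eq A.join_lt (by decide +kernel)) (A.holds_gM (by decide +kernel))
    A.closure_gM (A.big caseHe_ok hs (Or.inr h2) h1.1.1.2 h1.2 h8.2)
    fun N hN k hk hc h1' => A.z_mem_normal N (hN := hN) k hk hc h1'

end Setup

end Cfsg.Lib.HeldType
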