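import Cfsg.Agent.Lib.HeldType.HeTerminalData
import Cfsg.Agent.Lib.HeldType.Models

/-!
# The centraliser of the last four-group in the Held case
-/

set_option autoImplicit false
set_option maxRecDepth 100000
set_option linter.style.haveILetI false
set_option linter.unusedSectionVars false

namespace Cfsg.Lib.HeldType

open Amalgam (wv)

attribute [local irreducible] tList invList tMask invMask decA decB allC maskHe

/-- The coordinates of the four-group. -/
def vSpan : List ℕ := [0, 33, 50, 19]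

theorem vSpan_checked : (vSpan.all (fun q => Nat.blt q 64) && vB.all (fun q => vSpan.any (Nat.beq q)) &&
    vSpan.all (fun q => vSpan.all fun r => vSpan.any (Nat.beq (Nat.xor q r))) &&
    vB.all (fun q => !inO sideB.cls sHe q && !Nat.beq q 0) && vSpan.all (fun q => Nat.beq q 0 || vB.any (Nat.beq q)) &&
    inO sideB.cls sHe 2 && inO sideB.cls sHe 4) = true := by decide +kernel

theorem mask_fused {x : ℕ} (hx : maskHe.testBit x = true) : ∃ n ∈ invList, entX n = x ∧ sHe (entK n) = true := by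
  rw [Nat.eq_of_beq_eq_true maskHe_checked, fusedMask, foldl_mask_testBit] at hx
  simp only [Nat.zero_testBit, Bool.false_eq_true, false_or, List.mem_map, List.mem_filter] at hx
  obtain ⟨m, ⟨hm, hs'⟩, he⟩ := hx
  exact ⟨m, hm, he, hs'⟩

namespace Amal

variable {G : Type*} [Group G] [Finite G] {S : Setup G} {c : Case} (A : Amal S c)

theorem exists_conj_le_tSub {R : Subgroup G} (hR : R ≤ A.M) (hp : IsPGroup 2 R) :
    ∃ m ∈ A.M, ∀ r ∈ R, m⁻¹ * r * m ∈ S.tSub := by
  obtain ⟨P, hP⟩ := S.exists_sylow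
  have hPM : (P : Subgroup G) ≤ A.M := hP ▸ le_trans S.tSub_le A.cent_le
  have hR' : IsPGroup 2 (R.subgroupOf A.M) := hp.comap_of_injective A.M.subtype Subtype.coe_injective
  obtain ⟨Q, hQ⟩ := hR'.exists_le_sylow
  obtain ⟨m, rfl⟩ := MulAction.exists_smul_eq A.M (P.subtype hPM) Q
  refine ⟨m, m.2, fun r hr => ?_⟩
  have hmem : (⟨r, hR hr⟩ : A.M) ∈ ((m • P.subtype hPM : Sylow 2 A.M) : Subgroup A.M) := hQ (by exact hr)
  rw [Sylow.coe_subgroup_smul, Subgroup.mem_pointwise_smul_iff_inv_smul_mem] at hmem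
  rw [← hP]
  simpa [Subgroup.mem_subgroupOf, MulAut.conj_inv_apply] using hmem

end Amal

namespace HeFour

variable {G : Type*} [Group G] [Finite G] {S : Setup G} (A : Amal S caseHe)
variable (hs : ∀ k < 8, sHe k = true ↔ S.InS k) (hF : A.Fused)

local notation "E" => Setup.e S sideB.dec

theorem goodB' : Good sideB.dec := goodB

theorem zE : E 16 = S.z := by
  obtain ⟨-, h, -⟩ := caseHe_ok.sideB.lifts_spec
  rw [Setup.e, show (16 : ℕ) = sideB.zi from rfl, h, S.map_z]

theorem span_lt {q : ℕ} (hq : q ∈ vSpan) : q < 64 := by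
  have h := vSpan_checked
  simp only [Bool.and_eq_true, List.all_eq_true] at h
  exact Nat.le_of_ble_eq_true (h.1.1.1.1.1.1 q hq)

theorem vB_sub {q : ℕ} (hq : q ∈ vB) : q ∈ vSpan := by
  fin_cases hq <;> decide

include hs in
theorem not_fused_vB {q : ℕ} (hq : q ∈ vB) : ¬ IsConj S.z (E q) := by
  have h := vSpan_checked
  simp only [Bool.and_eq_true, List.all_eq_true, Bool.not_eq_true'] at h
  obtain ⟨h1, h2⟩ := h.1.1.1.2 q hq
  have h0 : q ≠ 0 := fun e => by simp [e] at h2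
  obtain ⟨hk, hiff⟩ := S.isConj_e caseHe_ok.sideB.cls_ok (span_lt (vB_sub hq)) h0
  rw [hiff, ← hs _ hk]
  exact fun hc => Bool.false_ne_true (h1.symm.trans hc)

/-- The centraliser of the four-group. -/
def HV : Subgroup G := Subgroup.centralizer (E '' {x | x ∈ vSpan})

/-- The four-group. -/
def VV (_A : Amal S caseHe) : Subgroup G where
  carrier := E '' {x | x ∈ vSpan}
  one_mem' := ⟨0, List.mem_cons_self, S.e_zero goodB'⟩
  mul_mem' := by
    rintro _ _ ⟨a, ha, rfl⟩ ⟨b, hb, rfl⟩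
    refine ⟨Nat.xor a b, ?_, (S.e_mul goodB' (span_lt ha) (span_lt hb)).symm⟩
    have h := vSpan_checked
    simp only [Bool.and_eq_true, List.all_eq_true, List.any_eq_true, beq_iff] at h
    obtain ⟨r, hr, he⟩ := h.1.1.1.1.2 a ha b hb
    show Nat.xor a b ∈ vSpan
    rw [he]; exact hr
  inv_mem' := by
    rintro _ ⟨a, ha, rfl⟩
    exact ⟨a, ha, eq_inv_of_mul_eq_one_left (S.e_sq goodB' (span_lt ha))⟩

theorem mem_HV {g : G} : g ∈ HV (S := S) ↔ ∀ q ∈ vSpan, g * E q = E q * g := by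
  rw [HV, Subgroup.mem_centralizer_iff]
  refine ⟨fun h q hq => (h _ ⟨q, hq, rfl⟩).symm, ?_⟩
  rintro h _ ⟨q, hq, rfl⟩
  exact (h q hq).symm

theorem e_mem_HV {a : ℕ} (ha : a < 64) : E a ∈ HV (S := S) :=
  mem_HV.2 fun q hq => S.eSub_comm goodB' (S.e_mem goodB' ha) (S.e_mem goodB' (span_lt hq))

theorem valid_e {a : ℕ} (ha : a < 64) : valid (decE sideB.dec a) = true :=
  (Good.valid_mem goodB' (Good.mem_of_lt goodB' ha)).1

theorem VV_le_M : VV A ≤ A.M := by
  rintro _ ⟨q, hq, rfl⟩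
  exact A.cent_le (S.mem (valid_e (span_lt hq)))

include hs in
theorem fused_of_mask {x : ℕ} (hx : maskHe.testBit x = true) : IsConj S.z (S.ι x) := by
  obtain ⟨n, hn, rfl, hk⟩ := mask_fused hx
  exact (S.isConj_ι_iff hn).2 ((hs _ (Setup.entry_valid hn).2.2.1).1 hk)

include hs in
theorem star {s : G} (hsM : s ∈ A.M) (hsH : s ∈ HV (S := S)) (hsq : s * s ∈ VV A) (hsV : s ∉ VV A) :
    ∃ q ∈ vSpan, IsConj S.z (s * E q) := by
  set R := Subgroup.closure (insert s (VV A : Set G)) with hR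
  have hcomm : ∀ x ∈ insert s (VV A : Set G), ∀ y ∈ insert s (VV A : Set G), x * y = y * x := by
    intro x hx y hy
    rcases hx with rfl | ⟨a, ha, rfl⟩ <;> rcases hy with rfl | ⟨b, hb, rfl⟩
    · rfl
    · exact mem_HV.1 hsH b hb
    · exact (mem_HV.1 hsH a ha).symm
    · exact S.eSub_comm goodB' (S.e_mem goodB' (span_lt ha)) (S.e_mem goodB' (span_lt hb))
  haveI := Subgroup.isMulCommutative_closure hcomm
  have hVsq : ∀ x ∈ VV A, x * x = 1 := by
    rintro _ ⟨a, ha, rfl⟩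
    exact S.e_sq goodB' (span_lt ha)
  have h4 : ∀ x ∈ R, x ^ 4 = 1 := by
    intro x hx
    induction hx using Subgroup.closure_induction with
    | mem x hx =>
      rcases hx with rfl | hx
      · rw [show (4 : ℕ) = 2 * 2 from rfl, pow_mul, pow_two, pow_two, hVsq _ hsq]
      · rw [show (4 : ℕ) = 2 * 2 from rfl, pow_mul, pow_two x, hVsq _ hx, one_pow]
    | one => exact one_pow 4
    | mul a b ha hb iha ihb =>
      have hab : Commute a b := congrArg Subtype.val (mul_comm' (⟨a, ha⟩ : R) ⟨b, hb⟩)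
      rw [hab.mul_pow, iha, ihb, mul_one]
    | inv a _ iha => rw [inv_pow, iha, inv_one]
  have hRp : IsPGroup 2 R := fun x => ⟨2, Subtype.ext (by
    rw [Subgroup.coe_pow, Subgroup.coe_one]; exact h4 _ x.2)⟩
  have hRM : R ≤ A.M := (Subgroup.closure_le _).2 (Set.insert_subset hsM (VV_le_M A))
  obtain ⟨m, hm, hmT⟩ := A.exists_conj_le_tSub hRM hRp
  have hgen : ∀ x ∈ insert s (VV A : Set G), m⁻¹ * x * m ∈ Subgroup.centralizer ({S.z} : Set G) :=
    fun x hx => S.tSub_le (hmT x (Subgroup.subset_closure hx))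
  -- normalise the first member
  have h33 : E 33 ∈ VV A := ⟨33, by decide, rfl⟩
  have h1' : E 33 ≠ 1 := fun e => by
    have := S.e_inj goodB' (by norm_num) (by norm_num) (e.trans (S.e_zero goodB').symm)
    omega
  obtain ⟨n, hn, hne⟩ := S.exists_entry (hgen _ (Or.inr h33))
    (by rw [show ∀ a b : G, a⁻¹ * b * a * (a⁻¹ * b * a) = a⁻¹ * (b * b) * a from fun a b => by group, hVsq _ h33]; group)
    (fun e => h1' (by
      calc E 33 = m * (m⁻¹ * E 33 * m) * m⁻¹ := by group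
        _ = 1 := by rw [e]; group))
  obtain ⟨d, hd, hde⟩ := S.conj_rep hn
  have hk8 := (Setup.entry_valid hn).2.2.1
  have hk : entK n = 4 ∨ entK n = 6 := classes_He _ hk8 (by
    rw [Bool.eq_false_iff]
    intro hc
    exact not_fused_vB hs (q := 33) (by decide) (((S.isConj_ι_iff hn).2 ((hs _ hk8).1 hc)).trans
      (isConj_iff.2 ⟨m, by rw [hne]; group⟩)))
  set w := m * d with hw
  have hwa : w⁻¹ * E 33 * w = S.ι (reps.getD (entK n) 0) := by
    calc w⁻¹ * E 33 * w = d⁻¹ * (m⁻¹ * E 33 * m) * d := by rw [hw]; group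
      _ = S.rep (entK n) := by rw [← hne, ← hde]; group
  have hwC : ∀ x ∈ insert s (VV A : Set G), w⁻¹ * x * w ∈ Subgroup.centralizer ({S.z} : Set G) := fun x hx => by
    rw [show w⁻¹ * x * w = d⁻¹ * (m⁻¹ * x * m) * d by rw [hw]; group]
    exact mul_mem (mul_mem (inv_mem hd) (hgen x hx)) hd
  obtain ⟨b, hb, hbe⟩ := S.surj (hwC (E 50) (Or.inr ⟨50, by decide, rfl⟩))
  obtain ⟨x, hx, hxe⟩ := S.surj (hwC s (Or.inl rfl))
  -- the check
  have hmain : ∀ a bs, starOK maskHe a bs = true → a = reps.getD (entK n) 0 → ∃ q ∈ vSpan, IsConj S.z (s * E q) := by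
    intro a bs hok ha
    simp only [starOK, Bool.and_eq_true, List.all_eq_true] at hok
    obtain ⟨⟨⟨hav, hbv⟩, hcompl⟩, hscan⟩ := hok
    rw [← ha] at hwa
    have hcab : commB b a = true := beq_iff.2 ((S.comm_iff hb hav).1 (by
      show S.ι b * S.ι a = S.ι a * S.ι b
      rw [hbe, ← hwa]
      calc w⁻¹ * E 50 * w * (w⁻¹ * E 33 * w) = w⁻¹ * (E 50 * E 33) * w := by group
        _ = w⁻¹ * (E 33 * E 50) * w := by
          rw [S.eSub_comm goodB' (S.e_mem goodB' (a := 50) (by norm_num)) (S.e_mem goodB' (a := 33) (by norm_num))]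
        _ = _ := by group))
    have hb1 : S.ι b ≠ 1 := fun e => by
      have h50 : E 50 = E 0 := by
        rw [S.e_zero goodB', show E 50 = w * (w⁻¹ * E 50 * w) * w⁻¹ by group, ← hbe, e]; group
      have := S.e_inj goodB' (by norm_num) (by norm_num) h50
      omega
    obtain ⟨n', hn', hne'⟩ := S.exists_entry (S.mem hb) (by
      rw [hbe, show ∀ a b : G, a⁻¹ * b * a * (a⁻¹ * b * a) = a⁻¹ * (b * b) * a from fun a b => by group,
        hVsq _ ⟨50, by decide, rfl⟩]; group) hb1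
    have hbx : entX n' = b := S.inj (Setup.entry_valid hn').1 hb hne'
    have hbs : bs.any (Nat.beq b) = true := by
      have h := hcompl n' hn'
      rw [hbx, hcab] at h
      simp only [Bool.not_true, Bool.false_or, Bool.or_eq_true] at h
      rcases h with ((h | h) | h) | h
      · exact absurd ((fused_of_mask hs h).trans (isConj_iff.2 ⟨w, by rw [hbe]; group⟩))
          (not_fused_vB hs (q := 50) (by decide))
      · exfalso
        have : E 50 = E 33 := by
          rw [show E 50 = w * (w⁻¹ * E 50 * w) * w⁻¹ by group, ← hbe, beq_iff.1 h, ← hwa]; group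
        have := S.e_inj goodB' (by norm_num) (by norm_num) this
        omega
      · exfalso
        refine not_fused_vB hs (q := 19) (by decide) ((fused_of_mask hs h).trans (isConj_iff.2 ⟨w, ?_⟩))
        rw [S.mul hav hb, hbe, ← hwa, show E 19 = E 33 * E 50 by
          rw [S.e_mul goodB' (by norm_num) (by norm_num)]; rfl]
        group
      · exact h
    obtain ⟨b', hb', hbb'⟩ := List.any_eq_true.1 hbs
    obtain rfl := beq_iff.1 hbb'
    have hcx : commB x a = true ∧ commB x b = true := by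
      refine ⟨beq_iff.2 ((S.comm_iff hx hav).1 ?_), beq_iff.2 ((S.comm_iff hx hb).1 ?_)⟩
      · show S.ι x * S.ι a = S.ι a * S.ι x
        rw [hxe, ← hwa]
        calc w⁻¹ * s * w * (w⁻¹ * E 33 * w) = w⁻¹ * (s * E 33) * w := by group
          _ = w⁻¹ * (E 33 * s) * w := by rw [mem_HV.1 hsH 33 (by decide)]
          _ = _ := by group
      · show S.ι x * S.ι b = S.ι b * S.ι x
        rw [hxe, hbe]
        calc w⁻¹ * s * w * (w⁻¹ * E 50 * w) = w⁻¹ * (s * E 50) * w := by group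
          _ = w⁻¹ * (E 50 * s) * w := by rw [mem_HV.1 hsH 50 (by decide)]
          _ = _ := by group
    have h := of_all_allC (p := fun x => !commB x a || bs.all fun b => !commB x b || starOne maskHe a b x)
      (List.all_eq_true.2 hscan) hx
    simp only [hcx.1, Bool.not_true, Bool.false_or, List.all_eq_true] at h
    have h' := h b hb'
    simp only [hcx.2, Bool.not_true, Bool.false_or, starOne, Bool.or_eq_true, Bool.and_eq_true,
      Bool.not_eq_true'] at h'
    have hP : ∀ p ∈ [oneC, a, b, mulC a b], valid p = true ∧ w * S.ι p * w⁻¹ ∈ VV A ∧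
        ∃ q ∈ vSpan, E q = w * S.ι p * w⁻¹ := by
      have ea : w * S.ι a * w⁻¹ = E 33 := by rw [← hwa]; group
      have eb : w * S.ι b * w⁻¹ = E 50 := by rw [hbe]; group
      have key : ∀ p ∈ [oneC, a, b, mulC a b], valid p = true ∧ ∃ q ∈ vSpan, E q = w * S.ι p * w⁻¹ := by
        intro p hp
        simp only [List.mem_cons, List.not_mem_nil, or_false] at hp
        rcases hp with rfl | rfl | rfl | rfl
        · exact ⟨valid_oneC, 0, by decide, by rw [S.e_zero goodB', S.map_one]; group⟩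
        · exact ⟨hav, 33, by decide, ea.symm⟩
        · exact ⟨hb, 50, by decide, eb.symm⟩
        · refine ⟨valid_mulC hav hb, 19, by decide, ?_⟩
          rw [S.mul hav hb, show E 19 = E 33 * E 50 by rw [S.e_mul goodB' (by norm_num) (by norm_num)]; rfl,
            ← ea, ← eb]
          group
      intro p hp
      obtain ⟨hv, q, hq, hqe⟩ := key p hp
      exact ⟨hv, ⟨q, hq, hqe⟩, q, hq, hqe⟩
    rcases h' with (h' | h') | ⟨-, h'⟩
    · exfalso
      rw [List.any_eq_false] at h'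
      obtain ⟨q, hq, hqe⟩ := hsq
      have key : ∀ q ∈ vSpan, ∃ p ∈ [oneC, a, b, mulC a b], S.ι p = w⁻¹ * E q * w := by
        intro q hq
        fin_cases hq
        · exact ⟨oneC, by simp, by rw [S.map_one, S.e_zero goodB']; group⟩
        · exact ⟨a, by simp, hwa.symm⟩
        · exact ⟨b, by simp, hbe⟩
        · refine ⟨mulC a b, by simp, ?_⟩
          rw [S.mul hav hb, hbe, ← hwa, show E 19 = E 33 * E 50 by
            rw [S.e_mul goodB' (by norm_num) (by norm_num)]; rfl]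
          group
      obtain ⟨p, hp, hpe⟩ := key q hq
      refine h' p hp (beq_iff.2 (S.inj (valid_mulC hx hx) (hP p hp).1 ?_))
      rw [S.mul hx hx, hxe, hpe, hqe]
      group
    · exfalso
      obtain ⟨p, hp, hpe⟩ := List.any_eq_true.1 h'
      refine hsV ?_
      have := (hP p hp).2.1
      rw [← beq_iff.1 hpe, hxe] at this
      simpa [mul_assoc] using this
    · obtain ⟨p, hp, hpf⟩ := List.any_eq_true.1 h'
      obtain ⟨hpv, -, q, hq, hqe⟩ := hP p hp
      refine ⟨q, hq, (fused_of_mask hs hpf).trans (isConj_iff.2 ⟨w, ?_⟩)⟩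
      rw [S.mul hx hpv, hqe, hxe]
      group
  rcases hk with hk | hk
  · exact hmain _ _ starFour_checked (by rw [hk])
  · exact hmain _ _ starSix_checked (by rw [hk])

theorem mover_spec {W : Mover} (hs : ∀ k < 8, sHe k = true ↔ S.InS k) (hW : W.ok sideB lettersHeB vB = true) :
    W.v < 64 ∧ ∃ m ∈ A.M, m * S.z * m⁻¹ = E W.v ∧
      ∀ j < vB.length, W.pre.getD j 0 < 64 ∧ m * E (W.pre.getD j 0) * m⁻¹ = E (vB.getD j 0) := by
  simp only [Mover.ok, Bool.and_eq_true, List.all_eq_true, beq_iff, List.mem_range] at hW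
  obtain ⟨⟨⟨⟨⟨hv, hdom⟩, h8⟩, hz⟩, -⟩, hpre⟩ := hW
  obtain ⟨hp, hwv⟩ := S.wv_eval caseHe_ok.sideB hs A.PB caseHe_ok.letB A.g A.cent A.seven W.word hdom
  have hact := Amal.acts_pval caseHe_ok.sideB hs A.PB hp
  refine ⟨Nat.le_of_ble_eq_true hv, S.pval sideB A.PB.y ((caseHe.LB).eval W.word), ?_, ?_, fun j hj => ?_⟩
  · rw [← hwv]
    exact list_prod_mem fun a ha => by
      obtain ⟨l, hl, rfl⟩ := List.mem_map.1 ha
      exact A.g_mem (Nat.le_of_ble_eq_true (h8 l hl))
  · have := hact sideB.zi (show (16 : ℕ) < 64 by norm_num)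
    rw [show caseHe.LB = lettersHeB from rfl] at this ⊢
    rwa [hz, show sideB.zi = 16 from rfl, zE] at this
  · obtain ⟨h1, h2⟩ := hpre j hj
    refine ⟨Nat.le_of_ble_eq_true h1, ?_⟩
    rw [show caseHe.LB = lettersHeB from rfl] at hact ⊢
    rw [hact _ (Nat.le_of_ble_eq_true h1), h2]

include hs in
theorem not_translate {k : G} (hk : k ∈ HV (S := S)) (_hkM : k ∈ A.M) {q : ℕ} (hq : q ∈ vB) :
    k * S.z * k⁻¹ ≠ S.z * E q := by
  intro heq
  have h := movers_checked
  simp only [Bool.and_eq_true, List.all_eq_true, Bool.or_eq_true, Bool.not_eq_true', List.any_eq_true, beq_iff] at h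
  have hq64 := span_lt (vB_sub hq)
  have hzq : S.z * E q = E (Nat.xor 16 q) := by rw [← zE, S.e_mul goodB' (by norm_num) hq64]
  have hzq64 : Nat.xor 16 q < 64 := Nat.xor_lt_two_pow (n := 6) (by norm_num) hq64
  rcases h.1.1 q hq with hnf | ⟨W, -, ⟨hW, hWv⟩, hno⟩
  · have hzq0 : Nat.xor 16 q ≠ 0 := by fin_cases hq <;> decide
    obtain ⟨hk8, hiff⟩ := S.isConj_e caseHe_ok.sideB.cls_ok hzq64 hzq0
    have := hiff.1 (isConj_iff.2 ⟨k, by rw [heq, hzq]⟩)
    rw [← hs _ hk8] at this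
    exact Bool.false_ne_true (hnf.symm.trans this)
  obtain ⟨-, n, -, hnz, hnpre⟩ := mover_spec A hs hW
  rw [hWv, ← hzq] at hnz
  set g := n⁻¹ * k with hg
  have hgC : g ∈ Subgroup.centralizer ({S.z} : Set G) := by
    refine Subgroup.mem_centralizer_singleton_iff.2 (mul_inv_eq_iff_eq_mul.1 ?_)
    calc g * S.z * g⁻¹ = n⁻¹ * (k * S.z * k⁻¹) * n := by rw [hg]; group
      _ = S.z := by rw [heq, ← hnz]; group
  obtain ⟨j, hj, hjne⟩ := List.any_eq_true.1 hno
  have hj' := List.mem_range.1 hj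
  simp only [Bool.and_eq_true, Bool.or_eq_true, Bool.not_eq_true', Bool.eq_false_iff, ne_eq, beq_iff] at hjne
  obtain ⟨⟨hx0, hy0⟩, hne⟩ := hjne
  have hxv : vB.getD j 0 ∈ vB := by
    rw [List.getD_eq_getElem?_getD, List.getElem?_eq_getElem hj', Option.getD_some]
    exact List.getElem_mem _
  have hrep : ∀ a < 64, a ≠ 0 → sideB.cls.getD a 9 < 8 ∧ ∃ d ∈ Subgroup.centralizer ({S.z} : Set G),
      d * S.rep (sideB.cls.getD a 9) * d⁻¹ = E a := by
    intro a ha h0
    have h := List.all_eq_true.1 caseHe_ok.sideB.cls_ok a (List.mem_range.2 ha)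
    simp only [Bool.or_eq_true, beq_iff, h0, false_or, List.any_eq_true, Bool.and_eq_true] at h
    obtain ⟨m, hm, hmx, hmk⟩ := h
    obtain ⟨d, hd, hde⟩ := S.conj_rep hm
    rw [← hmk]
    exact ⟨(Setup.entry_valid hm).2.2.1, d, hd, by rw [hde, Setup.e, hmx]⟩
  obtain ⟨hk1, d1, hd1, he1⟩ := hrep _ (span_lt (vB_sub hxv)) hx0
  obtain ⟨hk2, d2, hd2, he2⟩ := hrep _ (hnpre j hj').1 hy0
  set w := d2⁻¹ * (g * d1) with hw
  have hwC : w ∈ Subgroup.centralizer ({S.z} : Set G) := mul_mem (inv_mem hd2) (mul_mem hgC hd1)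
  have hwz : w * S.z * w⁻¹ = S.z := by rw [Subgroup.mem_centralizer_singleton_iff.1 hwC, mul_inv_cancel_right]
  have hwr : w * S.rep (sideB.cls.getD (vB.getD j 0) 9) * w⁻¹ = S.rep (sideB.cls.getD (W.pre.getD j 0) 9) := by
    calc w * S.rep (sideB.cls.getD (vB.getD j 0) 9) * w⁻¹
        = d2⁻¹ * (g * (d1 * S.rep (sideB.cls.getD (vB.getD j 0) 9) * d1⁻¹) * g⁻¹) * d2 := by rw [hw]; group
      _ = d2⁻¹ * (n⁻¹ * (k * E (vB.getD j 0) * k⁻¹) * n) * d2 := by rw [he1, hg]; group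
      _ = d2⁻¹ * (n⁻¹ * E (vB.getD j 0) * n) * d2 := by
        rw [mem_HV.1 hk _ (vB_sub hxv), mul_inv_cancel_right]
      _ = S.rep (sideB.cls.getD (W.pre.getD j 0) 9) := by
        rw [← (hnpre j hj').2, show ∀ a b : G, a⁻¹ * (a * b * a⁻¹) * a = b from fun a b => by group, ← he2]; group
  have e1 := Setup.ncard_roots_conj S.z (S.rep (sideB.cls.getD (vB.getD j 0) 9)) w
  have e2 := Setup.ncard_roots_conj (S.rep (sideB.cls.getD (vB.getD j 0) 9)) S.z w
  rw [hwz, hwr] at e1 e2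
  rcases hne with hne | hne
  · exact hne (by rw [← (S.roots_rep hk1).1, ← (S.roots_rep hk2).1, e1])
  · exact hne (by rw [← (S.roots_rep hk1).2, ← (S.roots_rep hk2).2, e2])

/-- A subgroup permutes the conjugates of `z` it produces, with the centraliser as stabiliser. -/
theorem card_orbit (K : Subgroup G) (T : Finset G) (hT : ∀ y, y ∈ T ↔ ∃ k ∈ K, k * S.z * k⁻¹ = y) :
    Nat.card K = T.card * Nat.card ↥(K ⊓ Subgroup.centralizer ({S.z} : Set G)) := by
  set D := (K ⊓ Subgroup.centralizer ({S.z} : Set G)) with hD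
  have hrel : ∀ a b : K, (QuotientGroup.mk a : K ⧸ D.subgroupOf K) = QuotientGroup.mk b ↔
      (a : G) * S.z * (a : G)⁻¹ = (b : G) * S.z * (b : G)⁻¹ := by
    intro a b
    rw [QuotientGroup.eq, Subgroup.mem_subgroupOf, hD, Subgroup.mem_inf, Subgroup.mem_centralizer_singleton_iff]
    refine ⟨fun h => ?_, fun h => ⟨(a⁻¹ * b).2, ?_⟩⟩
    · have h2 := h.2
      simp only [Subgroup.coe_mul, Subgroup.coe_inv] at h2
      calc (a : G) * S.z * (a : G)⁻¹ = a * ((a : G)⁻¹ * b * S.z) * (b : G)⁻¹ := by rw [h2]; group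
        _ = b * S.z * (b : G)⁻¹ := by group
    · simp only [Subgroup.coe_mul, Subgroup.coe_inv]
      calc (a : G)⁻¹ * b * S.z = (a : G)⁻¹ * (b * S.z * (b : G)⁻¹) * b := by group
        _ = S.z * ((a : G)⁻¹ * b) := by rw [← h]; group
  let f : K ⧸ D.subgroupOf K → T := Quotient.lift (fun a : K => ⟨_, (hT _).2 ⟨a, a.2, rfl⟩⟩)
    fun a b h => Subtype.ext ((hrel a b).1 (Quotient.sound h))
  have hf : Function.Bijective f := by
    refine ⟨fun p q => ?_, fun y => ?_⟩
    · induction p using QuotientGroup.induction_on with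
      | H a =>
        induction q using QuotientGroup.induction_on with
        | H b => exact fun h => (hrel a b).2 (congrArg Subtype.val h)
    · obtain ⟨k, hk, he⟩ := (hT _).1 y.2
      exact ⟨QuotientGroup.mk ⟨k, hk⟩, Subtype.ext he⟩
  rw [Subgroup.card_eq_card_quotient_mul_card_subgroup (D.subgroupOf K), Nat.card_congr (Equiv.ofBijective f hf),
    Nat.card_eq_finsetCard, Nat.card_congr (Subgroup.subgroupOfEquivOfLe (inf_le_left : D ≤ K)).toEquiv]

include hs in
theorem mem_maps {n : G} {Q : List ℕ} (hQ : IsMat Q) (hact : S.Acts sideB n Q) (hH : n ∈ HV (S := S)) {t : ℕ}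
    (ht : t < 64) (hnt : n * S.z * n⁻¹ = E t) {maps : List (List ℕ)}
    (hsearch : searchOK sideB.cls sHe (sideB.cand sHe) idxV maps bsV srcV (imgV t) = true) : Q ∈ maps := by
  obtain ⟨-, hinj, hO⟩ := stabOK_spec (S.stab_of_acts caseHe_ok.sideB hs hQ hact)
  have h := maps_checked
  simp only [Bool.and_eq_true, beq_iff_eq, List.all_eq_true] at h
  obtain ⟨⟨⟨⟨⟨hidx, hbs⟩, hsrc⟩, -⟩, -⟩, -⟩ := h
  have hfix : ∀ q ∈ vB, apA Q q = q := fun q hq => S.e_inj goodB' (apA_lt hQ q) (span_lt (vB_sub hq)) (by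
    rw [← hact q (span_lt (vB_sub hq)), mem_HV.1 hH q (vB_sub hq), mul_inv_cancel_right])
  have h16 : apA Q 16 = t := S.e_inj goodB' (apA_lt hQ 16) ht (by
    rw [← hact 16 (by norm_num), zE, hnt])
  have h33 := hfix 33 (by decide)
  have h50 := hfix 50 (by decide)
  have himg : imgV t = srcV.map (apA Q) := by
    simp only [imgV, srcV, List.map_cons, List.map_nil, apA_zero, h16, h33, h50,
      show (49 : ℕ) = Nat.xor 33 16 from rfl, show (34 : ℕ) = Nat.xor 50 16 from rfl,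
      show (19 : ℕ) = Nat.xor 50 33 from rfl, show (3 : ℕ) = Nat.xor 50 (Nat.xor 33 16) from rfl, apA_xor]
  rw [himg] at hsearch
  have hcand : ∀ v < 64, inO sideB.cls sHe v = true → apA Q v ∈ sideB.cand sHe := fun v hv hin => by
    refine List.mem_filter.2 ⟨List.mem_range.2 (apA_lt hQ v), ?_⟩
    exact (hO v hv).trans hin
  obtain ⟨src, -, hc, hsrc'⟩ := searchOK_spec hinj hO hcand bsV srcV
    (fun b hb => ⟨Nat.le_of_ble_eq_true (hbs b hb).1, (hbs b hb).2⟩) (fun u hu => Nat.le_of_ble_eq_true (hsrc u hu))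
    hsearch
  rw [← hsrc'] at hidx
  have hget : ∀ i, (src.map (apA Q)).getD i 0 = apA Q (src.getD i 0) := by
    intro i
    simp only [List.getD_eq_getElem?_getD, List.getElem?_map]
    cases src[i]? <;> simp [apA_zero]
  have hidQ : (idxV.map fun i => (src.map (apA Q)).getD i 0) = Q := by
    simp only [hget]
    rw [show (idxV.map fun i => apA Q (src.getD i 0)) = (idxV.map fun i => src.getD i 0).map (apA Q) by
      rw [List.map_map]; rfl, hidx]
    exact eq_of_apA (isMat_compA hQ isMat_idA) hQ fun v hv => by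
      show apA (compA Q idA) v = apA Q v
      rw [apA_compA, apA_idA v hv]
  rw [hidQ] at hc
  exact List.mem_of_elem_eq_true hc

include hs hF in
theorem le_M : HV (S := S) ≤ A.M := by
  classical
  haveI : Fintype G := Fintype.ofFinite G
  haveI : Fact (Nat.Prime 2) := ⟨Nat.prime_two⟩
  by_contra hle
  obtain ⟨h, hh, hhM⟩ := SetLike.not_le_iff_exists.1 hle
  have hzH : S.z ∈ HV (S := S) := zE (S := S) ▸ e_mem_HV (by norm_num)
  set H := HV (S := S) with hHdef
  set K := H ⊓ A.M with hKdef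
  set C := Subgroup.centralizer ({S.z} : Set G) with hCdef
  have hX : ∀ g ∈ H, g * S.z * g⁻¹ ∈ A.M → g ∈ K := fun g hg hmem => by
    obtain ⟨m, hm, hme⟩ := hF _ hmem (isConj_iff.2 ⟨g, rfl⟩)
    exact ⟨hg, A.conj_mem_of_eq hm hme.symm⟩
  set Ω : Finset G := Finset.univ.filter (fun y => ∃ g ∈ H, g * S.z * g⁻¹ = y) with hΩ
  set X : Finset G := Finset.univ.filter (fun y => ∃ g ∈ K, g * S.z * g⁻¹ = y) with hXdef
  have hΩmem : ∀ y, y ∈ Ω ↔ ∃ g ∈ H, g * S.z * g⁻¹ = y := fun y => by simp [hΩ]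
  have hXmem : ∀ y, y ∈ X ↔ ∃ g ∈ K, g * S.z * g⁻¹ = y := fun y => by simp [hXdef]
  have hinfD : K ⊓ C = H ⊓ C := by
    rw [hKdef, inf_assoc, inf_eq_right.2 A.cent_le]
  have hcardH := card_orbit (S := S) H Ω hΩmem
  have hcardK := card_orbit (S := S) K X hXmem
  rw [hinfD] at hcardK
  set d := Nat.card ↥(H ⊓ C) with hd
  have hd0 : 0 < d := Nat.card_pos
  set N := Nat.card (H ⧸ K.subgroupOf H) with hNdef
  have hN : Nat.card H = N * Nat.card K := by
    rw [Subgroup.card_eq_card_quotient_mul_card_subgroup (K.subgroupOf H), ← hNdef,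
      Nat.card_congr (Subgroup.subgroupOfEquivOfLe (inf_le_left : K ≤ H)).toEquiv]
  have hΩN : Ω.card = N * X.card := by
    rw [hcardH, hcardK, ← mul_assoc] at hN
    exact Nat.eq_of_mul_eq_mul_right hd0 hN
  have hXpos : 0 < X.card := Finset.card_pos.2 ⟨S.z, (hXmem _).2 ⟨1, one_mem _, by group⟩⟩
  have hΩinv : ∀ y ∈ Ω, y ∈ H ∧ y * y = 1 := by
    intro y hy
    obtain ⟨g, hg, rfl⟩ := (hΩmem y).1 hy
    refine ⟨mul_mem (mul_mem hg hzH) (inv_mem hg), ?_⟩
    rw [show ∀ a b : G, a * b * a⁻¹ * (a * b * a⁻¹) = a * (b * b) * a⁻¹ from fun a b => by group, ← zE (S := S),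
      S.e_sq goodB' (by norm_num)]
    group
  let f : G → H ⧸ K.subgroupOf H := fun y => if hy : y ∈ H then QuotientGroup.mk ⟨y, hy⟩ else QuotientGroup.mk 1
  have hfeq : ∀ y ∈ Ω, ∀ y' ∈ Ω, f y = f y' → y * y' ∈ K := by
    intro y hy y' hy' he
    obtain ⟨hyH, hy2⟩ := hΩinv y hy
    obtain ⟨hy'H, -⟩ := hΩinv y' hy'
    simp only [f, dif_pos hyH, dif_pos hy'H, QuotientGroup.eq, Subgroup.mem_subgroupOf, Subgroup.coe_mul,
      Subgroup.coe_inv, inv_eq_of_mul_eq_one_right hy2] at he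
    exact he
  haveI : Fintype (H ⧸ K.subgroupOf H) := Fintype.ofFinite _
  have hXsub : X ⊆ Ω := fun y hy => by
    obtain ⟨g, hg, he⟩ := (hXmem y).1 hy
    exact (hΩmem y).2 ⟨g, hg.1, he⟩
  have hout : ∀ y ∈ Ω \ X, y ∉ A.M := by
    intro y hy hyM
    obtain ⟨hyΩ, hyX⟩ := Finset.mem_sdiff.1 hy
    obtain ⟨g, hg, rfl⟩ := (hΩmem y).1 hyΩ
    exact hyX ((hXmem _).2 ⟨g, hX g hg hyM, rfl⟩)
  -- a coset with many conjugates
  have hne : (Ω \ X).Nonempty := by
    refine ⟨h * S.z * h⁻¹, Finset.mem_sdiff.2 ⟨(hΩmem _).2 ⟨h, hh, rfl⟩, fun hc => ?_⟩⟩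
    obtain ⟨g, hg, he⟩ := (hXmem _).1 hc
    exact hhM (A.conj_mem_of_eq hg.2 he.symm)
  obtain ⟨c, -, hcj⟩ := Finset.exists_lt_card_fiber_of_mul_lt_card_of_maps_to
    (s := Ω \ X) (t := Finset.univ.erase (QuotientGroup.mk 1)) (f := f) (n := X.card - 1) (fun y hy => by
      refine Finset.mem_erase.2 ⟨fun he => hout y hy ?_, Finset.mem_univ _⟩
      obtain ⟨hyH, -⟩ := hΩinv y (Finset.mem_sdiff.1 hy).1
      simp only [f, dif_pos hyH, QuotientGroup.eq, Subgroup.mem_subgroupOf, mul_one, Subgroup.coe_inv] at he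
      exact (inv_mem_iff.1 he).2) (by
      rw [Finset.card_sdiff_of_subset hXsub, Finset.card_erase_of_mem (Finset.mem_univ _), Finset.card_univ,
        ← Nat.card_eq_fintype_card, ← hNdef, hΩN]
      have hN2 : 2 ≤ N := by
        by_contra hlt
        have hcpos := Finset.card_pos.2 hne
        rw [Finset.card_sdiff_of_subset hXsub, hΩN] at hcpos
        interval_cases N <;> simp at hcpos
      obtain ⟨M, hM⟩ : ∃ M, N = M + 1 := ⟨N - 1, by omega⟩
      obtain ⟨j, hj⟩ : ∃ j, X.card = j + 1 := ⟨X.card - 1, by omega⟩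
      rw [hM, hj, Nat.add_sub_cancel, Nat.add_sub_cancel, show (M + 1) * (j + 1) = M * (j + 1) + (j + 1) by ring,
        Nat.add_sub_cancel, Nat.mul_succ]
      omega)
  set F := (Ω \ X).filter (fun y => f y = c) with hFdef
  have hFj : X.card ≤ F.card := by omega
  obtain ⟨y0, hy0⟩ : F.Nonempty := Finset.card_pos.1 (by omega)
  obtain ⟨hy0d, hy0c⟩ := Finset.mem_filter.1 hy0
  obtain ⟨hy0H, hy02⟩ := hΩinv y0 (Finset.mem_sdiff.1 hy0d).1
  have hy0M := hout y0 hy0d
  have hVK : VV A ≤ K := fun v hv => ⟨by obtain ⟨q, hq, rfl⟩ := hv; exact e_mem_HV (span_lt hq), VV_le_M A hv⟩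
  have hVcomm : ∀ g ∈ H, ∀ v ∈ VV A, g * v = v * g := by
    rintro g hg _ ⟨q, hq, rfl⟩
    exact mem_HV.1 hg q hq
  let L : Subgroup G := K ⊓ K.comap (MulAut.conj y0).toMonoidHom
  have hLmem : ∀ {g : G}, g ∈ L ↔ g ∈ K ∧ y0 * g * y0⁻¹ ∈ K := Iff.rfl
  have hy0i : y0⁻¹ = y0 := inv_eq_of_mul_eq_one_right hy02
  have hVL : VV A ≤ L := fun v hv => hLmem.2 ⟨hVK hv, by rw [hVcomm y0 hy0H v hv, mul_inv_cancel_right]; exact hVK hv⟩
  have hFL : ∀ y ∈ F, y0 * y ∈ L ∧ y0 * (y0 * y) * y0⁻¹ = (y0 * y)⁻¹ := by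
    intro y hy
    obtain ⟨hyd, hyc⟩ := Finset.mem_filter.1 hy
    have hk := hfeq y0 (Finset.mem_sdiff.1 hy0d).1 y (Finset.mem_sdiff.1 hyd).1 (hy0c.trans hyc.symm)
    obtain ⟨-, hy2⟩ := hΩinv y (Finset.mem_sdiff.1 hyd).1
    have he : y0 * (y0 * y) * y0⁻¹ = (y0 * y)⁻¹ := by
      rw [← mul_assoc, hy02, one_mul, mul_inv_rev, inv_eq_of_mul_eq_one_right hy2]
    exact ⟨hLmem.2 ⟨hk, he ▸ inv_mem hk⟩, he⟩
  haveI hnormal : ((VV A).subgroupOf L).Normal := ⟨fun v hv g => by
    rw [Subgroup.mem_subgroupOf] at hv ⊢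
    simp only [Subgroup.coe_mul, Subgroup.coe_inv]
    rw [hVcomm _ g.2.1.1 _ hv, mul_inv_cancel_right]
    exact hv⟩
  let Q := L ⧸ (VV A).subgroupOf L
  have hmk : ∀ a b : L, (QuotientGroup.mk a : Q) = QuotientGroup.mk b ↔ (a : G)⁻¹ * b ∈ VV A := fun a b => by
    rw [QuotientGroup.eq, Subgroup.mem_subgroupOf, Subgroup.coe_mul, Subgroup.coe_inv]
  have hodd : ¬ 2 ∣ Nat.card Q := by
    intro hdvd
    obtain ⟨q, hq⟩ := exists_prime_orderOf_dvd_card' 2 hdvd
    obtain ⟨s, rfl⟩ := QuotientGroup.mk_surjective q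
    have hsV : (s : G) ∉ VV A := fun hmem => by
      have : (QuotientGroup.mk s : Q) = 1 := (QuotientGroup.eq_one_iff s).2 hmem
      rw [this, orderOf_one] at hq
      omega
    have hssV : (s : G) * s ∈ VV A := by
      have h1 := pow_orderOf_eq_one (QuotientGroup.mk s : Q)
      rw [hq, pow_two, ← QuotientGroup.mk_mul, QuotientGroup.eq_one_iff] at h1
      exact h1
    obtain ⟨⟨hsH, hsM⟩, hsy⟩ := hLmem.1 s.2
    obtain ⟨q, hqV, hqf⟩ := star A hs hsM hsH hssV hsV
    have ht : (s : G) * E q ∈ L := mul_mem s.2 (hVL ⟨q, hqV, rfl⟩)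
    obtain ⟨m, hm, hme⟩ := hF _ (hLmem.1 ht).1.2 hqf
    obtain ⟨m', hm', hme'⟩ := hF _ (hLmem.1 ht).2.2 (hqf.trans (isConj_iff.2 ⟨y0, rfl⟩))
    have h1 : y0 * m ∈ A.M := A.conj_mem_of_eq hm' (by rw [hme', ← hme]; group)
    exact hy0M (by simpa using mul_mem h1 (inv_mem hm))
  -- elements of the centraliser in the odd part are trivial
  have hDtriv : ∀ a : L, (a : G) ∈ C → (a : G) ∈ VV A := by
    intro a ha
    obtain ⟨x, hx, hxe⟩ := S.surj ha
    have hbit : tMask.testBit x = true := by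
      have := of_all_allC inT_checked hx
      simp only [Bool.or_eq_true, Bool.not_eq_true', List.all_eq_false] at this
      refine this.resolve_left ?_
      rintro ⟨v, hv, hne⟩
      refine hne (beq_iff.2 ((S.comm_iff hx (valid_e (span_lt (vB_sub hv)))).1 ?_))
      show S.ι x * E v = E v * S.ι x
      rw [hxe]
      exact mem_HV.1 a.2.1.1 v (vB_sub hv)
    obtain ⟨n, hn, hne⟩ := List.mem_map.1 (mem_tMask.1 hbit)
    have haT : (a : G) ∈ S.tSub := S.mem_tSub.2 ⟨n, hn, by rw [hne, hxe]⟩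
    obtain ⟨e, he⟩ := S.isPGroup_tSub ⟨a, haT⟩
    have hpow : (a : G) ^ 2 ^ e = 1 := congrArg Subtype.val he
    have hdiv : orderOf (QuotientGroup.mk a : Q) ∣ 2 ^ e := orderOf_dvd_of_pow_eq_one (by
      rw [← QuotientGroup.mk_pow, show a ^ 2 ^ e = 1 from Subtype.ext (by simpa using hpow), QuotientGroup.mk_one])
    have hone : orderOf (QuotientGroup.mk a : Q) = 1 :=
      Nat.eq_one_of_dvd_coprimes (Nat.Coprime.pow_left e ((Nat.prime_two.coprime_iff_not_dvd).2 hodd)) hdiv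
        (orderOf_dvd_natCard _)
    exact (QuotientGroup.eq_one_iff a).1 (orderOf_eq_one_iff.1 hone)
  -- the map to the conjugates in the subgroup
  have hφeq : ∀ a b : L, (QuotientGroup.mk a : Q) = QuotientGroup.mk b ↔
      (a : G) * S.z * (a : G)⁻¹ = (b : G) * S.z * (b : G)⁻¹ := by
    intro a b
    rw [hmk]
    constructor
    · rintro ⟨q, hq, he⟩
      have hb : (b : G) = a * E q := by rw [he]; group
      rw [hb, mul_inv_rev, show (a : G) * E q * S.z * ((E q)⁻¹ * (a : G)⁻¹) = a * (E q * S.z * (E q)⁻¹) * (a : G)⁻¹ by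
        group, ← zE (S := S), S.eSub_comm goodB' (S.e_mem goodB' (span_lt hq)) (S.e_mem goodB' (a := 16) (by norm_num)),
        mul_inv_cancel_right]
    · intro he
      refine hDtriv (a⁻¹ * b) (Subgroup.mem_centralizer_singleton_iff.2 ?_)
      simp only [Subgroup.coe_mul, Subgroup.coe_inv]
      calc (a : G)⁻¹ * b * S.z = (a : G)⁻¹ * (b * S.z * (b : G)⁻¹) * b := by group
        _ = S.z * ((a : G)⁻¹ * b) := by rw [← he]; group
  let φ : Q → X := Quotient.lift (fun a : L => ⟨_, (hXmem _).2 ⟨a, a.2.1, rfl⟩⟩)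
    fun a b hab => Subtype.ext ((hφeq a b).1 (Quotient.sound hab))
  have hφinj : Function.Injective φ := by
    intro p q
    induction p using QuotientGroup.induction_on with
    | H a =>
      induction q using QuotientGroup.induction_on with
      | H b => exact fun h => (hφeq a b).2 (congrArg Subtype.val h)
  let ψ : F → Q := fun y => QuotientGroup.mk ⟨y0 * (y : G), (hFL _ y.2).1⟩
  have hψinj : Function.Injective ψ := by
    rintro ⟨y, hy⟩ ⟨y', hy'⟩ he
    obtain ⟨q, hq, hqe⟩ := (hmk _ _).1 he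
    change E q = (y0 * y)⁻¹ * (y0 * y') at hqe
    obtain ⟨hyd, -⟩ := Finset.mem_filter.1 hy
    obtain ⟨hy'd, -⟩ := Finset.mem_filter.1 hy'
    obtain ⟨g, hg, hge⟩ := (hΩmem _).1 (Finset.mem_sdiff.1 hyd).1
    obtain ⟨g', hg', hge'⟩ := (hΩmem _).1 (Finset.mem_sdiff.1 hy'd).1
    obtain ⟨-, hy2⟩ := hΩinv y (Finset.mem_sdiff.1 hyd).1
    have hy'e : y' = y * E q := by rw [hqe]; group
    refine Subtype.ext ?_
    by_cases hq0 : q = 0
    · show y = y'
      rw [hy'e, hq0, S.e_zero goodB', mul_one]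
    exfalso
    have hqB : q ∈ vB := by
      have h := vSpan_checked
      simp only [Bool.and_eq_true, List.all_eq_true, List.any_eq_true, Bool.or_eq_true, beq_iff] at h
      obtain ⟨r, hr, he'⟩ := (h.1.1.2 q hq).resolve_left hq0
      exact he' ▸ hr
    have hhH : g⁻¹ * g' ∈ H := mul_mem (inv_mem hg) hg'
    have heq : g⁻¹ * g' * S.z * (g⁻¹ * g')⁻¹ = S.z * E q := by
      calc g⁻¹ * g' * S.z * (g⁻¹ * g')⁻¹ = g⁻¹ * (g' * S.z * g'⁻¹) * g := by group
        _ = g⁻¹ * (g * S.z * g⁻¹ * E q) * g := by rw [hge', hy'e, hge]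
        _ = S.z * g⁻¹ * (E q * g) := by group
        _ = S.z * E q := by rw [← mem_HV.1 hg q hq]; group
    have hk := hX _ hhH (by
      rw [heq]; exact mul_mem (A.cent_le (Subgroup.mem_centralizer_singleton_iff.2 rfl)) (VV_le_M A ⟨q, hq, rfl⟩))
    exact not_translate A hs hk.1 hk.2 hqB heq
  haveI : Fintype Q := Fintype.ofFinite Q
  have hle1 : Fintype.card Q ≤ X.card := by simpa using Fintype.card_le_of_injective φ hφinj
  have hle2 : F.card ≤ Fintype.card Q := by simpa using Fintype.card_le_of_injective ψ hψinj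
  have hψsurj : Function.Surjective ψ :=
    ((Fintype.bijective_iff_injective_and_card ψ).2 ⟨hψinj, by rw [Fintype.card_coe]; omega⟩).2
  have hφsurj : Function.Surjective φ :=
    ((Fintype.bijective_iff_injective_and_card φ).2 ⟨hφinj, by rw [Fintype.card_coe]; omega⟩).2
  -- the odd part is abelian
  have hinv : ∀ a : L, ∃ v ∈ VV A, y0 * (a : G) * y0⁻¹ = (a : G)⁻¹ * v := by
    intro a
    obtain ⟨⟨y, hy⟩, he⟩ := hψsurj (QuotientGroup.mk a)
    obtain ⟨v, hv, hve⟩ := (hmk _ _).1 he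
    change E v = (y0 * y)⁻¹ * (a : G) at hve
    have ha' : (a : G) = y0 * y * E v := by rw [hve]; group
    refine ⟨E v * E v, mul_mem ⟨v, hv, rfl⟩ ⟨v, hv, rfl⟩, ?_⟩
    have hcy : ∀ g ∈ H, g * E v = E v * g := fun g hg => mem_HV.1 hg v hv
    rw [ha']
    calc y0 * (y0 * y * E v) * y0⁻¹ = y0 * (y0 * y) * y0⁻¹ * (y0 * E v * y0⁻¹) := by group
      _ = (y0 * y)⁻¹ * E v := by rw [(hFL y hy).2, hcy y0 hy0H, mul_inv_cancel_right]
      _ = (y0 * y * E v)⁻¹ * (E v * E v) := by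
        rw [mul_inv_rev (y0 * y), show (E v)⁻¹ * (y0 * y)⁻¹ * (E v * E v) = (E v)⁻¹ * ((y0 * y)⁻¹ * E v) * E v by group,
          hcy _ (inv_mem (hLmem.1 (hFL y hy).1).1.1)]
        rw [show (E v)⁻¹ * (E v * (y0 * y)⁻¹) * E v = (y0 * y)⁻¹ * E v by group,
          hcy _ (inv_mem (hLmem.1 (hFL y hy).1).1.1)]
  have hcommQ : ∀ a b : L, ((a : G) * b)⁻¹ * (b * a) ∈ VV A := by
    intro a b
    obtain ⟨u, hu, hue⟩ := hinv a
    obtain ⟨v, hv, hve⟩ := hinv b
    obtain ⟨w, hw, hwe⟩ := hinv (a * b)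
    have h1 : y0 * ((a : G) * b) * y0⁻¹ = ((a : G)⁻¹ * u) * ((b : G)⁻¹ * v) := by rw [← hue, ← hve]; group
    rw [Subgroup.coe_mul] at hwe
    have h2 : ((a : G) * b)⁻¹ * w = (a : G)⁻¹ * (b : G)⁻¹ * (u * v) := by
      rw [← hwe, h1, show (a : G)⁻¹ * u * ((b : G)⁻¹ * v) = (a : G)⁻¹ * (u * (b : G)⁻¹) * v by group,
        ← hVcomm _ (inv_mem b.2.1.1) _ hu]
      group
    have h3 : ((a : G) * b)⁻¹ * (b * a) = u * v * w⁻¹ := by
      calc ((a : G) * b)⁻¹ * (b * a) = (((a : G) * b)⁻¹ * w) * w⁻¹ * (b * a) := by group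
        _ = (a : G)⁻¹ * (b : G)⁻¹ * ((u * v * w⁻¹) * (b * a)) := by rw [h2]; group
        _ = (a : G)⁻¹ * (b : G)⁻¹ * ((b * a) * (u * v * w⁻¹)) := by
          rw [hVcomm _ (mul_mem b.2.1.1 a.2.1.1) _ (mul_mem (mul_mem hu hv) (inv_mem hw))]
        _ = u * v * w⁻¹ := by group
    rw [h3]
    exact mul_mem (mul_mem hu hv) (inv_mem hw)
  -- the targets
  have htarget : ∀ W : Mover, W.ok sideB lettersHeB vB = true → W.pre = vB →
      ∃ a : L, ∃ Q : List ℕ, IsMat Q ∧ S.Acts sideB a Q ∧ (a : G) * S.z * (a : G)⁻¹ = E W.v := by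
    intro W hW hpre
    obtain ⟨hv64, m, hm, hmz, hmpre⟩ := mover_spec A hs hW
    have hmH : m ∈ H := by
      refine mem_HV.2 fun q hq => ?_
      have h3 : ∀ j < vB.length, m * E (vB.getD j 0) = E (vB.getD j 0) * m := fun j hj => by
        have := (hmpre j hj).2
        rw [hpre] at this
        exact mul_inv_eq_iff_eq_mul.1 this
      fin_cases hq
      · rw [S.e_zero goodB', mul_one, one_mul]
      · exact h3 0 (by decide)
      · exact h3 1 (by decide)
      · exact h3 2 (by decide)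
    obtain ⟨p, hp⟩ := hφsurj ⟨E W.v, (hXmem _).2 ⟨m, ⟨hmH, hm⟩, hmz⟩⟩
    obtain ⟨a, rfl⟩ := QuotientGroup.mk_surjective p
    have ha : (a : G) * S.z * (a : G)⁻¹ = E W.v := congrArg Subtype.val hp
    have haE : (S.eSub sideB.dec).map (MulAut.conj (a : G)⁻¹).toMonoidHom ≤ S.tSub := by
      rintro _ ⟨t, ht, rfl⟩
      simp only [MulEquiv.coe_toMonoidHom, MulAut.conj_apply, inv_inv]
      obtain ⟨u, hu, rfl⟩ := (S.mem_eSub goodB').1 ht
      have hC' : (a : G)⁻¹ * E u * a ∈ C := by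
        refine Subgroup.mem_centralizer_singleton_iff.2 ?_
        calc (a : G)⁻¹ * E u * a * S.z = (a : G)⁻¹ * (E u * (a * S.z * (a : G)⁻¹)) * a := by group
          _ = (a : G)⁻¹ * ((a * S.z * (a : G)⁻¹) * E u) * a := by
            rw [ha, S.eSub_comm goodB' (S.e_mem goodB' hu) (S.e_mem goodB' hv64)]
          _ = S.z * ((a : G)⁻¹ * E u * a) := by group
      have haH := a.2.1.1
      have hH' : (a : G)⁻¹ * E u * a ∈ H := mul_mem (mul_mem (inv_mem haH) (e_mem_HV hu)) haH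
      obtain ⟨x, hx, hxe⟩ := S.surj hC'
      have := of_all_allC inT_checked hx
      simp only [Bool.or_eq_true, Bool.not_eq_true', List.all_eq_false] at this
      have hbit : tMask.testBit x = true := this.resolve_left (by
        rintro ⟨v, hv, hne⟩
        refine hne (beq_iff.2 ((S.comm_iff hx (valid_e (span_lt (vB_sub hv)))).1 ?_))
        show S.ι x * E v = E v * S.ι x
        rw [hxe]
        exact mem_HV.1 hH' v (vB_sub hv))
      obtain ⟨n, hn, hne⟩ := List.mem_map.1 (mem_tMask.1 hbit)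
      exact S.mem_tSub.2 ⟨n, hn, by rw [hne, hxe]⟩
    have heq := S.weakly_closed goodB' (a : G)⁻¹ haE
    have han : (a : G) ∈ S.nSub sideB := by
      have hinv : (a : G)⁻¹ ∈ S.nSub sideB := S.mem_normalizer_of_basis goodB' fun b hb => by
        rw [← heq]
        exact ⟨E b, S.e_mem goodB' (by fin_cases hb <;> norm_num), rfl⟩
      simpa using inv_mem hinv
    obtain ⟨Q', hQ', hact⟩ := S.exists_acts caseHe_ok.sideB han
    exact ⟨a, Q', hQ', hact, ha⟩
  have hmv := movers_checked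
  simp only [Bool.and_eq_true] at hmv
  obtain ⟨a, Qa, hQa, hacta, hza⟩ := htarget targetA hmv.1.2 rfl
  obtain ⟨b, Qb, hQb, hactb, hzb⟩ := htarget targetB hmv.2 rfl
  have hmaps := maps_checked
  simp only [Bool.and_eq_true] at hmaps
  obtain ⟨⟨⟨-, hsa⟩, hsb⟩, hne⟩ := hmaps
  have ha := mem_maps hs hQa hacta a.2.1.1 (show (2 : ℕ) < 64 by norm_num) hza hsa
  have hb := mem_maps hs hQb hactb b.2.1.1 (show (4 : ℕ) < 64 by norm_num) hzb hsb
  obtain ⟨q, hq, hqe⟩ := hcommQ a b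
  have hba : (b : G) * a = a * b * E q := by rw [hqe]; group
  have hcomp : compA Qa Qb = compA Qb Qa := by
    have h1 := S.acts_mul caseHe_ok.sideB hQa hactb hacta
    have h2 := S.acts_mul caseHe_ok.sideB isMat_idA (S.acts_mul caseHe_ok.sideB hQb hacta hactb)
      (S.acts_e caseHe_ok.sideB (span_lt hq))
    rw [← hba] at h2
    refine eq_of_apA (isMat_compA hQa hQb) (isMat_compA hQb hQa) fun v hv => ?_
    refine S.e_inj goodB' (apA_lt (isMat_compA hQa hQb) v) (apA_lt (isMat_compA hQb hQa) v) ?_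
    rw [← h1 v hv, h2 v hv, apA_compA (compA Qa Qb), apA_idA v hv]
  have := List.all_eq_true.1 (List.all_eq_true.1 hne Qa ha) Qb hb
  rw [hcomp] at this
  simp at this

include hs hF in
theorem claim_vB : A.Claim (vB.map (decE sideB.dec)) := by
  intro u huz hu
  have huH : u ∈ HV (S := S) := by
    refine mem_HV.2 fun q hq => ?_
    fin_cases hq
    · rw [S.e_zero goodB', mul_one, one_mul]
    all_goals exact hu _ (List.mem_map.2 ⟨_, by decide, rfl⟩)
  exact le_M A hs hF huH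

end HeFour

namespace Setup

variable {G : Type*} [Group G] [Finite G] (S : Setup G)

/-- The fused classes of the Held group force the Held group. -/
theorem iso_He (hs : ∀ k < 8, sHe k = true ↔ S.InS k) : Nonempty (G ≃* Cfsg.Spor.He) :=
  S.iso_He_of_claim hs fun A hF => HeFour.claim_vB A hs hF

end Setup

end Cfsg.Lib.HeldType
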