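import Cfsg.Agent.Lib.HeldType.DescentData

/-!
# The last four-group of the Held case: data and checks
-/

set_option autoImplicit false
set_option maxRecDepth 100000

namespace Cfsg.Lib.HeldType

/-- Two codes commute. -/
def commB (x y : ℕ) : Bool := Nat.beq (mulC x y) (mulC y x)

/-- An element whose square lies in the four-group of `a`, `b` lies in it or is an involution with a fused
translate. -/
def starOne (fm a b x : ℕ) : Bool :=
  let P := [oneC, a, b, mulC a b]
  !P.any (Nat.beq (mulC x x)) || P.any (Nat.beq x) ||
    Nat.beq (mulC x x) oneC && P.any fun q => Nat.testBit fm (mulC x q)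

/-- The same for every four-group free of fused involutions through `a`. -/
def starOK (fm a : ℕ) (bs : List ℕ) : Bool :=
  valid a && bs.all valid &&
    (invList.all fun n => !commB (entX n) a || Nat.testBit fm (entX n) || Nat.beq (entX n) a ||
      Nat.testBit fm (mulC a (entX n)) || bs.any (Nat.beq (entX n))) &&
    allC.all fun x => !commB x a || bs.all fun b => !commB x b || starOne fm a b x

/-- Commuting partners of the representative of the fifth class. -/
def partnersFour : List ℕ := [43202, 35011]

/-- Commuting partners of the representative of the seventh class. -/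
def partnersSix : List ℕ := [43201, 43139, 34968, 35000, 34969, 35001, 35034, 35066, 35035, 35067, 34972, 35068, 34973,
  35069, 35038, 35006, 35039, 35007]

theorem starFour_checked : starOK maskHe (reps.getD 4 0) partnersFour = true := by decide +kernel

theorem starSix_checked : starOK maskHe (reps.getD 6 0) partnersSix = true := by decide +kernel

/-- Codes commuting with the four-group lie in the Sylow subgroup. -/
theorem inT_checked : (allC.all fun x =>
    !(vB.all fun v => commB x (decE sideB.dec v)) || Nat.testBit tMask x) = true := by decide +kernel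

/-- Words carrying `z` to its fused translates. -/
def translates : List Mover :=
  [⟨34, [5, 0, 7, 3, 7], [31, 58, 37]⟩, ⟨3, [2, 5, 0, 7, 3, 7], [31, 37, 58]⟩]

/-- Words carrying `z` to two vectors and fixing the four-group. -/
def targetA : Mover := ⟨2, [7, 2, 0, 7, 2, 7], [33, 50, 19]⟩

/-- The second one. -/
def targetB : Mover := ⟨4, [2, 7, 2, 7], [33, 50, 19]⟩

theorem movers_checked : (vB.all (fun v => !inO sideB.cls sHe (Nat.xor 16 v) || translates.any fun W =>
    W.ok sideB lettersHeB vB && Nat.beq W.v (Nat.xor 16 v) && noConj sideB vB W.pre) &&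
    targetA.ok sideB lettersHeB vB && targetB.ok sideB lettersHeB vB) = true := by decide +kernel

/-- The vectors spanned by `z` and the four-group. -/
def srcV : List ℕ := [0, 16, 33, 49, 50, 34, 19, 3]

/-- Their images when `z` goes to `e`. -/
def imgV (e : ℕ) : List ℕ :=
  [0, e, 33, Nat.xor 33 e, 50, Nat.xor 50 e, Nat.xor 50 33, Nat.xor 50 (Nat.xor 33 e)]

/-- Fused vectors completing them to a basis. -/
def bsV : List ℕ := [1, 4, 8]

/-- Where the standard basis sits. -/
def idxV : List ℕ := [8, 15, 16, 32, 1, 10]

/-- The maps fixing the four-group and sending `z` to the first target. -/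
def mapsA : List (List ℕ) :=
  [[34, 51, 25, 46, 2, 3], [34, 51, 27, 45, 2, 3], [34, 51, 57, 30, 2, 3], [34, 51, 59, 29, 2, 3]]

/-- The maps fixing the four-group and sending `z` to the second target. -/
def mapsB : List (List ℕ) :=
  [[41, 62, 16, 32, 4, 8], [41, 62, 20, 40, 4, 8], [41, 62, 57, 30, 4, 8], [41, 62, 61, 22, 4, 8]]

theorem maps_checked : ((idxV.map fun i => (bsV.foldl (fun l b => l ++ l.map (Nat.xor b)) srcV).getD i 0) == idA &&
    bsV.all (fun b => Nat.blt b 64 && inO sideB.cls sHe b) && srcV.all (fun b => Nat.blt b 64) &&
    searchOK sideB.cls sHe (sideB.cand sHe) idxV mapsA bsV srcV (imgV 2) &&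
    searchOK sideB.cls sHe (sideB.cand sHe) idxV mapsB bsV srcV (imgV 4) &&
    mapsA.all fun p => mapsB.all fun q => compA p q != compA q p) = true := by decide +kernel

theorem classes_He : ∀ k < 8, sHe k = false → k = 4 ∨ k = 6 := by decide +kernel

end Cfsg.Lib.HeldType
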