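import Cfsg.Agent.Lib.HeldType.LetterData
import Cfsg.Agent.Lib.HeldType.CCore

/-!
# The subgroup generated by the two normalisers satisfies the relators of an amalgam
-/

set_option autoImplicit false
set_option maxRecDepth 100000
set_option linter.style.haveILetI false
set_option linter.unusedSectionVars false

namespace Cfsg.Lib.HeldType

open Amalgam (wv codes zWord)

attribute [local irreducible] tList invList tMask invMask decA decB allC

/-- The choices of one case. -/
structure Case where
  /-- the fused classes -/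
  s : ℕ → Bool
  /-- the gluing on the first side -/
  ja : ℕ
  /-- the gluing on the second side -/
  jb : ℕ
  /-- the letters of the first side -/
  LA : Letters
  /-- the letters of the second side -/
  LB : Letters
  /-- the witnesses against other gluings on the first side -/
  exA : List Excl
  /-- the witnesses against other gluings on the second side -/
  exB : List Excl
  /-- the common element -/
  W : Shared
  /-- the relators -/
  rels : List (List ℕ)
  /-- the possible joining relators -/
  shared : List (List ℕ)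

/-- The checks of one case. -/
structure Case.OK (c : Case) : Prop where
  sideA : SideOK sideA c.s
  sideB : SideOK sideB c.s
  letA : c.LA.check HeldType.sideA c.s (HeldType.sideA.glue.getD c.ja []) = true
  letB : c.LB.check HeldType.sideB c.s (HeldType.sideB.glue.getD c.jb []) = true
  extra : c.LA.extra = 6 ∧ c.LB.extra = 7
  exA : ([0, 1, 2, 3].filter fun j => !Nat.beq j c.ja).all
    (fun j => (c.exA.getD j default).ok HeldType.sideA c.s (HeldType.sideA.glue.getD j [])) = true
  exB : ([0, 1, 2, 3].filter fun j => !Nat.beq j c.jb).all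
    (fun j => (c.exB.getD j default).ok HeldType.sideB c.s (HeldType.sideB.glue.getD j [])) = true
  shared : c.W.ok HeldType.sideA HeldType.sideB c.s (HeldType.sideA.glue.getD c.ja [])
    (HeldType.sideB.glue.getD c.jb []) c.LA c.LB = true
  rels : relatorsOK c.LA c.LB c.rels = true
  joins : c.shared = c.W.bs.map fun w => c.W.a ++ w

/-- The generated subgroup with the data of the two normalisers. -/
structure Amal {G : Type*} [Group G] (S : Setup G) (c : Case) where
  /-- the letters -/
  g : ℕ → G
  /-- the first section -/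
  PA : Split S sideA c.s (sideA.glue.getD c.ja [])
  /-- the second section -/
  PB : Split S sideB c.s (sideB.glue.getD c.jb [])
  cent : ∀ i < 6, g i = S.ι (codes.getD i 0)
  six : g 6 = S.pval sideA PA.y (c.LA.val.getD 6 pone)
  seven : g 7 = S.pval sideB PB.y (c.LB.val.getD 7 pone)
  /-- the joining relator which holds -/
  join : ℕ
  join_lt : join < c.shared.length
  holds : ∀ r ∈ c.rels ++ [c.shared.getD join []], wv g r = 1

theorem glue_lengths : sideA.glue.length = 4 ∧ sideB.glue.length = 4 := by decide +kernel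

namespace Setup

variable {G : Type*} [Group G] [Finite G] (S : Setup G)

theorem split_of_excl {D : Side} {s : ℕ → Bool} (K : SideOK D s) (hs : ∀ k < 8, s k = true ↔ S.InS k) {j : ℕ}
    {ex : List Excl} (hlen : D.glue.length = 4) (hex : ([0, 1, 2, 3].filter fun i => !Nat.beq i j).all
      (fun i => (ex.getD i default).ok D s (D.glue.getD i [])) = true) :
    Nonempty (Split S D s (D.glue.getD j [])) := by
  obtain ⟨gl, hgl, ⟨P⟩⟩ := S.exists_split K hs
  obtain ⟨i, hi, rfl⟩ := List.getElem_of_mem hgl
  have hgd : D.glue.getD i [] = D.glue[i] := by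
    rw [List.getD_eq_getElem?_getD, List.getElem?_eq_getElem hi, Option.getD_some]
  by_cases hij : i = j
  · subst hij
    exact hgd ▸ ⟨P⟩
  · exfalso
    have hmem : i ∈ [0, 1, 2, 3].filter fun i => !Nat.beq i j := by
      refine List.mem_filter.2 ⟨?_, ?_⟩
      · rw [hlen] at hi
        interval_cases i <;> simp
      · rw [Bool.not_eq_true', Bool.eq_false_iff]
        exact fun h => hij (beq_iff.1 h)
    exact (S.excluded K hs (List.all_eq_true.1 hex i hmem)).false (hgd ▸ P)

theorem exists_amal {c : Case} (K : c.OK) (hs : ∀ k < 8, c.s k = true ↔ S.InS k) : Nonempty (Amal S c) := by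
  obtain ⟨PA⟩ := S.split_of_excl K.sideA hs glue_lengths.1 K.exA
  obtain ⟨PB⟩ := S.split_of_excl K.sideB hs glue_lengths.2 K.exB
  let g : ℕ → G := fun i => if i < 6 then S.ι (codes.getD i 0) else
    if i = 6 then S.pval sideA PA.y (c.LA.val.getD 6 pone) else S.pval sideB PB.y (c.LB.val.getD 7 pone)
  have hg : ∀ i < 6, g i = S.ι (codes.getD i 0) := fun i hi => if_pos hi
  have h6 : g 6 = S.pval sideA PA.y (c.LA.val.getD 6 pone) := (if_neg (by norm_num)).trans (if_pos rfl)
  have h7 : g 7 = S.pval sideB PB.y (c.LB.val.getD 7 pone) := (if_neg (by norm_num)).trans (if_neg (by norm_num))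
  have hxA : g c.LA.extra = S.pval sideA PA.y (c.LA.val.getD c.LA.extra pone) := by rw [K.extra.1]; exact h6
  have hxB : g c.LB.extra = S.pval sideB PB.y (c.LB.val.getD c.LB.extra pone) := by rw [K.extra.2]; exact h7
  obtain ⟨w, hw, hjoin⟩ := S.exists_shared K.sideA K.sideB hs PA PB K.letA K.letB g hg hxA hxB K.shared
  obtain ⟨j, hj, rfl⟩ := List.getElem_of_mem hw
  refine ⟨⟨g, PA, PB, hg, h6, h7, j, by rw [K.joins, List.length_map]; exact hj, fun r hr => ?_⟩⟩
  rcases List.mem_append.1 hr with hr | hr
  · exact S.relators_hold K.sideA K.sideB hs PA PB K.letA K.letB g hg hxA hxB K.rels r hr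
  · rw [List.mem_singleton.1 hr, K.joins, List.getD_eq_getElem?_getD, List.getElem?_map, List.getElem?_eq_getElem hj]
    exact hjoin

end Setup

namespace Amal

variable {G : Type*} [Group G] [Finite G] {S : Setup G} {c : Case} (A : Amal S c)

/-- The generated subgroup. -/
def M : Subgroup G := Subgroup.closure (A.g '' Set.Iio 8)

theorem g_mem {i : ℕ} (hi : i < 8) : A.g i ∈ A.M := Subgroup.subset_closure ⟨i, hi, rfl⟩

theorem cent_le : Subgroup.centralizer ({S.z} : Set G) ≤ A.M :=
  S.cent_le fun i hi => A.cent i hi ▸ A.g_mem (by omega)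

theorem wv_map {H : Type*} [Group H] (φ : H →* G) (g : ℕ → H) (w : List ℕ) :
    φ (wv g w) = wv (fun i => φ (g i)) w := by
  simp [wv, map_list_prod, List.map_map, Function.comp_def]

/-- The letters inside the generated subgroup. -/
def gM (i : ℕ) : A.M := if h : i < 8 then ⟨A.g i, A.g_mem h⟩ else 1

theorem coe_wv_gM {w : List ℕ} (hw : ∀ l ∈ w, l < 8) : ((wv A.gM w : A.M) : G) = wv A.g w := by
  rw [show ((wv A.gM w : A.M) : G) = A.M.subtype (wv A.gM w) from rfl, wv_map]
  simp only [wv]
  congr 1
  refine List.map_congr_left fun l hl => ?_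
  simp [gM, hw l hl]

theorem closure_gM : Subgroup.closure (A.gM '' Set.Iio 8) = ⊤ := by
  refine Subgroup.map_injective A.M.subtype_injective ?_
  rw [MonoidHom.map_closure, ← MonoidHom.range_eq_map, Subgroup.range_subtype, ← Set.image_comp]
  show Subgroup.closure _ = Subgroup.closure _
  congr 1
  refine Set.image_congr fun i hi => ?_
  simp only [Function.comp, Subgroup.coe_subtype, gM, dif_pos (show i < 8 from hi)]

theorem zWord_checked : (zWord.all (fun l => Nat.blt l 6) && Nat.beq (cEval zWord) zC) = true := by decide +kernel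

theorem wv_zWord : wv A.g zWord = S.z := by
  obtain ⟨h1, h2⟩ := Bool.and_eq_true_iff.1 zWord_checked
  rw [(S.wv_cEval A.g A.cent zWord fun l hl => Nat.le_of_ble_eq_true (List.all_eq_true.1 h1 l hl)).2,
    beq_iff.1 h2, S.map_z]

theorem z_mem_normal (N : Subgroup A.M) [hN : N.Normal] (k : A.M) (hk : k ∈ N)
    (hc : k * wv A.gM zWord = wv A.gM zWord * k) (h1 : k ≠ 1) : wv A.gM zWord ∈ N := by
  have hz : ((wv A.gM zWord : A.M) : G) = S.z := by
    rw [A.coe_wv_gM, A.wv_zWord]
    exact fun l hl => by
      have := List.all_eq_true.1 (Bool.and_eq_true_iff.1 zWord_checked).1 l hl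
      exact lt_of_lt_of_le (Nat.le_of_ble_eq_true this) (by norm_num)
  have hkC : (k : G) ∈ Subgroup.centralizer ({S.z} : Set G) := by
    refine Subgroup.mem_centralizer_singleton_iff.2 ?_
    have := congrArg Subtype.val hc
    rwa [Subgroup.coe_mul, Subgroup.coe_mul, hz] at this
  have hz' : S.z ∈ N.map A.M.subtype := by
    refine S.z_mem_of_normal _ (fun d hd x hx _ => ?_) ⟨k, hk, rfl⟩ hkC fun e => h1 (Subtype.ext e)
    obtain ⟨x', hx', rfl⟩ := hx
    exact ⟨⟨d, A.cent_le hd⟩ * x' * ⟨d, A.cent_le hd⟩⁻¹, hN.conj_mem _ hx' _, rfl⟩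
  obtain ⟨w, hw, hwe⟩ := hz'
  have : w = wv A.gM zWord := Subtype.ext (hwe.trans hz.symm)
  exact this ▸ hw

theorem acts_pval {D : Side} {gl : List ℕ} (K : SideOK D c.s) (hs : ∀ k < 8, c.s k = true ↔ S.InS k)
    (P : Split S D c.s gl) {p : ℕ × List ℕ} (hp : pairOK D c.s p = true) : S.Acts D (S.pval D P.y p) p.2 := by
  obtain ⟨h1, h2⟩ := S.pairOK_spec K hs hp
  intro v hv
  have := S.acts_mul K (stabOK_spec h2).1 (S.acts_e K h1) (P.acts h2) v hv
  rwa [apA_compA, apA_idA _ (apA_lt (stabOK_spec h2).1 v)] at this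

/-- Words preserving a set of coordinates, seen in either side. -/
def keepsOK (L : Letters) (U : List ℕ) (w : List ℕ) : Bool :=
  L.inDom w && U.all fun v => Nat.blt v 64 && U.any (Nat.beq (apA (L.eval w).2 v))

/-- Some generator in the centraliser moves the set out of itself. -/
def movesOK (dec : List ℕ) (U : List ℕ) : Bool :=
  U.any fun v => U.all fun u =>
    !Nat.beq (mulC (codes.getD 4 0) (decE dec v)) (mulC (decE dec u) (codes.getD 4 0))

/-- The subgroup of the words is proper. -/
theorem sub_ne_top {sub : List (List ℕ)} {UA UB : List ℕ} (K : c.OK) (hs : ∀ k < 8, c.s k = true ↔ S.InS k)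
    (hU : UA = [] ∨ UA.map (decE sideA.dec) = UB.map (decE sideB.dec))
    (h : sub.all (fun w => (!UA.isEmpty && keepsOK c.LA UA w) || keepsOK c.LB UB w) = true) (hmv : movesOK sideB.dec UB = true)
    (h8 : sub.all (fun w => w.all fun l => Nat.blt l 8) = true) :
    Subgroup.closure (Set.range fun j : Fin sub.length => wv A.gM sub[j.1]) ≠ ⊤ := by
  classical
  let V : Finset G := (UB.map (S.e sideB.dec)).toFinset
  have hVA : UA ≠ [] → ∀ x, x ∈ V ↔ ∃ v ∈ UA, S.e sideA.dec v = x := by
    intro hne x
    have he : UA.map (S.e sideA.dec) = UB.map (S.e sideB.dec) := by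
      have := congrArg (List.map S.ι) (hU.resolve_left hne)
      rw [List.map_map, List.map_map] at this
      exact this
    simp only [V, ← he, List.mem_toFinset, List.mem_map]
  have hVB : ∀ x, x ∈ V ↔ ∃ v ∈ UB, S.e sideB.dec v = x := fun x => by
    simp only [V, List.mem_toFinset, List.mem_map]
  let St : Subgroup G :=
    { carrier := {a | ∀ x, x ∈ V ↔ a * x * a⁻¹ ∈ V}
      one_mem' := fun x => by simp
      mul_mem' := fun {a b} ha hb x => by
        rw [hb x, ha (b * x * b⁻¹)]
        constructor <;> intro h' <;> simpa [mul_assoc] using h'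
      inv_mem' := fun {a} ha x => by
        rw [ha (a⁻¹ * x * a⁻¹⁻¹)]
        constructor <;> intro h' <;> simpa [mul_assoc] using h' }
  have key : ∀ a : G, (∀ x ∈ V, a * x * a⁻¹ ∈ V) → a ∈ St := by
    intro a ha x
    refine ⟨ha x, fun h' => ?_⟩
    have himg : V.image (fun y => a * y * a⁻¹) = V :=
      Finset.eq_of_subset_of_card_le (fun y hy => by
        obtain ⟨u, hu, rfl⟩ := Finset.mem_image.1 hy; exact ha u hu)
        (le_of_eq (Finset.card_image_of_injective _ fun p q hpq => by simpa using hpq).symm)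
    rw [← himg] at h'
    obtain ⟨u, hu, hue⟩ := Finset.mem_image.1 h'
    exact (show u = x by simpa using hue) ▸ hu
  have hside : ∀ (D : Side) (L : Letters) (gl : List ℕ) (P : Split S D c.s gl) (U : List ℕ) (w : List ℕ),
      SideOK D c.s → L.check D c.s gl = true → A.g L.extra = S.pval D P.y (L.val.getD L.extra pone) →
      (∀ x, x ∈ V ↔ ∃ v ∈ U, S.e D.dec v = x) → keepsOK L U w = true → wv A.g w ∈ St := by
    intro D L gl P U w KD hL hx hV hk
    simp only [keepsOK, Bool.and_eq_true, List.all_eq_true, List.any_eq_true, beq_iff] at hk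
    obtain ⟨hp, hwv⟩ := S.wv_eval KD hs P hL A.g A.cent hx w hk.1
    refine key _ fun x hx' => ?_
    obtain ⟨v, hv, rfl⟩ := (hV x).1 hx'
    obtain ⟨hv64, u, hu, hue⟩ := hk.2 v hv
    rw [hwv, acts_pval KD hs P hp v (Nat.le_of_ble_eq_true hv64), hue]
    exact (hV _).2 ⟨u, hu, rfl⟩
  intro htop
  have hle : (Subgroup.closure (Set.range fun j : Fin sub.length => wv A.gM sub[j.1])).map A.M.subtype ≤ St := by
    rw [MonoidHom.map_closure, Subgroup.closure_le]
    rintro _ ⟨_, ⟨j, rfl⟩, rfl⟩
    have hmem : sub[j.1] ∈ sub := List.getElem_mem _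
    show ((wv A.gM sub[j.1] : A.M) : G) ∈ St
    rw [A.coe_wv_gM fun l hl => Nat.le_of_ble_eq_true (List.all_eq_true.1 (List.all_eq_true.1 h8 _ hmem) l hl)]
    have := List.all_eq_true.1 h _ hmem
    simp only [Bool.or_eq_true, Bool.and_eq_true, Bool.not_eq_true', List.isEmpty_eq_false_iff] at this
    rcases this with ⟨hne, h'⟩ | h'
    · exact hside sideA c.LA _ A.PA UA _ K.sideA K.letA (by rw [K.extra.1]; exact A.six) (hVA hne) h'
    · exact hside sideB c.LB _ A.PB UB _ K.sideB K.letB (by rw [K.extra.2]; exact A.seven) hVB h'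
  rw [htop, ← MonoidHom.range_eq_map, Subgroup.range_subtype] at hle
  obtain ⟨v, hv, hall⟩ := List.any_eq_true.1 hmv
  have hmem := (hle (A.g_mem (i := 4) (by norm_num)) (S.e sideB.dec v)).1 ((hVB _).2 ⟨v, hv, rfl⟩)
  obtain ⟨u, hu, hue⟩ := (hVB _).1 hmem
  have hu' := List.all_eq_true.1 hall u hu
  rw [A.cent 4 (by norm_num), eq_mul_inv_iff_mul_eq] at hue
  have hc4 := List.all_eq_true.1 codes_checked 4 (List.mem_range.2 (by norm_num))
  have hvalid : ∀ a ∈ UB, valid (decE sideB.dec a) = true := by
    intro a _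
    unfold decE
    rw [List.getD_eq_getElem?_getD]
    rcases lt_or_ge a sideB.dec.length with ha | ha
    · rw [List.getElem?_eq_getElem ha, Option.getD_some]
      exact (K.sideB.good.valid_mem (List.getElem_mem _)).1
    · rw [List.getElem?_eq_none ha, Option.getD_none]
      exact valid_oneC
  unfold Setup.e at hue
  rw [← S.mul (hvalid u hu) hc4, ← S.mul hc4 (hvalid v hv)] at hue
  rw [S.inj (valid_mulC (hvalid u hu) hc4) (valid_mulC hc4 (hvalid v hv)) hue, Nat.beq_refl] at hu'
  exact Bool.false_ne_true hu'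

end Amal

end Cfsg.Lib.HeldType
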