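import Cfsg.Agent.Lib.HeldType.Sides.Lifts
import Cfsg.Agent.Lib.HeldType.Sides.GlueA
import Cfsg.Agent.Lib.HeldType.Sides.GlueB
import Cfsg.Agent.Lib.HeldType.Sides.StabAL
import Cfsg.Agent.Lib.HeldType.Sides.StabAM
import Cfsg.Agent.Lib.HeldType.Sides.StabAH
import Cfsg.Agent.Lib.HeldType.Sides.StabBL
import Cfsg.Agent.Lib.HeldType.Sides.StabBM
import Cfsg.Agent.Lib.HeldType.Sides.StabBH

/-!
# The two sides: all checks
-/
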