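import Cfsg.Agent.Lib.HeldType.Glue
import Cfsg.Agent.Lib.HeldType.Sides

/-!
# The letters of the amalgams: data and checks
-/

set_option autoImplicit false
set_option maxRecDepth 100000

namespace Cfsg.Lib.HeldType

instance : Inhabited Excl := ⟨⟨pone, 0, pone, [], 0, 0, pone, [], 0⟩⟩

/-- The letters of the first side, L5. -/
def lettersLFiveA : Letters where
  dom := [0, 1, 2, 3, 4, 6]
  val := [(61, [1, 2, 4, 8, 16, 32]), (10, [1, 2, 7, 8, 16, 56]), (25, [9, 27, 45, 8, 24, 40]), (48, [1, 3, 5, 8, 24, 40]), (32, [1, 6, 4, 8, 48, 32]), (0, [1, 2, 4, 8, 16, 32]), (7, [2, 1, 4, 18, 9, 36]), (0, [1, 2, 4, 8, 16, 32])]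
  words := [[], [0, 0, 0, 1, 1], [1, 0, 0, 1, 1], [1, 0, 0, 0, 1, 0], [1, 0, 0, 0, 1], [], [], []]
  extra := 6

/-- The letters of the second side, L5. -/
def lettersLFiveB : Letters where
  dom := [0, 1, 2, 3, 5, 7]
  val := [(49, [1, 2, 21, 42, 16, 32]), (30, [1, 2, 4, 8, 16, 32]), (53, [17, 51, 4, 12, 16, 48]), (52, [1, 3, 20, 60, 16, 48]), (0, [1, 2, 4, 8, 16, 32]), (53, [20, 40, 17, 34, 16, 32]), (0, [1, 2, 4, 8, 16, 32]), (15, [2, 1, 8, 4, 42, 21])]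
  words := [[0, 1, 1, 1, 1], [], [1, 1, 0, 0, 1], [1, 0, 0, 1, 1], [], [0, 0, 1, 0, 0, 0, 1], [], []]
  extra := 7

/-- The witnesses against the other gluings, L5. -/
def exclLFiveA : List Excl := [⟨(0, [1, 2, 4, 8, 16, 32]), 0, (0, [1, 2, 4, 8, 16, 32]), [], 0, 0, (0, [1, 2, 4, 8, 16, 32]), [], 0⟩,
  ⟨(0, [18, 54, 63, 2, 6, 7]), 34160, (9, [1, 5, 3, 8, 40, 24]), [0, 0, 1, 1, 0], 2, 36003, (16, [1, 2, 7, 8, 16, 56]), [0, 0, 0, 1, 1], 1⟩,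
  ⟨(0, [9, 63, 45, 1, 7, 5]), 35200, (8, [1, 6, 4, 8, 48, 32]), [1, 0, 0, 0, 1], 1, 35284, (1, [1, 7, 4, 8, 56, 32]), [0, 0, 1, 0, 0, 0, 1], 2⟩,
  ⟨(0, [63, 36, 45, 56, 32, 40]), 58630, (54, [1, 4, 2, 8, 32, 16]), [0, 1, 1, 1, 1], 1, 35063, (1, [1, 3, 5, 8, 24, 40]), [1, 0, 0, 0, 1, 0], 6⟩]

/-- The witnesses against the other gluings, L5. -/
def exclLFiveB : List Excl := [⟨(0, [1, 2, 4, 8, 16, 32]), 0, (0, [1, 2, 4, 8, 16, 32]), [], 0, 0, (0, [1, 2, 4, 8, 16, 32]), [], 0⟩,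
  ⟨(0, [63, 21, 48, 16, 51, 17]), 34986, (48, [17, 34, 4, 8, 16, 32]), [0, 1, 0, 0, 0, 1], 6, 59526, (34, [1, 2, 21, 42, 16, 32]), [0, 1, 1, 1, 1], 1⟩,
  ⟨(0, [42, 21, 40, 20, 34, 17]), 20707, (37, [4, 8, 1, 2, 16, 32]), [1, 0, 0, 0, 1], 7, 59584, (19, [1, 2, 5, 10, 16, 32]), [0, 0, 1, 1, 0], 1⟩,
  ⟨(0, [12, 4, 51, 17, 15, 5]), 29920, (26, [4, 8, 1, 2, 16, 32]), [1, 0, 0, 0, 1], 1, 29836, (26, [20, 40, 17, 34, 16, 32]), [0, 0, 1, 0, 0, 0, 1], 7⟩]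

/-- The element in both normalisers, L5. -/
def sharedLFive : Shared where
  a := [1, 6, 2]
  act := [32, 48, 10, 15, 34, 51]
  inA := [((1, [1, 2, 4, 8, 16, 32]), []), ((2, [1, 2, 4, 8, 16, 32]), []), ((0, [1, 2, 5, 8, 16, 40]), [0, 1, 0, 0, 0, 1]), ((0, [1, 2, 6, 8, 16, 48]), [0, 1, 1, 0, 0]), ((8, [1, 2, 4, 8, 16, 32]), []), ((16, [1, 2, 4, 8, 16, 32]), [])]
  imA := [((16, [1, 2, 4, 8, 16, 32]), []), ((24, [1, 2, 4, 8, 16, 32]), []), ((2, [1, 2, 6, 8, 16, 48]), [0, 1, 1, 0, 0]), ((3, [1, 2, 7, 8, 16, 56]), [0, 0, 0, 1, 1]), ((18, [1, 2, 4, 8, 16, 32]), []), ((27, [1, 2, 4, 8, 16, 32]), [])]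
  inB := [((1, [1, 2, 4, 8, 16, 32]), []), ((2, [1, 2, 4, 8, 16, 32]), []), ((0, [1, 2, 5, 10, 16, 32]), [0, 0, 1, 1, 0]), ((16, [1, 2, 4, 8, 16, 32]), []), ((32, [1, 2, 4, 8, 16, 32]), []), ((0, [1, 2, 20, 40, 16, 32]), [1, 0, 0, 0, 1, 0])]
  imB := [((32, [1, 2, 4, 8, 16, 32]), []), ((48, [1, 2, 4, 8, 16, 32]), []), ((16, [1, 2, 20, 40, 16, 32]), [1, 0, 0, 0, 1, 0]), ((34, [1, 2, 4, 8, 16, 32]), []), ((51, [1, 2, 4, 8, 16, 32]), []), ((17, [1, 2, 21, 42, 16, 32]), [0, 1, 1, 1, 1])]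
  bs := [[5, 3, 0, 7, 1, 0, 5], [1, 5, 0, 2, 7, 0, 5, 0], [5, 3, 0, 7, 0, 3, 5, 2], [0, 7, 2, 5, 0, 1, 7, 3]]

/-- The letters of the first side, M24. -/
def lettersM24A : Letters where
  dom := [0, 1, 2, 3, 4, 6]
  val := [(61, [1, 2, 4, 8, 16, 32]), (26, [1, 2, 7, 8, 16, 56]), (33, [9, 27, 45, 8, 24, 40]), (8, [1, 3, 5, 8, 24, 40]), (40, [1, 6, 4, 8, 48, 32]), (0, [1, 2, 4, 8, 16, 32]), (53, [7, 2, 4, 63, 18, 36]), (0, [1, 2, 4, 8, 16, 32])]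
  words := [[], [0, 0, 0, 1, 1], [1, 0, 0, 1, 1], [1, 0, 0, 0, 1, 0], [1, 0, 0, 0, 1], [], [], []]
  extra := 6

/-- The letters of the second side, M24. -/
def lettersM24B : Letters where
  dom := [0, 1, 2, 3, 5, 7]
  val := [(49, [1, 2, 21, 42, 16, 32]), (30, [1, 2, 4, 8, 16, 32]), (53, [17, 51, 4, 12, 16, 48]), (52, [1, 3, 20, 60, 16, 48]), (0, [1, 2, 4, 8, 16, 32]), (53, [20, 40, 17, 34, 16, 32]), (0, [1, 2, 4, 8, 16, 32]), (31, [30, 57, 32, 16, 8, 4])]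
  words := [[0, 1, 1, 1, 1], [], [1, 1, 0, 0, 1], [1, 0, 0, 1, 1], [], [0, 0, 1, 0, 0, 0, 1], [], []]
  extra := 7

/-- The witnesses against the other gluings, M24. -/
def exclM24A : List Excl := [⟨(0, [16, 56, 24, 2, 7, 3]), 51600, (4, [1, 7, 4, 8, 56, 32]), [0, 0, 1, 0, 0, 0, 1], 2, 34979, (24, [1, 2, 5, 8, 16, 40]), [0, 1, 0, 0, 0, 1], 6⟩,
  ⟨(0, [8, 24, 48, 9, 27, 54]), 51408, (5, [1, 3, 4, 8, 24, 32]), [0, 0], 2, 34999, (56, [1, 3, 5, 8, 24, 40]), [1, 0, 0, 0, 1, 0], 6⟩,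
  ⟨(0, [1, 2, 4, 8, 16, 32]), 0, (0, [1, 2, 4, 8, 16, 32]), [], 0, 0, (0, [1, 2, 4, 8, 16, 32]), [], 0⟩,
  ⟨(0, [56, 8, 32, 7, 1, 4]), 36002, (8, [1, 2, 7, 8, 16, 56]), [0, 0, 0, 1, 1], 4, 58688, (7, [1, 4, 2, 8, 32, 16]), [0, 1, 1, 1, 1], 2⟩]

/-- The witnesses against the other gluings, M24. -/
def exclM24B : List Excl := [⟨(0, [1, 2, 4, 8, 16, 32]), 0, (0, [1, 2, 4, 8, 16, 32]), [], 0, 0, (0, [1, 2, 4, 8, 16, 32]), [], 0⟩,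
  ⟨(0, [16, 48, 54, 45, 1, 3]), 51328, (1, [1, 2, 5, 10, 16, 32]), [0, 0, 1, 1, 0], 1, 35013, (16, [1, 2, 20, 40, 16, 32]), [1, 0, 0, 0, 1, 0], 6⟩,
  ⟨(0, [43, 22, 41, 23, 34, 17]), 34957, (16, [17, 34, 20, 40, 16, 32]), [0, 0], 5, 59527, (34, [1, 2, 21, 42, 16, 32]), [0, 1, 1, 1, 1], 4⟩,
  ⟨(0, [10, 15, 2, 3, 32, 48]), 29826, (63, [4, 8, 1, 2, 16, 32]), [1, 0, 0, 0, 1], 7, 39072, (20, [5, 10, 4, 8, 16, 32]), [0, 0, 0, 1, 1], 1⟩]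

/-- The element in both normalisers, M24. -/
def sharedM24 : Shared where
  a := [2, 4, 6, 4]
  act := [34, 51, 57, 30, 2, 3]
  inA := [((1, [1, 2, 4, 8, 16, 32]), []), ((2, [1, 2, 4, 8, 16, 32]), []), ((24, [1, 2, 5, 8, 16, 40]), [0, 1, 0, 0, 0, 1]), ((8, [1, 2, 6, 8, 16, 48]), [0, 1, 1, 0, 0]), ((8, [1, 2, 4, 8, 16, 32]), []), ((16, [1, 2, 4, 8, 16, 32]), [])]
  imA := [((18, [1, 2, 4, 8, 16, 32]), []), ((27, [1, 2, 4, 8, 16, 32]), []), ((17, [1, 2, 6, 8, 16, 48]), [0, 1, 1, 0, 0]), ((26, [1, 2, 7, 8, 16, 56]), [0, 0, 0, 1, 1]), ((2, [1, 2, 4, 8, 16, 32]), []), ((3, [1, 2, 4, 8, 16, 32]), [])]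
  inB := [((1, [1, 2, 4, 8, 16, 32]), []), ((2, [1, 2, 4, 8, 16, 32]), []), ((0, [1, 2, 5, 10, 16, 32]), [0, 0, 1, 1, 0]), ((16, [1, 2, 4, 8, 16, 32]), []), ((32, [1, 2, 4, 8, 16, 32]), []), ((0, [1, 2, 20, 40, 16, 32]), [1, 0, 0, 0, 1, 0])]
  imB := [((34, [1, 2, 4, 8, 16, 32]), []), ((51, [1, 2, 4, 8, 16, 32]), []), ((17, [1, 2, 21, 42, 16, 32]), [0, 1, 1, 1, 1]), ((2, [1, 2, 4, 8, 16, 32]), []), ((3, [1, 2, 4, 8, 16, 32]), []), ((1, [1, 2, 5, 10, 16, 32]), [0, 0, 1, 1, 0])]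
  bs := [[3, 5, 7, 5, 3, 2, 1, 0], [5, 7, 5, 7, 2, 7, 1, 0], [3, 5, 7, 3, 5, 1, 3, 0], [5, 2, 7, 3, 5, 1, 0, 3]]

/-- The letters of the first side, He. -/
def lettersHeA : Letters where
  dom := [0, 1, 2, 3, 4, 6]
  val := [(61, [1, 2, 4, 8, 16, 32]), (26, [1, 2, 7, 8, 16, 56]), (33, [9, 27, 45, 8, 24, 40]), (8, [1, 3, 5, 8, 24, 40]), (40, [1, 6, 4, 8, 48, 32]), (0, [1, 2, 4, 8, 16, 32]), (53, [51, 16, 36, 29, 2, 32]), (0, [1, 2, 4, 8, 16, 32])]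
  words := [[], [0, 0, 0, 1, 1], [1, 0, 0, 1, 1], [1, 0, 0, 0, 1, 0], [1, 0, 0, 0, 1], [], [], []]
  extra := 6

/-- The letters of the second side, He. -/
def lettersHeB : Letters where
  dom := [0, 1, 2, 3, 5, 7]
  val := [(33, [1, 2, 21, 42, 16, 32]), (30, [1, 2, 4, 8, 16, 32]), (33, [17, 51, 4, 12, 16, 48]), (53, [1, 3, 20, 60, 16, 48]), (0, [1, 2, 4, 8, 16, 32]), (37, [20, 40, 17, 34, 16, 32]), (0, [1, 2, 4, 8, 16, 32]), (38, [15, 5, 13, 6, 25, 46])]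
  words := [[0, 1, 1, 1, 1], [], [1, 1, 0, 0, 1], [1, 0, 0, 1, 1], [], [0, 0, 1, 0, 0, 0, 1], [], []]
  extra := 7

/-- The witnesses against the other gluings, He. -/
def exclHeA : List Excl := [⟨(0, [45, 22, 36, 5, 34, 4]), 51604, (36, [1, 7, 4, 8, 56, 32]), [0, 0, 1, 0, 0, 0, 1], 2, 34964, (32, [1, 3, 4, 8, 24, 32]), [0, 0], 6⟩,
  ⟨(0, [3, 2, 23, 24, 16, 42]), 35042, (17, [1, 2, 5, 8, 16, 40]), [0, 1, 0, 0, 0, 1], 6, 44259, (19, [1, 2, 7, 8, 16, 56]), [0, 0, 0, 1, 1], 1⟩,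
  ⟨(0, [1, 2, 4, 8, 16, 32]), 0, (0, [1, 2, 4, 8, 16, 32]), [], 0, 0, (0, [1, 2, 4, 8, 16, 32]), [], 0⟩,
  ⟨(0, [1, 3, 6, 9, 27, 54]), 51604, (12, [1, 7, 4, 8, 56, 32]), [0, 0, 1, 0, 0, 0, 1], 2, 58742, (15, [1, 5, 3, 8, 40, 24]), [0, 0, 1, 1, 0], 4⟩]

/-- The witnesses against the other gluings, He. -/
def exclHeB : List Excl := [⟨(0, [40, 60, 34, 51, 32, 48]), 59585, (19, [1, 2, 5, 10, 16, 32]), [0, 0, 1, 1, 0], 4, 39083, (52, [21, 42, 4, 8, 16, 32]), [0, 1, 1, 0, 0], 7⟩,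
  ⟨(0, [22, 43, 16, 32, 17, 34]), 40097, (28, [5, 10, 4, 8, 16, 32]), [0, 0, 0, 1, 1], 4, 34950, (33, [1, 2, 20, 40, 16, 32]), [1, 0, 0, 0, 1, 0], 5⟩,
  ⟨(0, [55, 46, 7, 14, 60, 40]), 29921, (15, [4, 8, 1, 2, 16, 32]), [1, 0, 0, 0, 1], 4, 34953, (16, [17, 34, 4, 8, 16, 32]), [0, 1, 0, 0, 0, 1], 5⟩,
  ⟨(0, [1, 2, 4, 8, 16, 32]), 0, (0, [1, 2, 4, 8, 16, 32]), [], 0, 0, (0, [1, 2, 4, 8, 16, 32]), [], 0⟩]

/-- The element in both normalisers, He. -/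
def sharedHe : Shared where
  a := [4, 6, 2, 6, 4, 2, 0]
  act := [34, 51, 25, 46, 2, 3]
  inA := [((1, [1, 2, 4, 8, 16, 32]), []), ((2, [1, 2, 4, 8, 16, 32]), []), ((24, [1, 2, 5, 8, 16, 40]), [0, 1, 0, 0, 0, 1]), ((8, [1, 2, 6, 8, 16, 48]), [0, 1, 1, 0, 0]), ((8, [1, 2, 4, 8, 16, 32]), []), ((16, [1, 2, 4, 8, 16, 32]), [])]
  imA := [((18, [1, 2, 4, 8, 16, 32]), []), ((27, [1, 2, 4, 8, 16, 32]), []), ((1, [1, 2, 6, 8, 16, 48]), [0, 1, 1, 0, 0]), ((2, [1, 2, 7, 8, 16, 56]), [0, 0, 0, 1, 1]), ((2, [1, 2, 4, 8, 16, 32]), []), ((3, [1, 2, 4, 8, 16, 32]), [])]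
  inB := [((1, [1, 2, 4, 8, 16, 32]), []), ((2, [1, 2, 4, 8, 16, 32]), []), ((17, [1, 2, 5, 10, 16, 32]), [0, 0, 1, 1, 0]), ((16, [1, 2, 4, 8, 16, 32]), []), ((32, [1, 2, 4, 8, 16, 32]), []), ((1, [1, 2, 20, 40, 16, 32]), [1, 0, 0, 0, 1, 0])]
  imB := [((34, [1, 2, 4, 8, 16, 32]), []), ((51, [1, 2, 4, 8, 16, 32]), []), ((32, [1, 2, 21, 42, 16, 32]), [0, 1, 1, 1, 1]), ((2, [1, 2, 4, 8, 16, 32]), []), ((3, [1, 2, 4, 8, 16, 32]), []), ((34, [1, 2, 5, 10, 16, 32]), [0, 0, 1, 1, 0])]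
  bs := [[7, 2, 7, 0, 2, 1, 7], [7, 2, 7, 1, 0, 1, 2, 7], [3, 7, 2, 3, 0, 7, 3, 5, 0], [5, 7, 3, 0, 2, 7, 2, 3, 1]]

theorem lettersLFive_checked : (lettersLFiveA.check sideA sLFive (sideA.glue.getD 0 []) &&
    lettersLFiveB.check sideB sLFive (sideB.glue.getD 0 [])) = true := by decide +kernel

theorem exclLFive_checked : (([0, 1, 2, 3].filter fun j => !Nat.beq j 0).all (fun j =>
    (exclLFiveA.getD j default).ok sideA sLFive (sideA.glue.getD j [])) &&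
    ([0, 1, 2, 3].filter fun j => !Nat.beq j 0).all fun j =>
      (exclLFiveB.getD j default).ok sideB sLFive (sideB.glue.getD j [])) = true := by decide +kernel

theorem sharedLFive_checked : sharedLFive.ok sideA sideB sLFive (sideA.glue.getD 0 []) (sideB.glue.getD 0 [])
    lettersLFiveA lettersLFiveB = true := by decide +kernel

theorem lettersM24_checked : (lettersM24A.check sideA sM24 (sideA.glue.getD 2 []) &&
    lettersM24B.check sideB sM24 (sideB.glue.getD 0 [])) = true := by decide +kernel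

theorem exclM24_checked : (([0, 1, 2, 3].filter fun j => !Nat.beq j 2).all (fun j =>
    (exclM24A.getD j default).ok sideA sM24 (sideA.glue.getD j [])) &&
    ([0, 1, 2, 3].filter fun j => !Nat.beq j 0).all fun j =>
      (exclM24B.getD j default).ok sideB sM24 (sideB.glue.getD j [])) = true := by decide +kernel

theorem sharedM24_checked : sharedM24.ok sideA sideB sM24 (sideA.glue.getD 2 []) (sideB.glue.getD 0 [])
    lettersM24A lettersM24B = true := by decide +kernel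

theorem lettersHe_checked : (lettersHeA.check sideA sHe (sideA.glue.getD 2 []) &&
    lettersHeB.check sideB sHe (sideB.glue.getD 3 [])) = true := by decide +kernel

theorem exclHe_checked : (([0, 1, 2, 3].filter fun j => !Nat.beq j 2).all (fun j =>
    (exclHeA.getD j default).ok sideA sHe (sideA.glue.getD j [])) &&
    ([0, 1, 2, 3].filter fun j => !Nat.beq j 3).all fun j =>
      (exclHeB.getD j default).ok sideB sHe (sideB.glue.getD j [])) = true := by decide +kernel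

theorem sharedHe_checked : sharedHe.ok sideA sideB sHe (sideA.glue.getD 2 []) (sideB.glue.getD 3 [])
    lettersHeA lettersHeB = true := by decide +kernel

end Cfsg.Lib.HeldType
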