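import Cfsg.Agent.Lib.HeldType.CaseChecks

/-!
# Linear maps of the six coordinates, given by the images of the basis
-/

set_option autoImplicit false
set_option maxRecDepth 100000

namespace Cfsg.Lib.HeldType

/-- The image of a vector. -/
def apA (A : List ℕ) (v : ℕ) : ℕ :=
  Nat.xor (bif Nat.testBit v 0 then A.getD 0 0 else 0) (Nat.xor (bif Nat.testBit v 1 then A.getD 1 0 else 0)
    (Nat.xor (bif Nat.testBit v 2 then A.getD 2 0 else 0) (Nat.xor (bif Nat.testBit v 3 then A.getD 3 0 else 0)
      (Nat.xor (bif Nat.testBit v 4 then A.getD 4 0 else 0) (bif Nat.testBit v 5 then A.getD 5 0 else 0)))))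

/-- The composite, the right one first. -/
def compA (A B : List ℕ) : List ℕ := B.map (apA A)

/-- The identity. -/
def idA : List ℕ := [1, 2, 4, 8, 16, 32]

/-- Six images below `64`. -/
def IsMat (A : List ℕ) : Prop := A.length = 6 ∧ ∀ a ∈ A, a < 64

theorem apA_xor (A : List ℕ) (v w : ℕ) : apA A (Nat.xor v w) = Nat.xor (apA A v) (apA A w) := by
  have key : ∀ (p q : Bool) (a : ℕ), (bif p ^^ q then a else 0) = (bif p then a else 0) ^^^ (bif q then a else 0) := by
    intro p q a
    cases p <;> cases q <;> simp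
  show apA A (v ^^^ w) = apA A v ^^^ apA A w
  unfold apA
  simp only [Nat.testBit_xor, key]
  simp only [show ∀ a b : ℕ, Nat.xor a b = a ^^^ b from fun _ _ => rfl]
  ac_rfl

theorem apA_zero (A : List ℕ) : apA A 0 = 0 := by simp [apA]

theorem apA_basis (A : List ℕ) {i : ℕ} (hi : i < 6) : apA A (2 ^ i) = A.getD i 0 := by
  interval_cases i <;> simp [apA, Nat.testBit, Nat.shiftRight_eq_div_pow]

theorem IsMat.getD_lt {A : List ℕ} (h : IsMat A) (i : ℕ) : A.getD i 0 < 64 := by
  rw [List.getD_eq_getElem?_getD]
  rcases lt_or_ge i A.length with hi | hi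
  · rw [List.getElem?_eq_getElem hi, Option.getD_some]
    exact h.2 _ (List.getElem_mem _)
  · rw [List.getElem?_eq_none hi]
    norm_num

theorem apA_lt {A : List ℕ} (h : IsMat A) (v : ℕ) : apA A v < 64 := by
  have key : ∀ (p : Bool) (i : ℕ), (bif p then A.getD i 0 else 0) < 2 ^ 6 := fun p i => by
    cases p
    · simp
    · exact h.getD_lt i
  exact Nat.xor_lt_two_pow (n := 6) (key _ 0) (Nat.xor_lt_two_pow (n := 6) (key _ 1) (Nat.xor_lt_two_pow (n := 6)
    (key _ 2) (Nat.xor_lt_two_pow (n := 6) (key _ 3) (Nat.xor_lt_two_pow (n := 6) (key _ 4) (key _ 5)))))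

theorem isMat_idA : IsMat idA := ⟨rfl, by decide⟩

theorem isMat_compA {A B : List ℕ} (hA : IsMat A) (hB : IsMat B) : IsMat (compA A B) :=
  ⟨by rw [compA, List.length_map, hB.1], fun a ha => by
    obtain ⟨b, -, rfl⟩ := List.mem_map.1 ha
    exact apA_lt hA b⟩

theorem apA_compA (A B : List ℕ) (v : ℕ) : apA (compA A B) v = apA A (apA B v) := by
  have hget : ∀ i, (compA A B).getD i 0 = apA A (B.getD i 0) := by
    intro i
    simp only [compA, List.getD_eq_getElem?_getD, List.getElem?_map]
    cases B[i]? <;> simp [apA_zero]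
  have key : ∀ (p : Bool) (a : ℕ), apA A (bif p then a else 0) = bif p then apA A a else 0 := fun p a => by
    cases p <;> simp [apA_zero]
  conv_rhs => rw [show apA B v = Nat.xor (bif Nat.testBit v 0 then B.getD 0 0 else 0)
    (Nat.xor (bif Nat.testBit v 1 then B.getD 1 0 else 0) (Nat.xor (bif Nat.testBit v 2 then B.getD 2 0 else 0)
    (Nat.xor (bif Nat.testBit v 3 then B.getD 3 0 else 0) (Nat.xor (bif Nat.testBit v 4 then B.getD 4 0 else 0)
    (bif Nat.testBit v 5 then B.getD 5 0 else 0))))) from rfl]
  simp only [apA_xor, key]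
  unfold apA
  simp only [hget]
  rfl

theorem apA_idA : ∀ v < 64, apA idA v = v := by decide +kernel

/-- Matrices agreeing on all vectors are equal. -/
theorem eq_of_apA {A B : List ℕ} (hA : IsMat A) (hB : IsMat B) (h : ∀ v < 64, apA A v = apA B v) : A = B := by
  refine List.ext_getElem (hA.1.trans hB.1.symm) fun i hi hi' => ?_
  have h6 : i < 6 := hA.1 ▸ hi
  have h64 : 2 ^ i < 64 := by interval_cases i <;> norm_num
  have := h _ h64
  rwa [apA_basis A h6, apA_basis B h6, List.getD_eq_getElem?_getD, List.getD_eq_getElem?_getD,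
    List.getElem?_eq_getElem hi, List.getElem?_eq_getElem hi', Option.getD_some, Option.getD_some] at this

/-- The map preserves the fused elements and is injective. -/
def stabOK (cls : List ℕ) (s : ℕ → Bool) (A : List ℕ) : Bool :=
  Nat.beq A.length 6 && A.all (fun a => Nat.blt a 64) &&
    (List.range 64).all fun v => (Nat.beq v 0 || !Nat.beq (apA A v) 0) && (inO cls s (apA A v) == inO cls s v)

/-- Extend partial maps along a basis of fused vectors, checking that each full one lies in a list. -/
def searchOK (cls : List ℕ) (s : ℕ → Bool) (cand idx : List ℕ) (hs : List (List ℕ)) :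
    List ℕ → List ℕ → List ℕ → Bool
  | [], _, img => hs.contains (idx.map fun i => img.getD i 0)
  | b :: bs, src, img => cand.all fun o =>
      let src' := src.map (Nat.xor b)
      let img' := img.map (Nat.xor o)
      (List.range src.length).any (fun i => (Nat.beq (img'.getD i 0) 0 != Nat.beq (src'.getD i 0) 0) ||
        (inO cls s (img'.getD i 0) != inO cls s (src'.getD i 0))) ||
        searchOK cls s cand idx hs bs (src ++ src') (img ++ img')

theorem searchOK_spec {cls : List ℕ} {s : ℕ → Bool} {cand idx : List ℕ} {hs : List (List ℕ)} {A : List ℕ}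
    (hinj : ∀ v < 64, v ≠ 0 → apA A v ≠ 0) (hO : ∀ v < 64, inO cls s (apA A v) = inO cls s v)
    (hcand : ∀ v < 64, inO cls s v = true → apA A v ∈ cand) :
    ∀ (bs src : List ℕ), (∀ b ∈ bs, b < 64 ∧ inO cls s b = true) → (∀ u ∈ src, u < 64) →
      searchOK cls s cand idx hs bs src (src.map (apA A)) = true →
      ∃ src', (∀ u ∈ src', u < 64) ∧ hs.contains (idx.map fun i => (src'.map (apA A)).getD i 0) = true ∧
        src' = bs.foldl (fun l b => l ++ l.map (Nat.xor b)) src
  | [], src, _, hsrc, h => ⟨src, hsrc, h, rfl⟩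
  | b :: bs, src, hb, hsrc, h => by
    obtain ⟨hb64, hbO⟩ := hb b List.mem_cons_self
    have hsrc' : ∀ u ∈ src ++ src.map (Nat.xor b), u < 64 := by
      intro u hu
      rcases List.mem_append.1 hu with hu | hu
      · exact hsrc u hu
      · obtain ⟨w, hw, rfl⟩ := List.mem_map.1 hu
        exact Nat.xor_lt_two_pow (n := 6) hb64 (hsrc w hw)
    have h' := List.all_eq_true.1 h (apA A b) (hcand b hb64 hbO)
    have hmap : (src.map (apA A)).map (Nat.xor (apA A b)) = (src.map (Nat.xor b)).map (apA A) := by
      simp only [List.map_map]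
      refine List.map_congr_left fun u _ => ?_
      exact (apA_xor A b u).symm
    simp only [Bool.or_eq_true, hmap] at h'
    rcases h' with h' | h'
    · exfalso
      obtain ⟨i, hi, h'⟩ := List.any_eq_true.1 h'
      have hi' := List.mem_range.1 hi
      simp only [List.getD_eq_getElem?_getD, List.getElem?_map, List.getElem?_eq_getElem hi', Option.map_some,
        Option.getD_some, Bool.or_eq_true, bne_iff_ne] at h'
      have hu : Nat.xor b (src[i]) < 64 := Nat.xor_lt_two_pow (n := 6) hb64 (hsrc _ (List.getElem_mem _))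
      rcases h' with h' | h'
      · refine h' (Bool.eq_iff_iff.2 ?_)
        simp only [Nat.beq_eq]
        exact ⟨fun e => by_contra fun hne => hinj _ hu hne e, fun e => by rw [e, apA_zero]⟩
      · exact h' (hO _ hu)
    · rw [← List.map_append] at h'
      exact searchOK_spec hinj hO hcand bs _ (fun c hc => hb c (List.mem_cons_of_mem _ hc)) hsrc' h'

/-- A linear map fixing `z` and preserving the fused elements is in the list, if the search says so. -/
theorem mem_of_searchOK {cls : List ℕ} {s : ℕ → Bool} {cand idx bs : List ℕ} {hs : List (List ℕ)} {A : List ℕ}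
    {zi : ℕ} (hA : IsMat A) (hinj : ∀ v < 64, v ≠ 0 → apA A v ≠ 0)
    (hO : ∀ v < 64, inO cls s (apA A v) = inO cls s v)
    (hcand : ∀ v < 64, inO cls s v = true → apA A v ∈ cand) (hfix : apA A zi = zi) (hzi : zi < 64)
    (hbs : ∀ b ∈ bs, b < 64 ∧ inO cls s b = true)
    (hidx : (idx.map fun i => (bs.foldl (fun l b => l ++ l.map (Nat.xor b)) [0, zi]).getD i 0) = idA)
    (h : searchOK cls s cand idx hs bs [0, zi] [0, zi] = true) : A ∈ hs := by
  have h' : searchOK cls s cand idx hs bs [0, zi] (List.map (apA A) [0, zi]) = true := by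
    simpa [apA_zero, hfix] using h
  obtain ⟨src, -, hc, hsrc⟩ := searchOK_spec hinj hO hcand bs [0, zi] hbs (by simp [hzi]) h'
  rw [← hsrc] at hidx
  have hget : ∀ i, (src.map (apA A)).getD i 0 = apA A (src.getD i 0) := by
    intro i
    simp only [List.getD_eq_getElem?_getD, List.getElem?_map]
    cases src[i]? <;> simp [apA_zero]
  have hidA : (idx.map fun i => (src.map (apA A)).getD i 0) = A := by
    simp only [hget]
    rw [show (idx.map fun i => apA A (src.getD i 0)) = (idx.map fun i => src.getD i 0).map (apA A) by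
      rw [List.map_map]; rfl, hidx]
    exact eq_of_apA (isMat_compA hA isMat_idA) hA fun v hv => by
      show apA (compA A idA) v = apA A v
      rw [apA_compA, apA_idA v hv]
  rw [hidA] at hc
  exact List.mem_of_elem_eq_true hc

end Cfsg.Lib.HeldType
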