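import Cfsg.Agent.Lib.HeldType.OneAffine
import Cfsg.Agent.Lib.HeldType.HeTerminal

/-!
# Groups with this involution centraliser: the four cases
-/

set_option autoImplicit false
set_option maxRecDepth 100000
set_option linter.style.haveILetI false
set_option linter.unusedSectionVars false

namespace Cfsg.Lib.HeldType

open Matrix

attribute [local irreducible] tList invList tMask invMask decA decB allC

/-- The permutation matrix exchanging the first two coordinates. -/
def swapMat : Matrix (Fin 5) (Fin 5) (ZMod 2) :=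
  !![0, 1, 0, 0, 0; 1, 0, 0, 0, 0; 0, 0, 1, 0, 0; 0, 0, 0, 1, 0; 0, 0, 0, 0, 1]

theorem swapMat_facts : swapMat * swapMat = 1 ∧ swapMatᵀ = swapMat ∧ swapMat.det = 1 := by
  refine ⟨by decide +kernel, by decide +kernel, unit_eq_one _ fun h0 => ?_⟩
  have h : swapMat * swapMat = 1 := by decide +kernel
  have := congrArg Matrix.det h
  rw [Matrix.det_mul, h0, zero_mul, Matrix.det_one] at this
  exact zero_ne_one this

/-- The transpose inverse, followed by the exchange of the first two coordinates. -/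
noncomputable def dualHom :
    Matrix.SpecialLinearGroup (Fin 5) (ZMod 2) →* Matrix.SpecialLinearGroup (Fin 5) (ZMod 2) where
  toFun g := ⟨swapMat * ((g⁻¹ : Matrix.SpecialLinearGroup (Fin 5) (ZMod 2)) : Matrix (Fin 5) (Fin 5) (ZMod 2))ᵀ * swapMat,
    by rw [Matrix.det_mul, Matrix.det_mul, Matrix.det_transpose, swapMat_facts.2.2, (g⁻¹).2, one_mul, one_mul]⟩
  map_one' := Subtype.ext (by
    show swapMat * ((1 : Matrix.SpecialLinearGroup (Fin 5) (ZMod 2))⁻¹ : Matrix.SpecialLinearGroup (Fin 5) (ZMod 2)).1ᵀ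
      * swapMat = 1
    rw [inv_one, show ((1 : Matrix.SpecialLinearGroup (Fin 5) (ZMod 2)) : Matrix (Fin 5) (Fin 5) (ZMod 2)) = 1 from rfl,
      Matrix.transpose_one, mul_one, swapMat_facts.1])
  map_mul' g h := Subtype.ext (by
    show swapMat * ((g * h)⁻¹ : Matrix.SpecialLinearGroup (Fin 5) (ZMod 2)).1ᵀ * swapMat =
      swapMat * (g⁻¹).1ᵀ * swapMat * (swapMat * (h⁻¹).1ᵀ * swapMat)
    rw [_root_.mul_inv_rev, Matrix.SpecialLinearGroup.coe_mul, Matrix.transpose_mul]
    simp only [mul_assoc]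
    rw [← mul_assoc swapMat swapMat, swapMat_facts.1, one_mul])

theorem dualHom_coe (g : Matrix.SpecialLinearGroup (Fin 5) (ZMod 2)) :
    (dualHom g : Matrix (Fin 5) (Fin 5) (ZMod 2)) = swapMat * (g⁻¹).1ᵀ * swapMat := rfl

theorem dualHom_dualHom (g : Matrix.SpecialLinearGroup (Fin 5) (ZMod 2)) : dualHom (dualHom g) = g := by
  refine Subtype.ext ?_
  rw [dualHom_coe, ← map_inv, dualHom_coe, inv_inv, Matrix.transpose_mul, Matrix.transpose_mul,
    Matrix.transpose_transpose, swapMat_facts.2.1]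
  rw [show swapMat * (swapMat * (g.1 * swapMat)) * swapMat = swapMat * swapMat * g.1 * (swapMat * swapMat) by
    simp only [mul_assoc], swapMat_facts.1, one_mul, mul_one]

/-- The duality preserves the transvection. -/
theorem dualHom_transvection {s : Matrix.SpecialLinearGroup (Fin 5) (ZMod 2)}
    (hs : (s : Matrix (Fin 5) (Fin 5) (ZMod 2)) = transvection 0 1 1) : dualHom s = s := by
  have hinv : s⁻¹ = s := inv_eq_of_mul_eq_one_right (Subtype.ext (by
    rw [Matrix.SpecialLinearGroup.coe_mul, hs]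
    show transvection (0 : Fin 5) 1 (1 : ZMod 2) * transvection 0 1 1 = 1
    decide +kernel))
  refine Subtype.ext ?_
  rw [dualHom_coe, hinv, hs]
  decide +kernel

/-- The codes of the duals of the representatives. -/
def dualReps : List ℕ := [34952, 35456, 35460, 34945, 35457, 34960, 34968, 39056]

/-- The classes of the duals. -/
def dualClass : List ℕ := [5, 1, 7, 3, 4, 0, 6, 2]

theorem dualReps_checked : ((List.range 8).all fun k =>
    valid (dualReps.getD k 0) && classIs (dualReps.getD k 0) (dualClass.getD k 0)) = true := by decide +kernel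

theorem dualReps_mat : ∀ k < 8, mat (dualReps.getD k 0) = swapMat * (mat (reps.getD k 0))ᵀ * swapMat ∧
    mat (reps.getD k 0) * mat (reps.getD k 0) = 1 := by decide +kernel

namespace Setup

variable {G : Type*} [Group G] [Finite G]

/-- Coordinates composed with the duality permute the classes. -/
theorem exists_dual {z : G} (hz : orderOf z = 2) (s : Matrix.SpecialLinearGroup (Fin 5) (ZMod 2))
    (hs : (s : Matrix (Fin 5) (Fin 5) (ZMod 2)) = transvection 0 1 1)
    (e : (Subgroup.centralizer ({z} : Set G)) ≃*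
      Subgroup.centralizer ({s} : Set (Matrix.SpecialLinearGroup (Fin 5) (ZMod 2)))) :
    ∃ S S' : Setup G, S.z = z ∧ S'.z = z ∧ ∀ k < 8, S'.InS k ↔ S.InS (dualClass.getD k 0) := by
  set C := Subgroup.centralizer ({s} : Set (Matrix.SpecialLinearGroup (Fin 5) (ZMod 2)))
  have hmem : ∀ g ∈ C, dualHom g ∈ C := fun g hg => by
    refine Subgroup.mem_centralizer_singleton_iff.2 ?_
    rw [← dualHom_transvection hs, ← map_mul, ← map_mul, Subgroup.mem_centralizer_singleton_iff.1 hg]
  let f : C ≃* C :=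
    { toFun := fun g => ⟨dualHom g, hmem g g.2⟩
      invFun := fun g => ⟨dualHom g, hmem g g.2⟩
      left_inv := fun g => Subtype.ext (dualHom_dualHom _)
      right_inv := fun g => Subtype.ext (dualHom_dualHom _)
      map_mul' := fun g h => Subtype.ext (map_mul dualHom _ _) }
  obtain ⟨S, hSz, hS⟩ := exists_setup hs hz e
  obtain ⟨S', hS'z, hS'⟩ := exists_setup hs hz (e.trans f)
  refine ⟨S, S', hSz, hS'z, fun k hk => ?_⟩
  have hchk := List.all_eq_true.1 dualReps_checked k (List.mem_range.2 hk)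
  obtain ⟨hv, hcl⟩ := Bool.and_eq_true_iff.1 hchk
  obtain ⟨n, hn, hne, hnk⟩ := classIs_spec hcl
  have hrep : S'.rep k = S.ι (dualReps.getD k 0) := by
    rw [rep, hS' _ (reps_valid k hk), hS _ hv]
    refine congrArg Subtype.val (?_ : e.symm (f.symm _) = _)
    refine congrArg e.symm (Subtype.ext ?_)
    show dualHom (sl (reps.getD k 0)) = sl (dualReps.getD k 0)
    refine Subtype.ext ?_
    obtain ⟨h1, h2⟩ := dualReps_mat k hk
    rw [dualHom_coe, coe_sl hv, h1, inv_eq_of_mul_eq_one_right (a := sl (reps.getD k 0))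
      (Subtype.ext (by rw [Matrix.SpecialLinearGroup.coe_mul, coe_sl (reps_valid k hk), h2]; rfl)),
      coe_sl (reps_valid k hk)]
  show IsConj S'.z (S'.rep k) ↔ _
  rw [hrep, hS'z, ← hSz, ← hne, S.isConj_ι_iff hn, hnk]

end Setup

/-- A group with this involution centraliser has a weakly closed `z` or is one of four groups. -/
theorem held_cases {G : Type*} [Group G] [Finite G] (s : Matrix.SpecialLinearGroup (Fin 5) (ZMod 2))
    (hs : (s : Matrix (Fin 5) (Fin 5) (ZMod 2)) = Matrix.transvection 0 1 1) (z : G) (hz : orderOf z = 2)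
    (e : Subgroup.centralizer ({z} : Set G) ≃*
      Subgroup.centralizer ({s} : Set (Matrix.SpecialLinearGroup (Fin 5) (ZMod 2)))) :
    (∀ g : G, g * z * g⁻¹ ∈ Subgroup.centralizer ({z} : Set G) → g * z * g⁻¹ = z) ∨
      (∃ v : Fin 5 → ZMod 2, v ≠ 0 ∧
        Nonempty (G ≃* MulAction.stabilizer (Matrix.SpecialLinearGroup (Fin 5) (ZMod 2)) v)) ∨
      Nonempty (G ≃* Matrix.SpecialLinearGroup (Fin 5) (ZMod 2)) ∨ Nonempty (G ≃* Cfsg.M24) ∨
        Cfsg.Spor.IsoHe G := by
  obtain ⟨S, S', rfl, hS'z, hdual⟩ := Setup.exists_dual hz s hs e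
  obtain ⟨b0, b1, b2, b5, b7, hch, hmem⟩ := S.seven_cases
  simp only [List.mem_cons, Prod.mk.injEq, List.not_mem_nil, or_false] at hmem
  rcases hmem with ⟨rfl, rfl, rfl, rfl, rfl⟩ | ⟨rfl, rfl, rfl, rfl, rfl⟩ | ⟨rfl, rfl, rfl, rfl, rfl⟩ |
    ⟨rfl, rfl, rfl, rfl, rfl⟩ | ⟨rfl, rfl, rfl, rfl, rfl⟩ | ⟨rfl, rfl, rfl, rfl, rfl⟩ | ⟨rfl, rfl, rfl, rfl, rfl⟩
  · -- nothing further is fused
    refine Or.inl fun g hg => ?_
    have hzo := pow_orderOf_eq_one S.z
    rw [S.hz, pow_two] at hzo
    have h2 : g * S.z * g⁻¹ * (g * S.z * g⁻¹) = 1 := by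
      rw [show ∀ a b : G, a * b * a⁻¹ * (a * b * a⁻¹) = a * (b * b) * a⁻¹ from fun a b => by group, hzo]; group
    have h1 : g * S.z * g⁻¹ ≠ 1 := fun e1 => by
      have hz1 : S.z = 1 := by simpa using e1
      have := S.hz
      rw [hz1, orderOf_one] at this
      omega
    obtain ⟨n, hn, hne⟩ := S.exists_entry hg h2 h1
    have hk : entK n = 3 := by
      have h : ∀ k < 8, chosen false false false false false k = true → k = 3 := by decide +kernel
      exact h _ (Setup.entry_valid hn).2.2.1 ((hch _ (Setup.entry_valid hn).2.2.1).2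
        ((S.isConj_ι_iff hn).1 (hne ▸ isConj_iff.2 ⟨g, rfl⟩)))
    obtain ⟨c, hc, hce⟩ := S.conj_rep hn
    rw [hne, hk, Setup.rep, show reps.getD 3 0 = zC by decide +kernel, S.map_z,
      Subgroup.mem_centralizer_singleton_iff.1 hc, mul_inv_cancel_right] at hce
    exact hce.symm
  · refine Or.inr (Or.inl (S.iso_stabilizer (Or.inl rfl) fun j hj => ?_))
    rw [← hch j hj]
    interval_cases j <;> decide
  · refine Or.inr (Or.inl (S.iso_stabilizer (Or.inr rfl) fun j hj => ?_))
    rw [← hch j hj]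
    interval_cases j <;> decide
  · exact Or.inr (Or.inr (Or.inl (S.iso_LFive hch)))
  · exact Or.inr (Or.inr (Or.inr (Or.inl (S.iso_M24 hch))))
  · refine Or.inr (Or.inr (Or.inr (Or.inl (S'.iso_M24 fun k hk => ?_))))
    rw [hdual k hk, ← hch _ (by interval_cases k <;> decide)]
    interval_cases k <;> decide
  · exact Or.inr (Or.inr (Or.inr (Or.inr (S.iso_He hch))))

end Cfsg.Lib.HeldType
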