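import Cfsg.Agent.Lib.HeldType.Linear
import Cfsg.Agent.Lib.HeldType.Cases

/-!
# The action of the normaliser of an elementary subgroup
-/

set_option autoImplicit false
set_option maxRecDepth 100000
set_option linter.style.haveILetI false
set_option linter.unusedSectionVars false

namespace Cfsg.Lib.HeldType

attribute [local irreducible] tList invList tMask invMask decA decB allC

/-- The data of one side: coordinates, classes, the stabiliser of `z` and lifts of it. -/
structure Side where
  /-- the coordinates -/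
  dec : List ℕ
  /-- the classes -/
  cls : List ℕ
  /-- the coordinate of `z` -/
  zi : ℕ
  /-- fused vectors completing `z` to a basis -/
  bs : List ℕ
  /-- where the standard basis sits among the spanned vectors -/
  idx : List ℕ
  /-- the stabiliser of `z` -/
  hList : List (List ℕ)
  /-- elements of a complement in the centraliser with these actions -/
  pWit : List ℕ
  /-- the actions of two generators -/
  hGen : List (List ℕ)
  /-- each action as a word in them -/
  hWord : List (List ℕ)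
  /-- relators of the two generators -/
  hRel : List (List ℕ)
  /-- the possible lifts of the two generators -/
  glue : List (List ℕ)

/-- A word in given codes. -/
def evalC (gs w : List ℕ) : ℕ := w.foldl (fun x i => mulC x (gs.getD i oneC)) oneC

/-- A word in given maps. -/
def evalA (gs : List (List ℕ)) (w : List ℕ) : List ℕ := w.foldl (fun A i => compA A (gs.getD i idA)) idA

namespace Side

variable (D : Side)

/-- The list of fused vectors. -/
def cand (s : ℕ → Bool) : List ℕ := (List.range 64).filter (inO D.cls s)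

/-- The stabiliser of `z` among the maps preserving the fused vectors is the list. -/
def stabilizerOK (s : ℕ → Bool) : Bool :=
  D.bs.all (fun b => Nat.blt b 64 && inO D.cls s b) &&
    (D.idx.map fun i => (D.bs.foldl (fun l b => l ++ l.map (Nat.xor b)) [0, D.zi]).getD i 0) == idA &&
    searchOK D.cls s (D.cand s) D.idx D.hList D.bs [0, D.zi] [0, D.zi]

/-- The list is a group of maps, lifted to a group of codes. -/
def liftsOK : Bool :=
  Nat.blt D.zi 64 && Nat.beq (decE D.dec D.zi) zC && Nat.beq (D.cls.getD 0 9) 9 &&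
    Nat.beq D.hList.length D.pWit.length && D.hList.getD 0 [] == idA && Nat.beq (D.pWit.getD 0 0) oneC &&
    ((List.range D.hList.length).all fun i =>
      let A := D.hList.getD i []
      let p := D.pWit.getD i 0
      (Nat.beq i 0 || A != idA) && valid p && Nat.beq A.length 6 && A.all (fun a => Nat.blt a 64) &&
        (List.range 6).all fun b => Nat.beq (mulC p (decE D.dec (2 ^ b))) (mulC (decE D.dec (A.getD b 0)) p)) &&
    (List.range D.hList.length).all fun i => (List.range D.hList.length).all fun k =>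
      let A := compA (D.hList.getD i []) (D.hList.getD k [])
      let p := mulC (D.pWit.getD i 0) (D.pWit.getD k 0)
      (List.range D.hList.length).any fun l => Nat.beq (D.pWit.getD l 0) p && D.hList.getD l [] == A

/-- Every lift of the two generators satisfying the relators is conjugate to a listed one. -/
def glueOK : Bool :=
  Nat.beq D.hGen.length 2 && D.hGen.all (fun A => D.hList.contains A) &&
    D.hWord.map (evalA D.hGen) == D.hList &&
    (D.hWord ++ D.hRel).all (fun w => w.all fun i => Nat.blt i 2) &&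
    D.hRel.all (fun w => evalA D.hGen w == idA) &&
    (let p0 := D.pWit.getD (D.hList.idxOf (D.hGen.getD 0 [])) 0
     let p1 := D.pWit.getD (D.hList.idxOf (D.hGen.getD 1 [])) 0
     (List.range 64).all fun v0 => (List.range 64).all fun v1 =>
      let w0 := mulC (decE D.dec v0) p0
      let w1 := mulC (decE D.dec v1) p1
      !(D.hRel.all fun w => Nat.beq (evalC [w0, w1] w) oneC) ||
        D.glue.any fun gl => (List.range 64).any fun u =>
          Nat.beq (mulC (decE D.dec u) w0) (mulC (gl.getD 0 0) (decE D.dec u)) &&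
            Nat.beq (mulC (decE D.dec u) w1) (mulC (gl.getD 1 0) (decE D.dec u))) &&
    D.glue.all (fun gl => valid (gl.getD 0 0) && valid (gl.getD 1 0))

end Side

/-- What the checks give for one side. -/
structure SideOK (D : Side) (s : ℕ → Bool) : Prop where
  good : Good D.dec
  cls_ok : clsOK D.dec D.cls = true
  stab : D.stabilizerOK s = true
  lifts : D.liftsOK = true
  glue : D.glueOK = true
  nine : s 9 = false

namespace SideOK

variable {D : Side} {s : ℕ → Bool} (K : SideOK D s)
include K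

theorem lifts_spec : D.zi < 64 ∧ decE D.dec D.zi = zC ∧ D.cls.getD 0 9 = 9 ∧ D.hList.length = D.pWit.length ∧
    D.hList.getD 0 [] = idA ∧ D.pWit.getD 0 0 = oneC ∧
    (∀ i < D.hList.length, valid (D.pWit.getD i 0) = true ∧ IsMat (D.hList.getD i []) ∧
      (∀ b < 6, mulC (D.pWit.getD i 0) (decE D.dec (2 ^ b)) =
        mulC (decE D.dec ((D.hList.getD i []).getD b 0)) (D.pWit.getD i 0)) ∧
      (D.hList.getD i [] = idA → i = 0)) ∧
    ∀ i < D.hList.length, ∀ k < D.hList.length, ∃ l < D.hList.length,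
      D.pWit.getD l 0 = mulC (D.pWit.getD i 0) (D.pWit.getD k 0) ∧
        D.hList.getD l [] = compA (D.hList.getD i []) (D.hList.getD k []) := by
  have h := K.lifts
  simp only [Side.liftsOK, Bool.and_eq_true, beq_iff, beq_iff_eq] at h
  obtain ⟨⟨⟨⟨⟨⟨⟨h1, h2⟩, h3⟩, h4⟩, h5⟩, h6⟩, h7⟩, h8⟩ := h
  refine ⟨Nat.le_of_ble_eq_true h1, h2, h3, h4, h5, h6, fun i hi => ?_, fun i hi k hk => ?_⟩
  · have := List.all_eq_true.1 h7 i (List.mem_range.2 hi)
    simp only [Bool.and_eq_true, beq_iff, List.all_eq_true, List.mem_range, Bool.or_eq_true, bne_iff_ne] at this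
    exact ⟨this.1.1.1.2, ⟨this.1.1.2, fun a ha => Nat.le_of_ble_eq_true (this.1.2 a ha)⟩, this.2,
      fun e => this.1.1.1.1.resolve_right fun h => h e⟩
  · have := List.all_eq_true.1 (List.all_eq_true.1 h8 i (List.mem_range.2 hi)) k (List.mem_range.2 hk)
    obtain ⟨l, hl, hl'⟩ := List.any_eq_true.1 this
    simp only [Bool.and_eq_true, beq_iff, beq_iff_eq] at hl'
    exact ⟨l, List.mem_range.1 hl, hl'⟩

end SideOK

namespace Setup

variable {G : Type*} [Group G] (S : Setup G) {D : Side} {s : ℕ → Bool}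

/-- The normaliser of the subgroup of a side. -/
def nSub (D : Side) : Subgroup G := Subgroup.normalizer (S.eSub D.dec : Set G)

/-- `n` acts by the map `A`. -/
def Acts (D : Side) (n : G) (A : List ℕ) : Prop := ∀ v < 64, n * S.e D.dec v * n⁻¹ = S.e D.dec (apA A v)

variable (K : SideOK D s)
include K

theorem acts_of_basis {n : G} {A : List ℕ} (hA : IsMat A)
    (h : ∀ b < 6, n * S.e D.dec (2 ^ b) * n⁻¹ = S.e D.dec (A.getD b 0)) : S.Acts D n A := by
  have key : ∀ a < 64, a = 0 ∨ (∃ b < 6, a = 2 ^ b) ∨ ∃ b < 6, 2 ^ b < 64 ∧ Nat.xor a (2 ^ b) < a := by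
    decide +kernel
  intro v
  induction v using Nat.strong_induction_on with
  | _ v ih =>
    intro hv
    rcases key v hv with rfl | ⟨b, hb, rfl⟩ | ⟨b, hb, hb64, hlt⟩
    · rw [apA_zero, S.e_zero K.good]; simp
    · rw [apA_basis A hb, h b hb]
    · have hw := ih _ hlt (lt_trans hlt hv)
      have hv' : Nat.xor (2 ^ b) (Nat.xor v (2 ^ b)) = v := by
        show 2 ^ b ^^^ (v ^^^ 2 ^ b) = v
        rw [Nat.xor_comm v, ← Nat.xor_assoc, Nat.xor_self, Nat.zero_xor]
      rw [← hv', ← S.e_mul K.good hb64 (lt_trans hlt hv), ← conj_mul, hw, h b hb,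
        S.e_mul K.good (hA.getD_lt b) (apA_lt hA _), apA_xor A (2 ^ b), apA_basis A hb]

theorem acts_mem {n : G} {A : List ℕ} (hA : IsMat A) (h : S.Acts D n A) [Finite G] : n ∈ S.nSub D := by
  refine S.mem_normalizer_of_basis K.good fun b hb => ?_
  have hb64 : b < 64 := by fin_cases hb <;> norm_num
  rw [h b hb64]
  exact S.e_mem K.good (apA_lt hA b)

theorem exists_acts {n : G} (hn : n ∈ S.nSub D) : ∃ A, IsMat A ∧ S.Acts D n A := by
  have hb : ∀ b : Fin 6, ∃ a < 64, S.e D.dec a = n * S.e D.dec (2 ^ b.1) * n⁻¹ := fun b =>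
    (S.mem_eSub K.good).1 ((Subgroup.mem_normalizer_iff.1 hn _).1
      (S.e_mem K.good (Nat.pow_lt_pow_right (a := 2) (n := 6) (by norm_num) b.2)))
  choose f hf hfe using hb
  have hmat : IsMat (List.ofFn f) := ⟨List.length_ofFn, fun a ha => by
    obtain ⟨i, rfl⟩ := List.mem_ofFn.1 ha; exact hf i⟩
  refine ⟨List.ofFn f, hmat, S.acts_of_basis K hmat fun b hb => ?_⟩
  have : (List.ofFn f).getD b 0 = f ⟨b, hb⟩ := by
    rw [List.getD_eq_getElem?_getD, List.getElem?_eq_getElem (by simpa using hb), Option.getD_some, List.getElem_ofFn]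
  rw [this]
  exact (hfe ⟨b, hb⟩).symm

theorem acts_unique {n : G} {A B : List ℕ} (hA : IsMat A) (hB : IsMat B) (h : S.Acts D n A) (h' : S.Acts D n B) :
    A = B :=
  eq_of_apA hA hB fun v hv => S.e_inj K.good (apA_lt hA v) (apA_lt hB v) ((h v hv).symm.trans (h' v hv))

theorem acts_mul {n m : G} {A B : List ℕ} (hB : IsMat B) (h : S.Acts D n A) (h' : S.Acts D m B) :
    S.Acts D (n * m) (compA A B) := fun v hv => by
  rw [apA_compA, ← h _ (apA_lt hB v), ← h' v hv]
  group

theorem acts_one : S.Acts D 1 idA := fun v hv => by rw [apA_idA v hv]; simp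

theorem acts_e {v : ℕ} (hv : v < 64) : S.Acts D (S.e D.dec v) idA := fun w hw => by
  rw [apA_idA w hw, S.eSub_comm K.good (S.e_mem K.good hv) (S.e_mem K.good hw), mul_inv_cancel_right]

theorem mem_eSub_of_acts_id {n : G} (h : S.Acts D n idA) : n ∈ S.eSub D.dec := by
  rw [← S.centralizer_eSub K.good]
  refine Subgroup.mem_centralizer_iff.2 fun a ha => ?_
  obtain ⟨v, hv, rfl⟩ := (S.mem_eSub K.good).1 ha
  have := h v hv
  rw [apA_idA v hv] at this
  exact (mul_inv_eq_iff_eq_mul.1 this).symm

theorem acts_pWit {i : ℕ} (hi : i < D.hList.length) :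
    S.Acts D (S.ι (D.pWit.getD i 0)) (D.hList.getD i []) := by
  obtain ⟨hv, hA, hb, -⟩ := K.lifts_spec.2.2.2.2.2.2.1 i hi
  refine S.acts_of_basis K hA fun b hb' => ?_
  have h1 := (K.good.valid_mem (K.good.mem_of_lt (Nat.pow_lt_pow_right (a := 2) (n := 6) (by norm_num) hb'))).1
  have h2 := (K.good.valid_mem (K.good.mem_of_lt (hA.getD_lt b))).1
  rw [e, e, ← S.mul hv h1, hb b hb', S.mul h2 hv, mul_inv_cancel_right]

/-- A map preserving the fused vectors. -/
theorem stab_of_acts (hs : ∀ k < 8, s k = true ↔ S.InS k) {n : G} {A : List ℕ} (hA : IsMat A)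
    (h : S.Acts D n A) : stabOK D.cls s A = true := by
  have hO : ∀ v < 64, (inO D.cls s v = true ↔ IsConj S.z (S.e D.dec v)) := by
    intro v hv
    rcases eq_or_ne v 0 with rfl | h0
    · rw [S.e_zero K.good, inO, K.lifts_spec.2.2.1, K.nine]
      simp only [Bool.false_eq_true, false_iff]
      intro hc
      have hz1 : S.z = 1 := isConj_one_left.1 hc
      have := S.hz
      rw [hz1, orderOf_one] at this
      omega
    · obtain ⟨hk, hiff⟩ := S.isConj_e K.cls_ok hv h0
      rw [inO, hs _ hk, hiff]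
  simp only [stabOK, Bool.and_eq_true, beq_iff, List.all_eq_true, List.mem_range, Bool.or_eq_true,
    Bool.not_eq_true', beq_iff_eq]
  refine ⟨⟨hA.1, fun a ha => Nat.ble_eq_true_of_le (hA.2 a ha)⟩, fun v hv => ⟨?_, ?_⟩⟩
  · rcases eq_or_ne v 0 with rfl | h0
    · exact Or.inl rfl
    · refine Or.inr (Bool.eq_false_iff.2 fun e => h0 ?_)
      have h1 := h v hv
      rw [beq_iff.1 e, S.e_zero K.good, mul_inv_eq_one] at h1
      exact S.e_inj K.good hv (by norm_num) (by rw [S.e_zero K.good]; exact mul_left_cancel (h1.trans (mul_one n).symm))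
  · refine Bool.eq_iff_iff.2 ?_
    rw [hO _ (apA_lt hA v), hO v hv, ← h v hv]
    have hc : IsConj (S.e D.dec v) (n * S.e D.dec v * n⁻¹) := isConj_iff.2 ⟨n, rfl⟩
    exact ⟨fun h' => h'.trans hc.symm, fun h' => h'.trans hc⟩

end Setup

theorem stabOK_spec {cls : List ℕ} {s : ℕ → Bool} {A : List ℕ} (h : stabOK cls s A = true) :
    IsMat A ∧ (∀ v < 64, v ≠ 0 → apA A v ≠ 0) ∧ ∀ v < 64, inO cls s (apA A v) = inO cls s v := by
  simp only [stabOK, Bool.and_eq_true, beq_iff, List.all_eq_true, List.mem_range, Bool.or_eq_true,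
    Bool.not_eq_true', beq_iff_eq] at h
  refine ⟨⟨h.1.1, fun a ha => Nat.le_of_ble_eq_true (h.1.2 a ha)⟩, fun v hv h0 e => ?_, fun v hv => (h.2 v hv).2⟩
  rcases (h.2 v hv).1 with h1 | h1
  · exact h0 h1
  · rw [e, Nat.beq_refl] at h1
    exact Bool.false_ne_true h1.symm

namespace Setup

variable {G : Type*} [Group G] [Finite G] (S : Setup G) {D : Side} {s : ℕ → Bool} (K : SideOK D s)
  (hs : ∀ k < 8, s k = true ↔ S.InS k)
include K hs

/-- An element of the normaliser fixing `z` acts by a listed map. -/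
theorem mem_hList {n : G} {A : List ℕ} (hA : IsMat A) (h : S.Acts D n A)
    (hz : n ∈ Subgroup.centralizer ({S.z} : Set G)) : A ∈ D.hList := by
  obtain ⟨-, hinj, hO⟩ := stabOK_spec (S.stab_of_acts K hs hA h)
  have hst := K.stab
  simp only [Side.stabilizerOK, Bool.and_eq_true, List.all_eq_true, beq_iff_eq] at hst
  refine mem_of_searchOK hA hinj hO (fun v hv hin => ?_) ?_ K.lifts_spec.1
    (fun b hb => ⟨Nat.le_of_ble_eq_true (hst.1.1 b hb).1, (hst.1.1 b hb).2⟩) hst.1.2 hst.2
  · exact List.mem_filter.2 ⟨List.mem_range.2 (apA_lt hA v), (hO v hv).trans hin⟩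
  · refine S.e_inj K.good (apA_lt hA _) K.lifts_spec.1 ?_
    rw [← h _ K.lifts_spec.1, e, K.lifts_spec.2.1, S.map_z, Subgroup.mem_centralizer_singleton_iff.1 hz,
      mul_inv_cancel_right]

/-- Every map preserving the fused vectors is the action of an element of the normaliser. -/
theorem exists_of_stab {A : List ℕ} (hA : stabOK D.cls s A = true) : ∃ n ∈ S.nSub D, S.Acts D n A := by
  obtain ⟨hmat, hinj, hO⟩ := stabOK_spec hA
  obtain ⟨hzi, hzd, -, -, -, -, hwit, -⟩ := K.lifts_spec
  have hze : S.e D.dec D.zi = S.z := by rw [e, hzd, S.map_z]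
  have hz0 : D.zi ≠ 0 := fun e0 => by
    have hz1 : S.z = 1 := by rw [← hze, e0, S.e_zero K.good]
    have := S.hz
    rw [hz1, orderOf_one] at this
    omega
  -- the image of `z` is fused
  have hzO : inO D.cls s D.zi = true := by
    obtain ⟨hk, hiff⟩ := S.isConj_e K.cls_ok hzi hz0
    rw [inO, hs _ hk, ← hiff, hze]
  have hconj : IsConj S.z (S.e D.dec (apA A D.zi)) := by
    have h1 := hO D.zi hzi
    rw [hzO] at h1
    obtain ⟨hk, hiff⟩ := S.isConj_e K.cls_ok (apA_lt hmat D.zi) (hinj _ hzi hz0)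
    rw [inO, hs _ hk] at h1
    exact hiff.2 h1
  obtain ⟨g, hg⟩ := isConj_iff.1 hconj
  obtain ⟨m, hm, hme⟩ := S.exists_conj K.good (S.z_mem K.good) (S.e_mem K.good (apA_lt hmat D.zi)) (g := g) hg
  obtain ⟨B, hB, hBa⟩ := S.exists_acts K (n := m⁻¹) (inv_mem hm)
  obtain ⟨-, hBinj, hBO⟩ := stabOK_spec (S.stab_of_acts K hs hB hBa)
  set τ := compA B A
  have hτ : IsMat τ := isMat_compA hB hmat
  have hfix : apA τ D.zi = D.zi := by
    refine S.e_inj K.good (apA_lt hτ _) hzi ?_
    rw [apA_compA, ← hBa _ (apA_lt hmat _), hze, ← hme]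
    group
  have hst := K.stab
  simp only [Side.stabilizerOK, Bool.and_eq_true, List.all_eq_true, beq_iff_eq] at hst
  have hτmem : τ ∈ D.hList := by
    refine mem_of_searchOK hτ (fun v hv h0 => ?_) (fun v hv => ?_) (fun v hv hin => ?_) hfix hzi
      (fun b hb => ⟨Nat.le_of_ble_eq_true (hst.1.1 b hb).1, (hst.1.1 b hb).2⟩) hst.1.2 hst.2
    · rw [apA_compA]; exact hBinj _ (apA_lt hmat v) (hinj v hv h0)
    · rw [apA_compA, hBO _ (apA_lt hmat v), hO v hv]
    · refine List.mem_filter.2 ⟨List.mem_range.2 (apA_lt hτ v), ?_⟩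
      rw [apA_compA, hBO _ (apA_lt hmat v), hO v hv]; exact hin
  obtain ⟨i, hi, hie⟩ := List.getElem_of_mem hτmem
  have hp := S.acts_pWit K hi
  rw [show D.hList.getD i [] = τ by
    rw [List.getD_eq_getElem?_getD, List.getElem?_eq_getElem hi, Option.getD_some, hie]] at hp
  refine ⟨m * S.ι (D.pWit.getD i 0), mul_mem hm (S.acts_mem K hτ hp), fun v hv => ?_⟩
  have h1 := hp v hv
  rw [apA_compA, ← hBa _ (apA_lt hmat v)] at h1
  calc m * S.ι (D.pWit.getD i 0) * S.e D.dec v * (m * S.ι (D.pWit.getD i 0))⁻¹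
      = m * (S.ι (D.pWit.getD i 0) * S.e D.dec v * (S.ι (D.pWit.getD i 0))⁻¹) * m⁻¹ := by group
    _ = S.e D.dec (apA A v) := by rw [h1]; group

end Setup

end Cfsg.Lib.HeldType
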