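import Cfsg.Agent.Lib.HeldType.OneClass
import Cfsg.Agent.Lib.Solv.GaschutzAbelian
import Mathlib.LinearAlgebra.Matrix.GeneralLinearGroup.Card

/-!
# One further fused class: the group is the stabiliser of a vector
-/

set_option autoImplicit false
set_option maxRecDepth 100000
set_option linter.style.haveILetI false
set_option linter.unusedSectionVars false

namespace Cfsg.Lib.HeldType

open Matrix

attribute [local irreducible] tList invList tMask invMask decA decB allC

/-- The index of a vector of four bits. -/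
def idxFour (v : Fin 4 → ZMod 2) : ℕ := ∑ i : Fin 4, (v i).val * 2 ^ (i : ℕ)

theorem idxFour_spec : ∀ v w : Fin 4 → ZMod 2, idxFour v < 16 ∧ idxFour (v + w) = Nat.xor (idxFour v) (idxFour w) ∧
    (idxFour v = idxFour w → v = w) := by decide +kernel

theorem idxFour_surj : ∀ i < 16, ∃ v : Fin 4 → ZMod 2, idxFour v = i := by decide +kernel

theorem unit_eq_one : ∀ a : ZMod 2, a ≠ 0 → a = 1 := by decide +kernel

/-- A stabiliser of a vector has at most this order. -/
theorem card_stabilizer_le :
    Nat.card (MulAction.stabilizer (Matrix.SpecialLinearGroup (Fin 5) (ZMod 2))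
      (Pi.single (4 : Fin 5) 1 : Fin 5 → ZMod 2)) ≤ 322560 := by
  classical
  set St := MulAction.stabilizer (Matrix.SpecialLinearGroup (Fin 5) (ZMod 2))
    (Pi.single (4 : Fin 5) 1 : Fin 5 → ZMod 2)
  let mm : St → Matrix (Fin 5) (Fin 5) (ZMod 2) := fun g =>
    ((g : Matrix.SpecialLinearGroup (Fin 5) (ZMod 2)) : Matrix (Fin 5) (Fin 5) (ZMod 2))
  have hcol : ∀ (g : St) (i : Fin 5), mm g i 4 = (Pi.single (4 : Fin 5) 1 : Fin 5 → ZMod 2) i := by
    intro g i
    have h : mm g *ᵥ (Pi.single (4 : Fin 5) 1 : Fin 5 → ZMod 2) = Pi.single (4 : Fin 5) 1 := g.2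
    have := congrFun h i
    rwa [mulVec_single, MulOpposite.op_one, one_smul] at this
  have hz : ∀ (g : St) (i : Fin 4), mm g i.castSucc 4 = 0 := fun g i => by
    rw [hcol, Pi.single_eq_of_ne]
    exact fun e => absurd (congrArg Fin.val e) (by simp; omega)
  let top : St → Matrix (Fin 4) (Fin 4) (ZMod 2) := fun g i j => mm g i.castSucc j.castSucc
  have hmul : ∀ g h : St, top (g * h) = top g * top h := by
    intro g h
    ext i j
    show (mm g * mm h) i.castSucc j.castSucc = _
    rw [Matrix.mul_apply, Matrix.mul_apply, Fin.sum_univ_castSucc]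
    rw [show (Fin.last 4) = (4 : Fin 5) from rfl, hz, zero_mul, add_zero]
  have hone : top 1 = 1 := by
    ext i j
    show (1 : Matrix (Fin 5) (Fin 5) (ZMod 2)) i.castSucc j.castSucc = _
    simp [Matrix.one_apply, Fin.castSucc_inj]
  let toU : St → GL (Fin 4) (ZMod 2) := fun g =>
    ⟨top g, top g⁻¹, by rw [← hmul, mul_inv_cancel, hone], by rw [← hmul, inv_mul_cancel, hone]⟩
  let F : St → GL (Fin 4) (ZMod 2) × (Fin 4 → ZMod 2) := fun g => (toU g, fun j => mm g 4 j.castSucc)
  have hinj : Function.Injective F := by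
    intro g h he
    obtain ⟨h1, h2⟩ := Prod.ext_iff.1 he
    have h1' : top g = top h := congrArg Units.val h1
    refine Subtype.ext (Subtype.ext ?_)
    ext i j
    show mm g i j = mm h i j
    refine Fin.lastCases (motive := fun j => mm g i j = mm h i j) ?_ (fun j => ?_) j
    · rw [show (Fin.last 4) = (4 : Fin 5) from rfl, hcol, hcol]
    refine Fin.lastCases (motive := fun i => mm g i j.castSucc = mm h i j.castSucc) ?_ (fun i => ?_) i
    · exact congrFun h2 j
    · exact congrFun (congrFun h1' i) j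
  refine le_trans (Nat.card_le_card_of_injective F hinj) (le_of_eq ?_)
  rw [Nat.card_prod, Matrix.card_GL_field, Nat.card_fun]
  simp [Fin.prod_univ_four, ZMod.card]

namespace OneData

variable {G : Type*} [Group G] [Finite G] {S : Setup G} {d : OneData}
  (hA : d.subOK = true) (hs : ∀ k < 8, S.InS k ↔ k = 3 ∨ k = d.k)

/-- The elementary subgroup. -/
def aSub (S : Setup G) (d : OneData) (hA : d.subOK = true) : Subgroup G where
  carrier := {g | ∃ i < 16, el S d i = g}
  one_mem' := ⟨0, by norm_num, el_zero hA⟩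
  mul_mem' := by
    rintro _ _ ⟨i, hi, rfl⟩ ⟨j, hj, rfl⟩
    exact ⟨_, Nat.xor_lt_two_pow (n := 4) hi hj, (el_mul hA hi hj).symm⟩
  inv_mem' := by
    rintro _ ⟨i, hi, rfl⟩
    refine ⟨i, hi, eq_inv_of_mul_eq_one_left ?_⟩
    rw [el_mul hA hi hi, show Nat.xor i i = 0 from Nat.xor_self i, el_zero hA]

include hA

theorem card_aSub : Nat.card (aSub S d hA) = 16 := by
  have : Nat.card (aSub S d hA) = Nat.card (Fin 16) :=
    (Nat.card_congr (Equiv.ofBijective (fun i : Fin 16 => (⟨el S d i.1, i.1, i.2, rfl⟩ : aSub S d hA))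
      ⟨fun i j h => Fin.ext (el_inj hA i.2 j.2 (congrArg Subtype.val h)), fun g => by
        obtain ⟨i, hi, he⟩ := g.2
        exact ⟨⟨i, hi⟩, Subtype.ext he⟩⟩)).symm
  simpa using this

theorem el_mem_tSub {i : ℕ} (hi : i < 16) : el S d i ∈ S.tSub := by
  obtain ⟨n, hn, he⟩ := List.mem_map.1 (mem_tMask.1 ((sub_spec hA).2.1 _ (getD_mem hA hi)).2)
  exact S.mem_tSub.2 ⟨n, hn, congrArg S.ι he⟩

include hs in
/-- One further fused class gives the stabiliser of a vector. -/
theorem nonempty_stabilizer (hax : d.axisOK = true) (hcent : d.centOK = true) (hK : d.complOK = true) :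
    Nonempty (G ≃* MulAction.stabilizer (Matrix.SpecialLinearGroup (Fin 5) (ZMod 2))
      (Pi.single (4 : Fin 5) 1 : Fin 5 → ZMod 2)) := by
  classical
  have hM := stab_eq_top hA hs hax
  have hblock : ∀ g y : G, Block S y → Block S (g * y * g⁻¹) := fun g y hy =>
    (((Subgroup.eq_top_iff' _).1 hM g) y).1 hy
  set A := aSub S d hA with hAdef
  have hAmem : ∀ {g : G}, g ∈ A ↔ g = 1 ∨ Block S g := by
    intro g
    constructor
    · rintro ⟨i, hi, rfl⟩
      rcases eq_or_ne i 0 with rfl | h0
      · exact Or.inl (el_zero hA)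
      · exact Or.inr ((block_iff hA hs).2 ⟨i, hi, h0, rfl⟩)
    · rintro (rfl | hb)
      · exact one_mem _
      · obtain ⟨i, hi, -, he⟩ := (block_iff hA hs).1 hb
        exact ⟨i, hi, he⟩
  haveI hAn : A.Normal := ⟨fun a ha g => by
    rcases hAmem.1 ha with rfl | hb
    · rw [mul_one, mul_inv_cancel]; exact one_mem _
    · exact hAmem.2 (Or.inr (hblock g a hb))⟩
  haveI : IsMulCommutative A := ⟨⟨fun a b => Subtype.ext (by
    obtain ⟨i, hi, hie⟩ := a.2
    obtain ⟨j, hj, hje⟩ := b.2
    show (a : G) * b = b * a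
    rw [← hie, ← hje, el_comm hA hi hj])⟩⟩
  -- its centraliser
  have hcentA : ∀ g : G, (∀ i < 16, g * el S d i = el S d i * g) → g ∈ A := by
    intro g hg
    have hgz : g * S.z = S.z * g := by rw [← el_one hA (S := S)]; exact hg 1 (by norm_num)
    obtain ⟨y, hy, rfl⟩ := S.surj (Subgroup.mem_centralizer_singleton_iff.2 hgz)
    have h := of_all_allC hcent hy
    simp only [Bool.or_eq_true, Bool.not_eq_true', List.all_eq_false, List.any_eq_true, beq_iff] at h
    rcases h with ⟨i, hi, hne⟩ | ⟨w, hw, rfl⟩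
    · exfalso
      have hi16 : i < 16 := by fin_cases hi <;> norm_num
      exact hne ((S.comm_iff hy (valid_el hA hi16)).1 (hg i hi16))
    · obtain ⟨i, hi, he⟩ := exists_index hA hw
      exact ⟨i, hi, congrArg S.ι he⟩
  -- the order
  haveI : Fintype G := Fintype.ofFinite G
  have hcard : Nat.card G = 15 * 21504 := by
    let C := Subgroup.centralizer ({S.z} : Set G)
    have hrel : ∀ a b : G, (QuotientGroup.mk a : G ⧸ C) = QuotientGroup.mk b ↔ a * S.z * a⁻¹ = b * S.z * b⁻¹ := by
      intro a b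
      rw [QuotientGroup.eq, Subgroup.mem_centralizer_singleton_iff]
      refine ⟨fun h => ?_, fun h => ?_⟩
      · calc a * S.z * a⁻¹ = a * (a⁻¹ * b * S.z) * b⁻¹ := by rw [h]; group
          _ = b * S.z * b⁻¹ := by group
      · calc a⁻¹ * b * S.z = a⁻¹ * (b * S.z * b⁻¹) * b := by group
          _ = S.z * (a⁻¹ * b) := by rw [← h]; group
    let T : Finset G := ((Finset.range 16).filter (· ≠ 0)).image (el S d)
    have hT : ∀ y, y ∈ T ↔ Block S y := fun y => by
      simp only [T, Finset.mem_image, Finset.mem_filter, Finset.mem_range, block_iff hA hs, and_assoc]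
    let f : G ⧸ C → T := Quotient.lift (fun a : G => ⟨_, (hT _).2 (hblock a _ (block_z hA hs))⟩)
      fun a b h => Subtype.ext ((hrel a b).1 (Quotient.sound h))
    have hf : Function.Bijective f := by
      refine ⟨fun p q => ?_, fun y => ?_⟩
      · induction p using QuotientGroup.induction_on with
        | H a =>
          induction q using QuotientGroup.induction_on with
          | H b => exact fun h => (hrel a b).2 (congrArg Subtype.val h)
      · obtain ⟨k, hk⟩ := isConj_iff.1 ((hT _).1 y.2).1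
        exact ⟨QuotientGroup.mk k, Subtype.ext hk⟩
    have hTcard : T.card = 15 := by
      rw [Finset.card_image_of_injOn fun i hi j hj h => ?_]
      · decide
      exact el_inj hA (Finset.mem_range.1 (Finset.mem_filter.1 hi).1)
        (Finset.mem_range.1 (Finset.mem_filter.1 hj).1) h
    rw [Subgroup.card_eq_card_quotient_mul_card_subgroup C, Nat.card_congr (Equiv.ofBijective f hf),
      Nat.card_eq_finsetCard, hTcard, S.card_cent]
  -- a complement
  simp only [complOK, Bool.and_eq_true, List.all_eq_true, List.any_eq_true, List.mem_range, Bool.or_eq_true,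
    Bool.not_eq_true', List.any_eq_false, beq_iff] at hK
  obtain ⟨⟨⟨⟨⟨hKlen, hKv⟩, hK1⟩, hKA⟩, hKmul⟩, hKnd⟩ := hK
  let P0 : Submonoid G :=
    { carrier := {g | ∃ y ∈ d.K, S.ι y = g}
      one_mem' := by
        obtain ⟨y, hy, he⟩ := hK1
        exact ⟨y, hy, by rw [← he, S.map_one]⟩
      mul_mem' := by
        rintro _ _ ⟨y, hy, rfl⟩ ⟨w, hw, rfl⟩
        obtain ⟨v, hv, he⟩ := hKmul y hy w hw
        exact ⟨v, hv, by rw [← he, S.mul (hKv y hy).1 (hKv w hw).1]⟩ }
  let A0 : Subgroup G :=
    { carrier := P0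
      one_mem' := P0.one_mem
      mul_mem' := fun {a b} ha hb => P0.mul_mem ha hb
      inv_mem' := fun {a} ha => by
        show a⁻¹ ∈ P0
        rw [show a⁻¹ = a ^ (orderOf a - 1) from inv_eq_of_mul_eq_one_left (by
          rw [← pow_succ, Nat.sub_add_cancel (orderOf_pos _), pow_orderOf_eq_one])]
        exact pow_mem ha _ }
  have hA0le : A0 ≤ S.tSub := by
    rintro _ ⟨y, hy, rfl⟩
    obtain ⟨n, hn, he⟩ := List.mem_map.1 (mem_tMask.1 (hKv y hy).2)
    exact S.mem_tSub.2 ⟨n, hn, congrArg S.ι he⟩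
  have hAle : A ≤ S.tSub := by
    rintro _ ⟨i, hi, rfl⟩
    exact el_mem_tSub hA hi
  have hAK : A0 ⊓ A = ⊥ := by
    rw [eq_bot_iff]
    rintro g ⟨⟨y, hy, rfl⟩, i, hi, he⟩
    refine Subgroup.mem_bot.2 ?_
    have hey : d.A.getD i 0 = y := S.inj (valid_el hA hi) (hKv y hy).1 he
    rcases hKA y hy with h | h
    · rw [h, S.map_one]
    · exact absurd (show y = d.A.getD i 0 from hey.symm) (h _ (getD_mem hA hi))
  have hA0card : 64 ≤ Nat.card A0 := by
    have hmem : ∀ i : Fin 64, d.K.getD i.1 0 ∈ d.K := fun i => by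
      rw [List.getD_eq_getElem?_getD, List.getElem?_eq_getElem (by omega), Option.getD_some]
      exact List.getElem_mem _
    have := Nat.card_le_card_of_injective (fun i : Fin 64 => (⟨S.ι (d.K.getD i.1 0), _, hmem i, rfl⟩ : A0))
      (fun i j h => by
        have he : d.K.getD i.1 0 = d.K.getD j.1 0 :=
          S.inj (hKv _ (hmem i)).1 (hKv _ (hmem j)).1 (congrArg Subtype.val h)
        refine Fin.ext ((hKnd i.1 i.2 j.1 j.2).resolve_right fun hb => ?_)
        simp only [Bool.eq_false_iff, ne_eq, beq_iff] at hb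
        exact hb he)
    simpa using this
  have hsup : A ⊔ A0 = S.tSub := by
    refine Subgroup.eq_of_le_of_card_ge (sup_le hAle hA0le) ?_
    rw [S.card_tSub]
    have := Nat.card_le_card_of_injective
      (fun p : A × A0 => (⟨(p.1 : G) * p.2, mul_mem (Subgroup.mem_sup_left p.1.2) (Subgroup.mem_sup_right p.2.2)⟩ :
        ↥(A ⊔ A0)))
      (fun p q h => Subgroup.mul_injective_of_disjoint (disjoint_iff.2 (inf_comm A A0 ▸ hAK)) (congrArg Subtype.val h))
    rw [Nat.card_prod, card_aSub hA] at this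
    omega
  have hcop : (Nat.card A).Coprime S.tSub.index := by
    haveI : Fact (Nat.Prime 2) := ⟨Nat.prime_two⟩
    obtain ⟨P, hP⟩ := S.exists_sylow
    rw [card_aSub hA, show (16 : ℕ) = 2 ^ 4 from rfl, ← hP]
    exact Nat.Coprime.pow_left 4 ((Nat.prime_two.coprime_iff_not_dvd).2 P.not_dvd_index)
  obtain ⟨H, hH⟩ := Cfsg.Lib.GaschutzAbelian.exists_complement A S.tSub hAle hcop A0 hA0le hAK hsup
  -- coordinates
  let ce : (Fin 4 → ZMod 2) → G := fun v => el S d (idxFour v)
  have ce_add : ∀ v w, ce (v + w) = ce v * ce w := fun v w => by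
    simp only [ce]
    rw [(idxFour_spec v w).2.1, el_mul hA (idxFour_spec v w).1 (idxFour_spec w v).1]
  have ce_inj : Function.Injective ce := fun v w h =>
    (idxFour_spec v w).2.2 (el_inj hA (idxFour_spec v w).1 (idxFour_spec w v).1 h)
  have ce_mem : ∀ v, ce v ∈ A := fun v => ⟨_, (idxFour_spec v v).1, rfl⟩
  have ce_surj : ∀ a ∈ A, ∃ v, ce v = a := by
    rintro _ ⟨i, hi, rfl⟩
    obtain ⟨v, rfl⟩ := idxFour_surj i hi
    exact ⟨v, rfl⟩
  have hact : ∀ (g : G) (v : Fin 4 → ZMod 2), ∃ w, ce w = g * ce v * g⁻¹ := fun g v =>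
    ce_surj _ (hAn.conj_mem _ (ce_mem v) g)
  choose act hact' using hact
  have act_add : ∀ g v w, act g (v + w) = act g v + act g w := fun g v w => ce_inj (by
    rw [hact', ce_add, ce_add, hact', hact']; group)
  have act_zero : ∀ g, act g 0 = 0 := fun g => by
    have h := act_add g 0 0
    rw [add_zero] at h
    exact left_eq_add.1 h
  have act_mul : ∀ g g' v, act (g * g') v = act g (act g' v) := fun g g' v => ce_inj (by
    rw [hact', hact', hact']; group)
  have hcv : ∀ g : G, ∃ v, (ce v)⁻¹ * g ∈ H := fun g => by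
    obtain ⟨⟨a, h⟩, hah⟩ := hH.2 g
    obtain ⟨v, hv⟩ := ce_surj _ a.2
    refine ⟨v, ?_⟩
    have he : (a : G) * h = g := hah
    rw [hv, ← he, inv_mul_cancel_left]
    exact h.2
  choose cv hcv' using hcv
  have cv_unique : ∀ g v, (ce v)⁻¹ * g ∈ H → v = cv g := by
    intro g v hv
    have h1 : (ce v)⁻¹ * ce (cv g) ∈ H := by
      have := mul_mem hv (inv_mem (hcv' g))
      rwa [show (ce v)⁻¹ * g * ((ce (cv g))⁻¹ * g)⁻¹ = (ce v)⁻¹ * ce (cv g) by group] at this
    have h2 := Subgroup.disjoint_def.1 hH.disjoint (mul_mem (inv_mem (ce_mem v)) (ce_mem (cv g))) h1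
    exact ce_inj (inv_mul_eq_one.1 h2)
  have cv_mul : ∀ g g', cv (g * g') = cv g + act g (cv g') := by
    intro g g'
    refine (cv_unique _ _ ?_).symm
    rw [ce_add, hact']
    -- move the second coordinate across `g`
    have hc : Commute (ce (cv g)) (g * ce (cv g') * g⁻¹) := by
      rw [← hact']
      exact congrArg Subtype.val (mul_comm' (⟨_, ce_mem (cv g)⟩ : A) ⟨_, ce_mem _⟩)
    rw [hc.eq, _root_.mul_inv_rev,
      show (ce (cv g))⁻¹ * (g * ce (cv g') * g⁻¹)⁻¹ * (g * g') = (ce (cv g))⁻¹ * g * ((ce (cv g'))⁻¹ * g') by group]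
    exact mul_mem (hcv' g) (hcv' g')
  -- the affine maps
  let f : G → (Fin 5 → ZMod 2) →+ (Fin 5 → ZMod 2) := fun g =>
    { toFun := fun w => Fin.snoc (act g (fun i => w i.castSucc) + w (Fin.last 4) • cv g) (w (Fin.last 4))
      map_zero' := by
        ext i
        refine Fin.lastCases ?_ (fun j => ?_) i
        · simp only [Pi.zero_apply, Fin.snoc_last]
        · simp only [Pi.zero_apply, zero_smul, add_zero, Fin.snoc_castSucc]
          exact congrFun (act_zero g) j
      map_add' := fun w w' => by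
        ext i
        refine Fin.lastCases ?_ (fun j => ?_) i
        · simp only [Pi.add_apply, Fin.snoc_last]
        · simp only [Pi.add_apply, Fin.snoc_castSucc]
          rw [show (fun i : Fin 4 => w i.castSucc + w' i.castSucc) =
            (fun i => w i.castSucc) + fun i => w' i.castSucc from rfl, act_add]
          simp only [Pi.add_apply, Pi.smul_apply, smul_eq_mul]
          ring }
  have f_mul : ∀ g g' w, f (g * g') w = f g (f g' w) := by
    intro g g' w
    ext i
    refine Fin.lastCases ?_ (fun j => ?_) i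
    · simp only [f, AddMonoidHom.coe_mk, ZeroHom.coe_mk, Fin.snoc_last]
    · simp only [f, AddMonoidHom.coe_mk, ZeroHom.coe_mk, Fin.snoc_castSucc, Fin.snoc_last]
      have hsm : ∀ (t : ZMod 2) (v : Fin 4 → ZMod 2), act g (t • v) = t • act g v := by
        intro t v
        rcases eq_or_ne t 0 with rfl | ht
        · simp [act_zero]
        · simp [unit_eq_one t ht]
      rw [act_add g, hsm, ← act_mul, cv_mul, smul_add, add_assoc, add_comm (w (Fin.last 4) • cv g)]
  let φ : G → Matrix (Fin 5) (Fin 5) (ZMod 2) := fun g => LinearMap.toMatrix' ((f g).toZModLinearMap 2)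
  have φ_mul : ∀ g g', φ (g * g') = φ g * φ g' := by
    intro g g'
    simp only [φ]
    rw [← LinearMap.toMatrix'_comp]
    refine congrArg _ (LinearMap.ext fun w => ?_)
    exact f_mul g g' w
  have hφ1 : φ 1 = 1 := by
    have hc1 : cv 1 = 0 := by
      refine (cv_unique 1 0 ?_).symm
      rw [show ce 0 = 1 by simp only [ce]; rw [show idxFour 0 = 0 by decide +kernel, el_zero hA]]
      simp
    have ha1 : ∀ v, act 1 v = v := fun v => ce_inj (by rw [hact']; group)
    simp only [φ]
    rw [← LinearMap.toMatrix'_id]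
    refine congrArg _ (LinearMap.ext fun w => ?_)
    show f 1 w = w
    ext i
    refine Fin.lastCases ?_ (fun j => ?_) i <;>
      simp only [f, AddMonoidHom.coe_mk, ZeroHom.coe_mk, Fin.snoc_last, Fin.snoc_castSucc, hc1, ha1, smul_zero,
        add_zero, Pi.add_apply, Pi.zero_apply]
  have hdet : ∀ g, (φ g).det = 1 := fun g => unit_eq_one _ fun h0 => by
    have h := congrArg Matrix.det (φ_mul g g⁻¹)
    rw [mul_inv_cancel, hφ1, Matrix.det_one, Matrix.det_mul, h0, zero_mul] at h
    exact one_ne_zero h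
  let ψ : G →* Matrix.SpecialLinearGroup (Fin 5) (ZMod 2) :=
    { toFun := fun g => ⟨(φ g⁻¹)ᵀ, by rw [Matrix.det_transpose, hdet]⟩
      map_one' := Subtype.ext (by simp [hφ1])
      map_mul' := fun g g' => Subtype.ext (by
        show (φ (g * g')⁻¹)ᵀ = (φ g⁻¹)ᵀ * (φ g'⁻¹)ᵀ
        rw [_root_.mul_inv_rev, φ_mul, Matrix.transpose_mul]) }
  have hfix : ∀ g, ψ g ∈ MulAction.stabilizer (Matrix.SpecialLinearGroup (Fin 5) (ZMod 2))
      (Pi.single (4 : Fin 5) 1 : Fin 5 → ZMod 2) := by
    intro g
    show (φ g⁻¹)ᵀ *ᵥ (Pi.single (4 : Fin 5) 1 : Fin 5 → ZMod 2) = Pi.single (4 : Fin 5) 1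
    ext i
    rw [mulVec_single, MulOpposite.op_one, one_smul, Matrix.col_apply, Matrix.transpose_apply]
    simp only [φ, LinearMap.toMatrix'_apply]
    show f g⁻¹ (Pi.single i 1) 4 = _
    rw [show (4 : Fin 5) = Fin.last 4 from rfl]
    simp only [f, AddMonoidHom.coe_mk, ZeroHom.coe_mk, Fin.snoc_last]
    rw [Pi.single_comm]
  have hinj : Function.Injective ψ := by
    rw [injective_iff_map_eq_one]
    intro g hg
    have h1 : φ g⁻¹ = 1 := by
      have h : (φ g⁻¹)ᵀ = (1 : Matrix (Fin 5) (Fin 5) (ZMod 2)) := congrArg Subtype.val hg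
      have := congrArg Matrix.transpose h
      rwa [Matrix.transpose_transpose, Matrix.transpose_one] at this
    have hw : ∀ w, f g⁻¹ w = w := fun w => by
      have h2 : (f g⁻¹).toZModLinearMap 2 = LinearMap.id :=
        LinearMap.toMatrix'.injective (by rw [LinearMap.toMatrix'_id]; exact h1)
      exact LinearMap.congr_fun h2 w
    have hc : cv g⁻¹ = 0 := by
      funext j
      have := congrFun (hw (Pi.single (Fin.last 4) 1)) j.castSucc
      simp only [f, AddMonoidHom.coe_mk, ZeroHom.coe_mk, Fin.snoc_castSucc, Pi.single_eq_same, one_smul,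
        Pi.add_apply] at this
      rw [show (fun i : Fin 4 => (Pi.single (Fin.last 4) (1 : ZMod 2) : Fin 5 → ZMod 2) i.castSucc) = 0 from
        funext fun i => Pi.single_eq_of_ne (Fin.castSucc_lt_last i).ne _, act_zero,
        Pi.single_eq_of_ne (Fin.castSucc_lt_last j).ne] at this
      simpa using this
    have ha : ∀ v, act g⁻¹ v = v := fun v => by
      funext j
      have := congrFun (hw (Fin.snoc v 0)) j.castSucc
      simp only [f, AddMonoidHom.coe_mk, ZeroHom.coe_mk, Fin.snoc_castSucc, Fin.snoc_last, zero_smul, add_zero,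
        Pi.add_apply] at this
      exact this
    have hH' : g⁻¹ ∈ H := by
      have := hcv' g⁻¹
      rw [hc, show ce 0 = 1 by simp only [ce]; rw [show idxFour 0 = 0 by decide +kernel, el_zero hA]] at this
      simpa using this
    have hAg : g⁻¹ ∈ A := hcentA _ fun i hi => by
      obtain ⟨v, rfl⟩ := idxFour_surj i hi
      have := hact' g⁻¹ v
      rw [ha v] at this
      change g⁻¹ * ce v = ce v * g⁻¹
      exact (mul_inv_eq_iff_eq_mul.1 this.symm)
    exact inv_eq_one.1 (Subgroup.disjoint_def.1 hH.disjoint hAg hH')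
  let ψ' : G →* MulAction.stabilizer (Matrix.SpecialLinearGroup (Fin 5) (ZMod 2))
      (Pi.single (4 : Fin 5) 1 : Fin 5 → ZMod 2) := ψ.codRestrict _ hfix
  have hinj' : Function.Injective ψ' := fun a b h => hinj (congrArg Subtype.val h)
  refine ⟨MulEquiv.ofBijective ψ' ?_⟩
  refine (Nat.bijective_iff_injective_and_card ψ').2 ⟨hinj', le_antisymm (Nat.card_le_card_of_injective ψ' hinj') ?_⟩
  rw [hcard]
  exact card_stabilizer_le

end OneData

namespace Setup

variable {G : Type*} [Group G] [Finite G] (S : Setup G)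

/-- A single further class gives the stabiliser of a vector. -/
theorem iso_stabilizer {k : ℕ} (hk : k = 0 ∨ k = 5) (hs : ∀ j < 8, S.InS j ↔ j = 3 ∨ j = k) :
    ∃ v : Fin 5 → ZMod 2, v ≠ 0 ∧
      Nonempty (G ≃* MulAction.stabilizer (Matrix.SpecialLinearGroup (Fin 5) (ZMod 2)) v) := by
  refine ⟨Pi.single (4 : Fin 5) 1, fun h => one_ne_zero (α := ZMod 2) ?_, ?_⟩
  · simpa using congrFun h 4
  rcases hk with rfl | rfl
  · exact OneData.nonempty_stabilizer oneZero_sub hs oneZero_axis oneZero_cent oneZero_compl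
  · exact OneData.nonempty_stabilizer oneFive_sub hs oneFive_axis oneFive_cent oneFive_compl

end Setup

end Cfsg.Lib.HeldType
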