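import Cfsg.Agent.Lib.HeldType.OneClassData

/-!
# One further fused class: the conjugates form one commuting block
-/

set_option autoImplicit false
set_option maxRecDepth 100000
set_option linter.style.haveILetI false
set_option linter.unusedSectionVars false

namespace Cfsg.Lib.HeldType

attribute [local irreducible] tList invList tMask invMask decA decB allC

namespace OneData

variable {G : Type*} [Group G] [Finite G] (S : Setup G) (d : OneData)

/-- The elements of the elementary subgroup. -/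
def el (i : ℕ) : G := S.ι (d.A.getD i 0)

/-- The conjugates of `z` in the centraliser. -/
def Block (y : G) : Prop := IsConj S.z y ∧ y * S.z = S.z * y

variable {S d} (hA : d.subOK = true) (hs : ∀ k < 8, S.InS k ↔ k = 3 ∨ k = d.k)
include hA

theorem sub_spec : d.A.length = 16 ∧ (∀ y ∈ d.A, valid y = true ∧ tMask.testBit y = true) ∧ d.A.getD 0 0 = oneC ∧
    d.A.getD 1 0 = zC ∧
    (∀ i < 16, ∀ j < 16, mulC (d.A.getD i 0) (d.A.getD j 0) = d.A.getD (Nat.xor i j) 0 ∧
      (i = j ∨ d.A.getD i 0 ≠ d.A.getD j 0)) ∧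
    (∀ i < 16, i = 0 ∨ classIs (d.A.getD i 0) 3 = true ∨ classIs (d.A.getD i 0) d.k = true) ∧
    ∀ n ∈ invList, (entK n = 3 ∨ entK n = d.k) → entX n ∈ d.A := by
  have h := hA
  simp only [subOK, Bool.and_eq_true, List.all_eq_true, List.mem_range, Bool.or_eq_true, Bool.not_eq_true',
    Bool.eq_false_iff, ne_eq, beq_iff, List.any_eq_true, or_assoc] at h
  obtain ⟨⟨⟨⟨⟨⟨h1, h2⟩, h3⟩, h4⟩, h5⟩, h6⟩, h7⟩ := h
  refine ⟨h1, fun y hy => h2 y hy, h3, h4, fun i hi j hj => h5 i hi j hj, h6, fun n hn hk => ?_⟩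
  rcases h7 n hn with hno | ⟨y, hy, he⟩
  · exact absurd hk (by simpa [Bool.or_eq_true, beq_iff] using hno)
  · exact he ▸ hy

theorem getD_mem {i : ℕ} (hi : i < 16) : d.A.getD i 0 ∈ d.A := by
  rw [List.getD_eq_getElem?_getD, List.getElem?_eq_getElem (by rw [(sub_spec hA).1]; exact hi), Option.getD_some]
  exact List.getElem_mem _

theorem exists_index {y : ℕ} (hy : y ∈ d.A) : ∃ i < 16, d.A.getD i 0 = y := by
  obtain ⟨i, hi, rfl⟩ := List.getElem_of_mem hy
  exact ⟨i, (sub_spec hA).1 ▸ hi, by rw [List.getD_eq_getElem?_getD, List.getElem?_eq_getElem hi, Option.getD_some]⟩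

theorem valid_el {i : ℕ} (hi : i < 16) : valid (d.A.getD i 0) = true :=
  ((sub_spec hA).2.1 _ (getD_mem hA hi)).1

theorem el_mul {i j : ℕ} (hi : i < 16) (hj : j < 16) : el S d i * el S d j = el S d (Nat.xor i j) := by
  rw [el, el, el, ← S.mul (valid_el hA hi) (valid_el hA hj), ((sub_spec hA).2.2.2.2.1 i hi j hj).1]

theorem el_inj {i j : ℕ} (hi : i < 16) (hj : j < 16) (h : el S d i = el S d j) : i = j :=
  ((sub_spec hA).2.2.2.2.1 i hi j hj).2.resolve_right fun hne => hne (S.inj (valid_el hA hi) (valid_el hA hj) h)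

theorem el_zero : el S d 0 = 1 := by rw [el, (sub_spec hA).2.2.1, S.map_one]

theorem el_one : el S d 1 = S.z := by rw [el, (sub_spec hA).2.2.2.1, S.map_z]

theorem el_comm {i j : ℕ} (hi : i < 16) (hj : j < 16) : el S d i * el S d j = el S d j * el S d i := by
  rw [el_mul hA hi hj, el_mul hA hj hi, show Nat.xor i j = Nat.xor j i from Nat.xor_comm i j]

include hs

theorem block_iff {y : G} : Block S y ↔ ∃ i < 16, i ≠ 0 ∧ el S d i = y := by
  constructor
  · rintro ⟨hc, hcomm⟩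
    obtain ⟨g, hg⟩ := isConj_iff.1 hc
    have hz := pow_orderOf_eq_one S.z
    rw [S.hz, pow_two] at hz
    have h2 : y * y = 1 := by
      rw [← hg, show ∀ a b : G, a * b * a⁻¹ * (a * b * a⁻¹) = a * (b * b) * a⁻¹ from fun a b => by group, hz]; group
    have h1 : y ≠ 1 := fun e => by
      have hz1 : S.z = 1 := isConj_one_left.1 (e ▸ hc.symm).symm
      have := S.hz
      simp_all
    obtain ⟨n, hn, rfl⟩ := S.exists_entry (Subgroup.mem_centralizer_singleton_iff.2 hcomm) h2 h1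
    have hk := (hs _ (Setup.entry_valid hn).2.2.1).1 ((S.isConj_ι_iff hn).1 hc)
    obtain ⟨i, hi, hie⟩ := exists_index hA ((sub_spec hA).2.2.2.2.2.2 n hn hk)
    refine ⟨i, hi, fun e => h1 ?_, congrArg S.ι hie⟩
    rw [← el_zero hA (S := S), ← e, el, hie]
  · rintro ⟨i, hi, h0, rfl⟩
    refine ⟨?_, by rw [← el_one hA (S := S), el_comm hA hi (by norm_num)]⟩
    rcases ((sub_spec hA).2.2.2.2.2.1 i hi).resolve_left h0 with h | h <;>
      obtain ⟨n, hn, he, hk⟩ := Setup.classIs_spec h <;>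
      rw [el, ← he, S.isConj_ι_iff hn, hs _ (Setup.entry_valid hn).2.2.1, hk] <;> simp

theorem block_comm {x y : G} (hx : Block S x) (hy : Block S y) : x * y = y * x := by
  obtain ⟨i, hi, -, rfl⟩ := (block_iff hA hs).1 hx
  obtain ⟨j, hj, -, rfl⟩ := (block_iff hA hs).1 hy
  exact el_comm hA hi hj

theorem block_mul {x y : G} (hx : Block S x) (hy : Block S y) (h : x * y ≠ 1) : Block S (x * y) := by
  obtain ⟨i, hi, -, rfl⟩ := (block_iff hA hs).1 hx
  obtain ⟨j, hj, -, rfl⟩ := (block_iff hA hs).1 hy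
  refine (block_iff hA hs).2 ⟨_, Nat.xor_lt_two_pow (n := 4) hi hj, fun e => h ?_, (el_mul hA hi hj).symm⟩
  rw [el_mul hA hi hj, show Nat.xor i j = 0 from e, el_zero hA]

theorem comm_trans {x y w : G} (hx : IsConj S.z x) (hy : IsConj S.z y) (hw : IsConj S.z w) (hxy : x * y = y * x)
    (hyw : y * w = w * y) : x * w = w * x := by
  obtain ⟨g, hg⟩ := isConj_iff.1 hy
  have key : ∀ u, IsConj S.z u → u * y = y * u → Block S (g⁻¹ * u * g) := fun u hu hc =>
    ⟨hu.trans (isConj_iff.2 ⟨g⁻¹, by group⟩), by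
      calc g⁻¹ * u * g * S.z = g⁻¹ * (u * (g * S.z * g⁻¹)) * g := by group
        _ = g⁻¹ * ((g * S.z * g⁻¹) * u) * g := by rw [hg, hc]
        _ = S.z * (g⁻¹ * u * g) := by group⟩
  have h := block_comm hA hs (key x hx hxy) (key w hw hyw.symm)
  calc x * w = g * ((g⁻¹ * x * g) * (g⁻¹ * w * g)) * g⁻¹ := by group
    _ = g * ((g⁻¹ * w * g) * (g⁻¹ * x * g)) * g⁻¹ := by rw [h]
    _ = w * x := by group

theorem block_of_comm {x w : G} (hx : Block S x) (hw : IsConj S.z w) (h : w * x = x * w) : Block S w :=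
  ⟨hw, comm_trans hA hs hw hx.1 (IsConj.refl _) h hx.2⟩

/-- The stabiliser of the block. -/
def stab (S : Setup G) (d : OneData) (_hA : d.subOK = true) (_hs : ∀ k < 8, S.InS k ↔ k = 3 ∨ k = d.k) :
    Subgroup G where
  carrier := {g | ∀ y, Block S y ↔ Block S (g * y * g⁻¹)}
  one_mem' := fun y => by simp
  mul_mem' := fun {a b} ha hb y => by
    rw [hb y, ha (b * y * b⁻¹)]
    exact iff_of_eq (congrArg _ (by group))
  inv_mem' := fun {a} ha y => by
    rw [ha (a⁻¹ * y * a⁻¹⁻¹)]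
    exact iff_of_eq (congrArg _ (by group))

local notation "M" => stab S d hA hs

theorem block_z : Block S S.z := ⟨IsConj.refl _, rfl⟩

theorem mem_stab_of {g x : G} (hx : Block S x) (hg : Block S (g * x * g⁻¹)) : g ∈ M := by
  intro y
  have hcy : ∀ {u : G}, IsConj S.z u → IsConj S.z (g * u * g⁻¹) := fun hu =>
    hu.trans (isConj_iff.2 ⟨g, rfl⟩)
  constructor
  · intro hy
    refine block_of_comm hA hs hg (hcy hy.1) ?_
    calc g * y * g⁻¹ * (g * x * g⁻¹) = g * (y * x) * g⁻¹ := by group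
      _ = g * (x * y) * g⁻¹ := by rw [block_comm hA hs hy hx]
      _ = g * x * g⁻¹ * (g * y * g⁻¹) := by group
  · intro hy
    refine block_of_comm hA hs hx (hy.1.trans (isConj_iff.2 ⟨g⁻¹, by group⟩)) ?_
    calc y * x = g⁻¹ * ((g * y * g⁻¹) * (g * x * g⁻¹)) * g := by group
      _ = g⁻¹ * ((g * x * g⁻¹) * (g * y * g⁻¹)) * g := by rw [block_comm hA hs hy hg]
      _ = x * y := by group

theorem cent_le_stab {g : G} (hg : g * S.z = S.z * g) : g ∈ M :=
  mem_stab_of hA hs (block_z hA hs) (by rw [hg, mul_inv_cancel_right]; exact block_z hA hs)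

theorem block_mem_stab {y : G} (hy : Block S y) : y ∈ M := cent_le_stab hA hs hy.2

theorem block_of_fused {u : G} (huM : u ∈ M) (hu : IsConj S.z u) : Block S u := by
  classical
  obtain ⟨g, hg⟩ := isConj_iff.1 hu
  have hz := pow_orderOf_eq_one S.z
  rw [S.hz, pow_two] at hz
  have h2 : u * u = 1 := by
    rw [← hg, show ∀ a b : G, a * b * a⁻¹ * (a * b * a⁻¹) = a * (b * b) * a⁻¹ from fun a b => by group, hz]; group
  let T : Finset G := ((Finset.range 16).filter (· ≠ 0)).image (el S d)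
  have hT : ∀ y, y ∈ T ↔ Block S y := fun y => by
    simp only [T, Finset.mem_image, Finset.mem_filter, Finset.mem_range, block_iff hA hs, and_assoc]
  have hcard : T.card = 15 := by
    rw [Finset.card_image_of_injOn fun i hi j hj h => ?_]
    · decide
    exact el_inj hA (Finset.mem_range.1 (Finset.mem_filter.1 hi).1) (Finset.mem_range.1 (Finset.mem_filter.1 hj).1) h
  let σ : Equiv.Perm T :=
    { toFun := fun y => ⟨u * y.1 * u⁻¹, (hT _).2 ((huM y.1).1 ((hT _).1 y.2))⟩
      invFun := fun y => ⟨u * y.1 * u⁻¹, (hT _).2 ((huM y.1).1 ((hT _).1 y.2))⟩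
      left_inv := fun y => Subtype.ext (by
        show u * (u * y.1 * u⁻¹) * u⁻¹ = y.1
        rw [show u * (u * y.1 * u⁻¹) * u⁻¹ = u * u * y.1 * (u * u)⁻¹ by group, h2]; group)
      right_inv := fun y => Subtype.ext (by
        show u * (u * y.1 * u⁻¹) * u⁻¹ = y.1
        rw [show u * (u * y.1 * u⁻¹) * u⁻¹ = u * u * y.1 * (u * u)⁻¹ by group, h2]; group) }
  haveI : Fact (Nat.Prime 2) := ⟨Nat.prime_two⟩
  obtain ⟨y, hy⟩ := Equiv.Perm.exists_fixed_point_of_prime (p := 2) (n := 1)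
    (by rw [Fintype.card_coe, hcard]; decide) (σ := σ) (by
      refine Equiv.ext fun y => ?_
      rw [pow_one, pow_two, Equiv.Perm.mul_apply]
      exact σ.left_inv y)
  exact block_of_comm hA hs ((hT _).1 y.2) hu (mul_inv_eq_iff_eq_mul.1 (congrArg Subtype.val hy))

theorem conj_of_out {x u : G} (hx : Block S x) (hu : IsConj S.z u) (hout : ¬ Block S u) :
    ∃ e : ℕ, (x * u) ^ e * x * ((x * u) ^ e)⁻¹ = u := by
  have hsq : ∀ y, IsConj S.z y → y * y = 1 := fun y hy => by
    obtain ⟨g, rfl⟩ := isConj_iff.1 hy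
    have hz := pow_orderOf_eq_one S.z
    rw [S.hz, pow_two] at hz
    rw [show ∀ a b : G, a * b * a⁻¹ * (a * b * a⁻¹) = a * (b * b) * a⁻¹ from fun a b => by group, hz]; group
  rcases dihedral_cases (hsq x hx.1) (hsq u hu) with h | ⟨i, hi1, hi2, hix, hiu, -, hcase⟩
  · exact h
  exfalso
  have hxi : IsConj S.z (x * i) := by
    rcases hcase with ⟨e, he⟩ | ⟨⟨e, he⟩, -⟩
    · exact hu.trans (isConj_iff.2 ⟨_, he⟩).symm
    · exact hx.1.trans (isConj_iff.2 ⟨_, he⟩)
  have hb : Block S (x * i) := block_of_comm hA hs hx hxi (by rw [mul_assoc, ← hix])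
  have hib : Block S i := by
    have h1 : x * (x * i) = i := by rw [← mul_assoc, hsq x hx.1, one_mul]
    exact h1 ▸ block_mul hA hs hx hb (by rw [h1]; exact hi1)
  exact hout (block_of_comm hA hs hib hu hiu.symm)

theorem cent_le_of_axis {a c x : G} (hc : Block S c) (hx : Block S x) (hne : x ≠ c) (hca : c * a = a * c)
    (hxa : x * a = a * x) (hfix : ∀ m ∈ M, m * a = a * m → m * c * m⁻¹ = c) {h : G} (hh : h * a = a * h) :
    h ∈ M := by
  by_contra hout
  set u := h * c * h⁻¹ with hu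
  have hub : ¬ Block S u := fun hb => hout (mem_stab_of hA hs hc hb)
  have huz : IsConj S.z u := hc.1.trans (isConj_iff.2 ⟨h, rfl⟩)
  obtain ⟨e, he⟩ := conj_of_out hA hs hx huz hub
  set m := h⁻¹ * (x * u) ^ e with hm
  have hmx : m * x * m⁻¹ = c := by
    calc m * x * m⁻¹ = h⁻¹ * ((x * u) ^ e * x * ((x * u) ^ e)⁻¹) * h := by rw [hm]; group
      _ = c := by rw [he, hu]; group
  have hmM : m ∈ M := mem_stab_of hA hs hx (hmx ▸ hc)
  have hua : Commute u a := by
    have h' : Commute h a := hh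
    rw [hu]
    exact (h'.mul_left hca).mul_left h'.inv_left
  have hma : Commute m a := (Commute.inv_left hh).mul_left ((Commute.mul_left hxa hua).pow_left e)
  have := hfix m hmM hma
  have h2 : x = c := by
    calc x = m⁻¹ * (m * x * m⁻¹) * m := by group
      _ = m⁻¹ * (m * c * m⁻¹) * m := by rw [hmx, this]
      _ = c := by group
  exact hne h2

theorem stab_eq_top (hax : d.axisOK = true) : M = ⊤ := by
  simp only [axisOK, Bool.and_eq_true, List.all_eq_true, List.any_eq_true, Bool.or_eq_true, beq_iff,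
    Bool.not_eq_true', Bool.eq_false_iff, ne_eq] at hax
  obtain ⟨⟨⟨⟨⟨⟨⟨⟨⟨⟨⟨⟨⟨hav, hcl⟩, hk3⟩, hkk⟩, hk8⟩, hall⟩, ⟨w0, hw0, hw0e⟩⟩, hc1⟩, hx1⟩, hxc⟩, hcA⟩, hxA⟩, hca⟩, hxa⟩ := hax
  obtain ⟨cy, hcy, hcye⟩ := hcA
  obtain ⟨xy, hxy, hxye⟩ := hxA
  obtain ⟨ic, hic, hice⟩ := exists_index hA (hcye ▸ hcy)
  obtain ⟨ix, hix, hixe⟩ := exists_index hA (hxye ▸ hxy)
  have hcv : valid d.c = true := hice ▸ valid_el hA hic
  have hxv : valid d.x = true := hixe ▸ valid_el hA hix
  have hic0 : ic ≠ 0 := fun e => hc1 (by rw [← hice, e, (sub_spec hA).2.2.1])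
  have hix0 : ix ≠ 0 := fun e => hx1 (by rw [← hixe, e, (sub_spec hA).2.2.1])
  have hbc : Block S (S.ι d.c) := (block_iff hA hs).2 ⟨ic, hic, hic0, congrArg S.ι hice⟩
  have hbx : Block S (S.ι d.x) := (block_iff hA hs).2 ⟨ix, hix, hix0, congrArg S.ι hixe⟩
  obtain ⟨n, hn, hne, hnk⟩ := Setup.classIs_spec hcl
  have ha2 : S.ι d.a * S.ι d.a = 1 := hne ▸ (S.ι_sq hn).1
  have hka8 : d.ka < 8 := hnk ▸ (Setup.entry_valid hn).2.2.1
  have hanf : ¬ IsConj S.z (S.ι d.a) := by
    rw [← hne, S.isConj_ι_iff hn, hnk, hs _ hka8]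
    exact fun h => h.elim hk3 hkk
  have haM : S.ι d.a ∈ M := cent_le_stab hA hs (Subgroup.mem_centralizer_singleton_iff.1 (S.mem hav))
  set a := S.ι d.a with hadef
  have hcomm1 : ∀ w : G, Block S w → w * a * (w * a) = 1 ∨ w * a * (w * a) = S.ι d.c := by
    intro w hw
    obtain ⟨i, hi, -, rfl⟩ := (block_iff hA hs).1 hw
    have hv := valid_mulC (valid_el hA hi) hav
    have h := hall _ (getD_mem hA hi)
    rcases h with h | h
    · left
      rw [el, hadef, ← S.mul (valid_el hA hi) hav, ← S.mul hv hv, h, S.map_one]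
    · right
      rw [el, hadef, ← S.mul (valid_el hA hi) hav, ← S.mul hv hv, h]
  obtain ⟨j, hj, hje⟩ := exists_index hA hw0
  have hj0 : j ≠ 0 := fun e => by
    rw [← hje, e, (sub_spec hA).2.2.1] at hw0e
    refine hc1 (S.inj hcv valid_oneC ?_)
    rw [← hw0e, S.mul (valid_mulC valid_oneC hav) (valid_mulC valid_oneC hav), S.mul valid_oneC hav, S.map_one,
      one_mul, ← hadef, ha2]
  have hbw : Block S (S.ι w0) := (block_iff hA hs).2 ⟨j, hj, hj0, congrArg S.ι hje⟩
  have hw0v : valid w0 = true := hje ▸ valid_el hA hj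
  have hw0c : S.ι w0 * a * (S.ι w0 * a) = S.ι d.c := by
    rw [hadef, ← S.mul hw0v hav, ← S.mul (valid_mulC hw0v hav) (valid_mulC hw0v hav), hw0e]
  have hc1' : S.ι d.c ≠ 1 := fun e => hc1 (S.inj hcv valid_oneC (e.trans S.map_one.symm))
  have hfix : ∀ b : G, (∀ w, Block S w → w * b * (w * b) = w * a * (w * a)) →
      ∀ m ∈ M, m * b = b * m → m * S.ι d.c * m⁻¹ = S.ι d.c := by
    intro b hb m hm hmb
    have h1 : m * S.ι d.c * m⁻¹ = m * S.ι w0 * m⁻¹ * a * (m * S.ι w0 * m⁻¹ * a) := by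
      rw [← hb _ ((hm _).1 hbw), ← hw0c, ← hb _ hbw]
      calc m * (S.ι w0 * b * (S.ι w0 * b)) * m⁻¹
          = m * S.ι w0 * m⁻¹ * (m * b * m⁻¹) * (m * S.ι w0 * m⁻¹ * (m * b * m⁻¹)) := by group
        _ = _ := by rw [hmb, mul_inv_cancel_right]
    rcases hcomm1 _ ((hm _).1 hbw) with h | h
    · rw [h] at h1
      exact absurd (by simpa using h1) hc1'
    · rw [h1, h]
  have hcc : S.ι d.c * a = a * S.ι d.c := by rw [hadef, ← S.mul hcv hav, hca, S.mul hav hcv]
  have hxx : S.ι d.x * a = a * S.ι d.x := by rw [hadef, ← S.mul hxv hav, hxa, S.mul hav hxv]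
  have hxc' : S.ι d.x ≠ S.ι d.c := fun e => hxc (S.inj hxv hcv e)
  have haxis : ∀ {h : G}, h * a = a * h → h ∈ M := fun hh =>
    cent_le_of_axis hA hs hbc hbx hxc' hcc hxx (hfix a fun w _ => rfl) hh
  refine (Subgroup.eq_top_iff' _).2 fun g => ?_
  by_contra hg
  set u := g * S.z * g⁻¹ with hudef
  have huz : IsConj S.z u := isConj_iff.2 ⟨g, rfl⟩
  have hub : ¬ Block S u := fun hb => hg (mem_stab_of hA hs (block_z hA hs) hb)
  have hzsq := pow_orderOf_eq_one S.z
  rw [S.hz, pow_two] at hzsq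
  have hu2 : u * u = 1 := by
    rw [hudef, show ∀ p q : G, p * q * p⁻¹ * (p * q * p⁻¹) = p * (q * q) * p⁻¹ from fun p q => by group, hzsq]; group
  rcases dihedral_cases ha2 hu2 with ⟨e, he⟩ | ⟨i, hi1, hi2, hia, hiu, -, hcase⟩
  · exact hanf (huz.trans (isConj_iff.2 ⟨_, he⟩).symm)
  have hiM : i ∈ M := haxis hia
  rcases hcase with ⟨e, he⟩ | ⟨-, e, he⟩
  · -- `a * i` is fused
    have hbai : Block S (a * i) := block_of_fused hA hs (mul_mem haM hiM) (huz.trans (isConj_iff.2 ⟨_, he⟩).symm)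
    set w := a * i with hwdef
    have hwa : w * a = a * w := by rw [hwdef, mul_assoc, hia]
    have hiw : i = a * w := by rw [hwdef, ← mul_assoc, ha2, one_mul]
    have hb : ∀ v, Block S v → v * i * (v * i) = v * a * (v * a) := by
      intro v hv
      have hw2 : w * w = 1 := by
        rw [hwdef, show a * i * (a * i) = a * (i * a) * i by group, hia,
          show a * (a * i) * i = a * a * (i * i) by group, ha2, hi2, one_mul]
      rw [hiw]
      calc v * (a * w) * (v * (a * w)) = v * a * (w * v) * (a * w) := by group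
        _ = v * a * (v * w) * (a * w) := by rw [block_comm hA hs hbai hv]
        _ = v * a * v * (w * a) * w := by group
        _ = v * a * v * (a * w) * w := by rw [hwa]
        _ = v * a * (v * a) * (w * w) := by group
        _ = v * a * (v * a) := by rw [hw2, mul_one]
    have hci : S.ι d.c * i = i * S.ι d.c := by
      have h' : Commute (S.ι d.c) (a * w) := Commute.mul_right hcc (block_comm hA hs hbc hbai)
      rw [← hiw] at h'
      exact h'
    have hxi : S.ι d.x * i = i * S.ι d.x := by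
      have h' : Commute (S.ι d.x) (a * w) := Commute.mul_right hxx (block_comm hA hs hbx hbai)
      rw [← hiw] at h'
      exact h'
    exact hub (block_of_fused hA hs (cent_le_of_axis hA hs hbc hbx hxc' hci hxi (hfix i hb) hiu.symm) huz)
  · -- `i` is fused
    obtain ⟨k, hk⟩ := isConj_iff.1 huz
    have hui : IsConj S.z (u * i) := huz.trans (isConj_iff.2 ⟨_, he⟩)
    have hib : Block S (k⁻¹ * (u * i) * k) := ⟨hui.trans (isConj_iff.2 ⟨k⁻¹, by group⟩), by
      calc k⁻¹ * (u * i) * k * S.z = k⁻¹ * (u * (i * (k * S.z * k⁻¹))) * k := by group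
        _ = k⁻¹ * (u * (u * i)) * k := by rw [hk, hiu]
        _ = k⁻¹ * (k * S.z * k⁻¹ * (u * i)) * k := by rw [hk]
        _ = S.z * (k⁻¹ * (u * i) * k) := by group⟩
    have hne' : S.z * (k⁻¹ * (u * i) * k) ≠ 1 := fun e1 => hi1 (by
      calc i = k * (S.z * (k⁻¹ * (u * i) * k)) * k⁻¹ := by
            rw [show k * (S.z * (k⁻¹ * (u * i) * k)) * k⁻¹ = k * S.z * k⁻¹ * (u * i) by group, hk, ← mul_assoc, hu2,
              one_mul]
        _ = 1 := by rw [e1]; group)
    have hfi : IsConj S.z i := (block_mul hA hs (block_z hA hs) hib hne').1.trans (isConj_iff.2 ⟨k, by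
      rw [show k * (S.z * (k⁻¹ * (u * i) * k)) * k⁻¹ = k * S.z * k⁻¹ * (u * i) by group, hk, ← mul_assoc, hu2,
        one_mul]⟩)
    exact hub (block_of_comm hA hs (block_of_fused hA hs hiM hfi) huz hiu.symm)

end OneData

end Cfsg.Lib.HeldType
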