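import Cfsg.Agent.Lib.HeldType.Top

/-!
# One further fused class: data and checks
-/

set_option autoImplicit false
set_option maxRecDepth 100000

namespace Cfsg.Lib.HeldType

/-- The data of a case with one further fused class. -/
structure OneData where
  /-- the class fused besides that of `z` -/
  k : ℕ
  /-- the elementary subgroup, indexed compatibly with the exclusive or -/
  A : List ℕ
  /-- an involution acting on it as a transvection -/
  a : ℕ
  /-- its class -/
  ka : ℕ
  /-- its commutator -/
  c : ℕ
  /-- another element centralised by it -/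
  x : ℕ
  /-- a complement of the elementary subgroup in the Sylow subgroup -/
  K : List ℕ

/-- The elementary subgroup is as claimed. -/
def OneData.subOK (d : OneData) : Bool :=
  Nat.beq d.A.length 16 && d.A.all (fun y => valid y && Nat.testBit tMask y) && Nat.beq (d.A.getD 0 0) oneC &&
    Nat.beq (d.A.getD 1 0) zC &&
    ((List.range 16).all fun i => (List.range 16).all fun j =>
      Nat.beq (mulC (d.A.getD i 0) (d.A.getD j 0)) (d.A.getD (Nat.xor i j) 0) &&
        (Nat.beq i j || !Nat.beq (d.A.getD i 0) (d.A.getD j 0))) &&
    ((List.range 16).all fun i =>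
      Nat.beq i 0 || classIs (d.A.getD i 0) 3 || classIs (d.A.getD i 0) d.k) &&
    invList.all fun n => !(Nat.beq (entK n) 3 || Nat.beq (entK n) d.k) || d.A.any (Nat.beq (entX n))

/-- The elementary subgroup is its own centraliser. -/
def OneData.centOK (d : OneData) : Bool :=
  allC.all fun y => !([1, 2, 4, 8].all fun i => Nat.beq (mulC y (d.A.getD i 0)) (mulC (d.A.getD i 0) y)) ||
    d.A.any (Nat.beq y)

/-- The transvection is as claimed. -/
def OneData.axisOK (d : OneData) : Bool :=
  valid d.a && classIs d.a d.ka && !Nat.beq d.ka 3 && !Nat.beq d.ka d.k && Nat.blt d.k 8 &&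
    d.A.all (fun w => let v := mulC (mulC w d.a) (mulC w d.a); Nat.beq v oneC || Nat.beq v d.c) &&
    d.A.any (fun w => Nat.beq (mulC (mulC w d.a) (mulC w d.a)) d.c) &&
    !Nat.beq d.c oneC && !Nat.beq d.x oneC && !Nat.beq d.x d.c && d.A.any (Nat.beq d.c) && d.A.any (Nat.beq d.x) &&
    Nat.beq (mulC d.c d.a) (mulC d.a d.c) && Nat.beq (mulC d.x d.a) (mulC d.a d.x)

/-- The complement is as claimed. -/
def OneData.complOK (d : OneData) : Bool :=
  Nat.beq d.K.length 64 && d.K.all (fun y => valid y && Nat.testBit tMask y) && d.K.any (Nat.beq oneC) &&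
    d.K.all (fun y => Nat.beq y oneC || !d.A.any (Nat.beq y)) &&
    d.K.all (fun y => d.K.all fun w => d.K.any (Nat.beq (mulC y w))) &&
    (List.range 64).all fun i => (List.range 64).all fun j => Nat.beq i j || !Nat.beq (d.K.getD i 0) (d.K.getD j 0)

/-- The case of the class `0`. -/
def oneZero : OneData := ⟨0, [34944, 34945, 34960, 34961, 34976, 34977, 34992, 34993, 35008, 35009, 35024, 35025, 35040, 35041, 35056, 35057], 43136, 1, 35008, 35009,
  [34944, 34947, 34984, 34987, 35013, 35014, 35052, 35055, 35976, 35979, 36000, 36003, 36044, 36047, 36069, 36070, 43141, 43142, 43180, 43183, 43200, 43203, 43240, 43243, 44172, 44175, 44197, 44198, 44232, 44235, 44256, 44259, 51328, 51331, 51372, 51375, 51397, 51398, 51432, 51435, 52364, 52367, 52384, 52387, 52424, 52427, 52453, 52454, 59525, 59526, 59560, 59563, 59584, 59587, 59628, 59631, 60552, 60555, 60581, 60582, 60620, 60623, 60640, 60643]⟩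

theorem oneZero_sub : oneZero.subOK = true := by decide +kernel

theorem oneZero_cent : oneZero.centOK = true := by decide +kernel

theorem oneZero_axis : oneZero.axisOK = true := by decide +kernel

theorem oneZero_compl : oneZero.complOK = true := by decide +kernel

/-- The case of the class `5`. -/
def oneFive : OneData := ⟨5, [34944, 34945, 34946, 34947, 34948, 34949, 34950, 34951, 34952, 34953, 34954, 34955, 34956, 34957, 34958, 34959], 35008, 0, 34945, 34946,
  [34944, 34964, 34978, 34999, 35009, 35029, 35043, 35062, 35971, 35989, 36001, 36022, 36034, 36052, 36064, 36087, 43138, 43158, 43168, 43189, 43203, 43223, 43233, 43252, 44161, 44183, 44195, 44212, 44224, 44246, 44258, 44277, 51332, 51344, 51366, 51379, 51397, 51409, 51431, 51442, 52359, 52369, 52389, 52402, 52422, 52432, 52452, 52467, 59526, 59538, 59556, 59569, 59591, 59603, 59621, 59632, 60549, 60563, 60583, 60592, 60612, 60626, 60646, 60657]⟩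

theorem oneFive_sub : oneFive.subOK = true := by decide +kernel

theorem oneFive_cent : oneFive.centOK = true := by decide +kernel

theorem oneFive_axis : oneFive.axisOK = true := by decide +kernel

theorem oneFive_compl : oneFive.complOK = true := by decide +kernel

end Cfsg.Lib.HeldType
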