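import Cfsg.Agent.Lib.HeldType.Split
import Cfsg.Agent.Lib.HeldType.Amalgam.Data

/-!
# Computing in a split normaliser, and evaluating relators
-/

set_option autoImplicit false
set_option maxRecDepth 100000
set_option linter.style.haveILetI false
set_option linter.unusedSectionVars false

namespace Cfsg.Lib.HeldType

open Amalgam (wv codes)

attribute [local irreducible] tList invList tMask invMask decA decB allC

/-- The product in coordinates. -/
def pmul (p q : ℕ × List ℕ) : ℕ × List ℕ := (Nat.xor p.1 (apA p.2 q.1), compA p.2 q.2)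

/-- The identity pair. -/
def pone : ℕ × List ℕ := (0, idA)

/-- A pair from the model. -/
def pairOK (D : Side) (s : ℕ → Bool) (p : ℕ × List ℕ) : Bool := Nat.blt p.1 64 && stabOK D.cls s p.2

/-- The code `x` is the pair `p`, whose map is given by the word `w`. -/
def codePairOK (D : Side) (gl : List ℕ) (x : ℕ) (p : ℕ × List ℕ) (w : List ℕ) : Bool :=
  Nat.blt p.1 64 && w.all (fun i => Nat.blt i 2) && evalA D.hGen w == p.2 &&
    Nat.beq x (mulC (decE D.dec p.1) (evalC gl w))

/-- The data of the eight letters in one side. -/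
structure Letters where
  /-- the letters of this side -/
  dom : List ℕ
  /-- their values -/
  val : List (ℕ × List ℕ)
  /-- the words of those in the centraliser -/
  words : List (List ℕ)
  /-- the letter outside the centraliser -/
  extra : ℕ

/-- The value of a word. -/
def Letters.eval (L : Letters) (r : List ℕ) : ℕ × List ℕ := r.foldl (fun p l => pmul p (L.val.getD l pone)) pone

/-- A word in the letters of this side. -/
def Letters.inDom (L : Letters) (r : List ℕ) : Bool := r.all fun l => L.dom.any (Nat.beq l)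

/-- The letters are as claimed. -/
def Letters.check (L : Letters) (D : Side) (s : ℕ → Bool) (gl : List ℕ) : Bool :=
  gl.all valid && Nat.beq gl.length 2 && L.dom.all fun g =>
    pairOK D s (L.val.getD g pone) &&
      (Nat.beq g L.extra || (Nat.blt g 6 &&
        codePairOK D gl (codes.getD g 0) (L.val.getD g pone) (L.words.getD g [])))

/-- The value of a word in the centraliser. -/
def cEval (r : List ℕ) : ℕ := r.foldl (fun x l => mulC x (codes.getD l 0)) oneC

theorem codes_checked : ((List.range 6).all fun g => valid (codes.getD g 0)) = true := by decide +kernel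

theorem wv_concat {G : Type*} [Group G] (g : ℕ → G) (r : List ℕ) (l : ℕ) : wv g (r ++ [l]) = wv g r * g l := by
  simp [wv]

theorem wv_append {G : Type*} [Group G] (g : ℕ → G) (r w : List ℕ) : wv g (r ++ w) = wv g r * wv g w := by
  simp [wv]

namespace Setup

variable {G : Type*} [Group G] [Finite G] (S : Setup G)

theorem wv_cEval (g : ℕ → G) (hg : ∀ i < 6, g i = S.ι (codes.getD i 0)) :
    ∀ r : List ℕ, (∀ l ∈ r, l < 6) → valid (cEval r) = true ∧ wv g r = S.ι (cEval r) := by
  intro r
  induction r using List.reverseRecOn with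
  | nil => exact fun _ => ⟨valid_oneC, S.map_one.symm⟩
  | append_singleton r l ih =>
    intro hr
    obtain ⟨hv, he⟩ := ih fun a ha => hr a (List.mem_append_left _ ha)
    have hl : l < 6 := hr l (by simp)
    have hc := List.all_eq_true.1 codes_checked l (List.mem_range.2 hl)
    rw [show cEval (r ++ [l]) = mulC (cEval r) (codes.getD l 0) by simp [cEval, List.foldl_append], wv_concat, he,
      hg l hl]
    exact ⟨valid_mulC hv hc, (S.mul hv hc).symm⟩

variable {D : Side} {s : ℕ → Bool} (K : SideOK D s) (hs : ∀ k < 8, s k = true ↔ S.InS k) {gl : List ℕ}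

/-- The element of a pair. -/
def pval (D : Side) (y : List ℕ → G) (p : ℕ × List ℕ) : G := S.e D.dec p.1 * y p.2

include K hs

theorem split_one (P : Split S D s gl) : P.y idA = 1 := by
  have h := P.mul (S.stab_idA K hs) (S.stab_idA K hs)
  rw [show compA idA idA = idA by decide +kernel] at h
  exact mul_left_cancel (h.symm.trans (mul_one _).symm)

theorem pairOK_spec {p : ℕ × List ℕ} (h : pairOK D s p = true) : p.1 < 64 ∧ stabOK D.cls s p.2 = true := by
  simp only [pairOK, Bool.and_eq_true] at h
  exact ⟨Nat.le_of_ble_eq_true h.1, h.2⟩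

theorem pval_one (P : Split S D s gl) : S.pval D P.y pone = 1 := by
  show S.e D.dec 0 * P.y idA = 1
  rw [S.e_zero K.good, S.split_one K hs P, one_mul]

theorem pval_mul (P : Split S D s gl) {p q : ℕ × List ℕ} (hp : pairOK D s p = true) (hq : pairOK D s q = true) :
    pairOK D s (pmul p q) = true ∧ S.pval D P.y (pmul p q) = S.pval D P.y p * S.pval D P.y q := by
  obtain ⟨h1, h2⟩ := S.pairOK_spec K hs hp
  obtain ⟨h3, h4⟩ := S.pairOK_spec K hs hq
  have hlt := apA_lt (stabOK_spec h2).1 q.1
  refine ⟨?_, ?_⟩
  · simp only [pairOK, pmul, Bool.and_eq_true]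
    exact ⟨Nat.ble_eq_true_of_le (Nat.xor_lt_two_pow (n := 6) h1 hlt), S.stab_compA K hs h2 h4⟩
  · show S.e D.dec (Nat.xor p.1 (apA p.2 q.1)) * P.y (compA p.2 q.2) = _
    rw [← S.e_mul K.good h1 hlt, P.mul h2 h4, ← P.acts h2 q.1 h3]
    simp only [pval]
    group

theorem evalC_split (P : Split S D s gl) (hgl : gl.all valid = true) (hlen : gl.length = 2) :
    ∀ w : List ℕ, (∀ i ∈ w, i < 2) → valid (evalC gl w) = true ∧ stabOK D.cls s (evalA D.hGen w) = true ∧
      S.ι (evalC gl w) = P.y (evalA D.hGen w) := by
  intro w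
  induction w using List.reverseRecOn with
  | nil => exact fun _ => ⟨valid_oneC, S.stab_idA K hs, by rw [show evalC gl [] = oneC from rfl, S.map_one]; exact (S.split_one K hs P).symm⟩
  | append_singleton w i ih =>
    intro hw
    obtain ⟨hv, hA, he⟩ := ih fun a ha => hw a (List.mem_append_left _ ha)
    have hi : i < 2 := hw i (by simp)
    have hg : gl.getD i oneC = gl.getD i 0 := by
      rw [List.getD_eq_getElem?_getD, List.getD_eq_getElem?_getD, List.getElem?_eq_getElem (hlen.symm ▸ hi)]
      rfl
    have hgv : valid (gl.getD i oneC) = true := by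
      rw [List.getD_eq_getElem?_getD, List.getElem?_eq_getElem (hlen.symm ▸ hi), Option.getD_some]
      exact List.all_eq_true.1 hgl _ (List.getElem_mem _)
    have hAg := S.stab_hList K hs (S.hGen_mem K hs hi)
    rw [show evalC gl (w ++ [i]) = mulC (evalC gl w) (gl.getD i oneC) by simp [evalC, List.foldl_append],
      show evalA D.hGen (w ++ [i]) = compA (evalA D.hGen w) (D.hGen.getD i idA) by simp [evalA, List.foldl_append]]
    refine ⟨valid_mulC hv hgv, S.stab_compA K hs hA hAg, ?_⟩
    rw [S.mul hv hgv, he, P.mul hA hAg, P.lift i hi, hg]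

/-- A code checked against a pair. -/
theorem codePair_spec (P : Split S D s gl) (hgl : gl.all valid = true) (hlen : gl.length = 2) {x : ℕ}
    {p : ℕ × List ℕ} {w : List ℕ} (h : codePairOK D gl x p w = true) :
    valid x = true ∧ pairOK D s p = true ∧ S.pval D P.y p = S.ι x := by
  simp only [codePairOK, Bool.and_eq_true, beq_iff, beq_iff_eq, List.all_eq_true] at h
  obtain ⟨⟨⟨h1, h2⟩, h3⟩, h4⟩ := h
  have h1' : p.1 < 64 := Nat.le_of_ble_eq_true h1
  obtain ⟨hv, hA, he⟩ := S.evalC_split K hs P hgl hlen w fun i hi => Nat.le_of_ble_eq_true (h2 i hi)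
  have hd := (K.good.valid_mem (K.good.mem_of_lt h1')).1
  refine ⟨h4 ▸ valid_mulC hd hv, ?_, ?_⟩
  · simp only [pairOK, Bool.and_eq_true]
    exact ⟨Nat.ble_eq_true_of_le h1', h3 ▸ hA⟩
  · show S.e D.dec p.1 * P.y p.2 = _
    rw [h4, S.mul hd hv, he, h3]
    rfl

/-- The letters in the normaliser. -/
theorem wv_eval (P : Split S D s gl) {L : Letters} (hL : L.check D s gl = true) (g : ℕ → G)
    (hg : ∀ i < 6, g i = S.ι (codes.getD i 0)) (hx : g L.extra = S.pval D P.y (L.val.getD L.extra pone)) :
    ∀ r : List ℕ, L.inDom r = true → pairOK D s (L.eval r) = true ∧ wv g r = S.pval D P.y (L.eval r) := by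
  simp only [Letters.check, Bool.and_eq_true, beq_iff, List.all_eq_true, Bool.or_eq_true] at hL
  obtain ⟨⟨hglv, hlen⟩, hdom⟩ := hL
  intro r
  induction r using List.reverseRecOn with
  | nil =>
    intro _
    refine ⟨?_, (S.pval_one K hs P).symm⟩
    simp only [Letters.eval, List.foldl_nil, pairOK, pone, Bool.and_eq_true]
    exact ⟨rfl, S.stab_idA K hs⟩
  | append_singleton r l ih =>
    intro hr
    simp only [Letters.inDom, List.all_append, List.all_cons, List.all_nil, Bool.and_true, Bool.and_eq_true,
      List.any_eq_true, beq_iff] at hr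
    obtain ⟨hv, he⟩ := ih hr.1
    obtain ⟨d, hd, rfl⟩ := hr.2
    obtain ⟨hp, hor⟩ := hdom l hd
    have hgd : g l = S.pval D P.y (L.val.getD l pone) := by
      rcases hor with h | ⟨h6, h⟩
      · subst h; exact hx
      · rw [hg l (Nat.le_of_ble_eq_true h6)]
        exact ((S.codePair_spec K hs P (List.all_eq_true.2 hglv) hlen h).2.2).symm
    rw [show L.eval (r ++ [l]) = pmul (L.eval r) (L.val.getD l pone) by simp [Letters.eval, List.foldl_append],
      wv_concat, he, hgd]
    exact ⟨(S.pval_mul K hs P hv hp).1, (S.pval_mul K hs P hv hp).2.symm⟩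

end Setup

/-- Every relator is one in the centraliser or in one of the two sides. -/
def relatorsOK (LA LB : Letters) (rels : List (List ℕ)) : Bool :=
  rels.all fun r => (r.all (fun l => Nat.blt l 6) && Nat.beq (cEval r) oneC) ||
    (LA.inDom r && LA.eval r == pone) || (LB.inDom r && LB.eval r == pone)

namespace Setup

variable {G : Type*} [Group G] [Finite G] (S : Setup G) {DA DB : Side} {s : ℕ → Bool}

theorem relators_hold (KA : SideOK DA s) (KB : SideOK DB s) (hs : ∀ k < 8, s k = true ↔ S.InS k) {glA glB : List ℕ}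
    (PA : Split S DA s glA) (PB : Split S DB s glB) {LA LB : Letters} (hA : LA.check DA s glA = true)
    (hB : LB.check DB s glB = true) (g : ℕ → G) (hg : ∀ i < 6, g i = S.ι (codes.getD i 0))
    (hxA : g LA.extra = S.pval DA PA.y (LA.val.getD LA.extra pone))
    (hxB : g LB.extra = S.pval DB PB.y (LB.val.getD LB.extra pone)) {rels : List (List ℕ)}
    (h : relatorsOK LA LB rels = true) : ∀ r ∈ rels, wv g r = 1 := by
  intro r hr
  have h' := List.all_eq_true.1 h r hr
  simp only [Bool.or_eq_true, Bool.and_eq_true, beq_iff, beq_iff_eq, List.all_eq_true] at h'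
  rcases h' with (⟨h1, h2⟩ | ⟨h1, h2⟩) | ⟨h1, h2⟩
  · rw [(S.wv_cEval g hg r fun l hl => Nat.le_of_ble_eq_true (h1 l hl)).2, h2, S.map_one]
  · rw [(S.wv_eval KA hs PA hA g hg hxA r h1).2, h2, S.pval_one KA hs PA]
  · rw [(S.wv_eval KB hs PB hB g hg hxB r h1).2, h2, S.pval_one KB hs PB]

end Setup

end Cfsg.Lib.HeldType
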