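import Cfsg.Agent.Lib.HeldType.Normal
import Cfsg.Agent.Lib.Solv.GaschutzAbelian

/-!
# The normaliser of an elementary subgroup splits over it, in one of the listed ways
-/

set_option autoImplicit false
set_option maxRecDepth 100000
set_option linter.style.haveILetI false
set_option linter.unusedSectionVars false

namespace Cfsg.Lib.HeldType

attribute [local irreducible] tList invList tMask invMask decA decB allC

/-- A homomorphic section of the action, with given lifts of the two generators. -/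
structure Split {G : Type*} [Group G] (S : Setup G) (D : Side) (s : ℕ → Bool) (gl : List ℕ) where
  /-- the section -/
  y : List ℕ → G
  acts : ∀ {A : List ℕ}, stabOK D.cls s A = true → S.Acts D (y A) A
  mul : ∀ {A B : List ℕ}, stabOK D.cls s A = true → stabOK D.cls s B = true → y (compA A B) = y A * y B
  lift : ∀ k < 2, y (D.hGen.getD k idA) = S.ι (gl.getD k 0)

namespace Setup

variable {G : Type*} [Group G] [Finite G] (S : Setup G) {D : Side} {s : ℕ → Bool} (K : SideOK D s)
  (hs : ∀ k < 8, s k = true ↔ S.InS k)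
include K hs

theorem stab_compA {A B : List ℕ} (hA : stabOK D.cls s A = true) (hB : stabOK D.cls s B = true) :
    stabOK D.cls s (compA A B) = true := by
  obtain ⟨n, -, hn⟩ := S.exists_of_stab K hs hA
  obtain ⟨m, -, hm⟩ := S.exists_of_stab K hs hB
  exact S.stab_of_acts K hs (isMat_compA (stabOK_spec hA).1 (stabOK_spec hB).1)
    (S.acts_mul K (stabOK_spec hB).1 hn hm)

theorem stab_idA : stabOK D.cls s idA = true := S.stab_of_acts K hs isMat_idA (S.acts_one K)

theorem stab_hList {A : List ℕ} (hA : A ∈ D.hList) : stabOK D.cls s A = true := by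
  obtain ⟨i, hi, rfl⟩ := List.getElem_of_mem hA
  have h := S.acts_pWit K hi
  have hm := (K.lifts_spec.2.2.2.2.2.2.1 i hi).2.1
  rw [show D.hList.getD i [] = D.hList[i] by simp [List.getD_eq_getElem?_getD, List.getElem?_eq_getElem hi]] at h hm
  exact S.stab_of_acts K hs hm h

theorem hGen_mem {k : ℕ} (hk : k < 2) : D.hGen.getD k idA ∈ D.hList := by
  have h := K.glue
  simp only [Side.glueOK, Bool.and_eq_true, beq_iff, List.all_eq_true] at h
  obtain ⟨⟨⟨⟨⟨⟨hlen, hmem⟩, -⟩, -⟩, -⟩, -⟩, -⟩ := h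
  rw [List.getD_eq_getElem?_getD, List.getElem?_eq_getElem (hlen ▸ hk), Option.getD_some]
  exact List.mem_of_elem_eq_true (hmem _ (List.getElem_mem _))

theorem exists_split : ∃ gl ∈ D.glue, Nonempty (Split S D s gl) := by
  classical
  obtain ⟨hzi, hzd, -, hlen, hA0, hp0, hwit, hclosed⟩ := K.lifts_spec
  have hlen0 : 0 < D.hList.length := by
    by_contra hcon
    rw [List.getD_eq_getElem?_getD, List.getElem?_eq_none (by omega), Option.getD_none] at hA0
    exact absurd hA0 (by decide)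
  set N := S.nSub D
  set E := S.eSub D.dec
  have hEN : E ≤ N := Subgroup.le_normalizer
  let K' : Subgroup N := E.subgroupOf N
  haveI hK'n : K'.Normal := Subgroup.normal_in_normalizer
  haveI : IsMulCommutative K' := ⟨⟨fun a b => Subtype.ext (Subtype.ext (S.eSub_comm K.good a.2 b.2))⟩⟩
  let U : Subgroup N := (Subgroup.centralizer ({S.z} : Set G)).subgroupOf N
  -- the witnesses form a subgroup
  have hp_mem : ∀ i < D.hList.length, S.ι (D.pWit.getD i 0) ∈ N := fun i hi =>
    S.acts_mem K (hwit i hi).2.1 (S.acts_pWit K hi)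
  let P0 : Submonoid G :=
    { carrier := {g | ∃ i < D.hList.length, S.ι (D.pWit.getD i 0) = g}
      one_mem' := ⟨0, hlen0, by rw [hp0, S.map_one]⟩
      mul_mem' := by
        rintro _ _ ⟨i, hi, rfl⟩ ⟨k, hk, rfl⟩
        obtain ⟨l, hl, hlp, -⟩ := hclosed i hi k hk
        exact ⟨l, hl, by rw [hlp, S.mul (hwit i hi).1 (hwit k hk).1]⟩ }
  let A0 : Subgroup N :=
    { carrier := {g | (g : G) ∈ P0}
      one_mem' := P0.one_mem
      mul_mem' := fun {a b} ha hb => P0.mul_mem ha hb
      inv_mem' := fun {a} ha => by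
        show ((a : G))⁻¹ ∈ P0
        have h1 : (a : G)⁻¹ = (a : G) ^ (orderOf (a : G) - 1) := inv_eq_of_mul_eq_one_left (by
          rw [← pow_succ, Nat.sub_add_cancel (orderOf_pos _), pow_orderOf_eq_one])
        rw [h1]
        exact pow_mem ha _ }
  have hKU : K' ≤ U := by
    intro g hg
    refine Subgroup.mem_centralizer_singleton_iff.2 ?_
    exact S.eSub_comm K.good hg (S.z_mem K.good)
  have hAU : A0 ≤ U := by
    rintro g ⟨i, hi, he⟩
    refine Subgroup.mem_subgroupOf.2 ?_
    rw [← he]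
    exact S.mem (hwit i hi).1
  have hAK : A0 ⊓ K' = ⊥ := by
    rw [eq_bot_iff]
    rintro g ⟨⟨i, hi, he⟩, hgK⟩
    obtain ⟨v, hv, hve⟩ := (S.mem_eSub K.good).1 (show (g : G) ∈ E from hgK)
    have hid : D.hList.getD i [] = idA := S.acts_unique K (hwit i hi).2.1 isMat_idA (S.acts_pWit K hi)
      (by rw [he, ← hve]; exact S.acts_e K hv)
    -- the witness of the identity is the identity
    have hi0 : D.pWit.getD i 0 = oneC := by
      rw [(hwit i hi).2.2.2 hid, hp0]
    refine Subgroup.mem_bot.2 (Subtype.ext ?_)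
    rw [← he, hi0, S.map_one]
    rfl
  have hKA : K' ⊔ A0 = U := by
    refine le_antisymm (sup_le hKU hAU) fun g hg => ?_
    obtain ⟨A, hA, hAct⟩ := S.exists_acts K g.2
    obtain ⟨i, hi, rfl⟩ := List.getElem_of_mem (S.mem_hList K hs hA hAct hg)
    have hp := S.acts_pWit K hi
    have hgd : D.hList.getD i [] = D.hList[i] := by
      rw [List.getD_eq_getElem?_getD, List.getElem?_eq_getElem hi, Option.getD_some]
    rw [hgd] at hp
    set p : N := ⟨S.ι (D.pWit.getD i 0), hp_mem i hi⟩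
    have hq : g * p⁻¹ ∈ K' := by
      refine S.mem_eSub_of_acts_id K fun v hv => ?_
      obtain ⟨w, hw, hwv⟩ : ∃ w < 64, apA (D.hList[i]) w = v := by
        obtain ⟨B, hB, hBact⟩ := S.exists_acts K (inv_mem (hp_mem i hi))
        refine ⟨apA B v, apA_lt hB v, S.e_inj K.good (apA_lt hA _) hv ?_⟩
        rw [← hp _ (apA_lt hB v), ← hBact v hv]
        group
      rw [apA_idA v hv, ← hwv]
      show (g : G) * (S.ι (D.pWit.getD i 0))⁻¹ * S.e D.dec (apA (D.hList[i]) w) *
        ((g : G) * (S.ι (D.pWit.getD i 0))⁻¹)⁻¹ = _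
      conv_lhs => rw [← hp w hw]
      conv_rhs => rw [← hAct w hw]
      group
    have : g = g * p⁻¹ * p := by group
    rw [this]
    exact mul_mem (Subgroup.mem_sup_left hq) (Subgroup.mem_sup_right ⟨i, hi, rfl⟩)
  haveI : Fact (Nat.Prime 2) := ⟨Nat.prime_two⟩
  have hcop : (Nat.card K').Coprime U.index := by
    obtain ⟨P, hP⟩ := S.exists_sylow
    have hPN : (P : Subgroup G) ≤ N := hP ▸ S.tSub_le_normalizer K.good
    have hnd : ¬ 2 ∣ (P.subtype hPN : Subgroup N).index := (P.subtype hPN).not_dvd_index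
    have hle : (P.subtype hPN : Subgroup N) ≤ U := by
      intro g hg
      rw [Sylow.coe_subtype, Subgroup.mem_subgroupOf, hP] at hg
      exact S.tSub_le hg
    have hd := Subgroup.index_dvd_of_le hle
    have hcard : Nat.card K' = 2 ^ 6 := by
      rw [Nat.card_congr (Subgroup.subgroupOfEquivOfLe hEN).toEquiv, S.card_eSub K.good]; rfl
    rw [hcard]
    exact Nat.Coprime.pow_left 6 ((Nat.prime_two.coprime_iff_not_dvd).2 fun h => hnd (h.trans hd))
  obtain ⟨H, hH⟩ := Cfsg.Lib.GaschutzAbelian.exists_complement K' U hKU hcop A0 hAU hAK hKA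
  have huniq : ∀ {a b : N} {A : List ℕ}, a ∈ H → b ∈ H → S.Acts D (a : G) A → S.Acts D (b : G) A → a = b := by
    intro a b A ha hb haA hbA
    have hE : a⁻¹ * b ∈ K' := by
      refine S.mem_eSub_of_acts_id K fun v hv => ?_
      rw [apA_idA v hv]
      show ((a : G)⁻¹ * b) * S.e D.dec v * ((a : G)⁻¹ * b)⁻¹ = _
      calc ((a : G)⁻¹ * b) * S.e D.dec v * ((a : G)⁻¹ * b)⁻¹
          = (a : G)⁻¹ * ((b : G) * S.e D.dec v * (b : G)⁻¹) * a := by group
        _ = (a : G)⁻¹ * ((a : G) * S.e D.dec v * (a : G)⁻¹) * a := by rw [haA v hv, hbA v hv]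
        _ = S.e D.dec v := by group
    exact inv_mul_eq_one.1 (Subgroup.disjoint_def.1 hH.disjoint hE (mul_mem (inv_mem ha) hb))
  have hex : ∀ A, stabOK D.cls s A = true → ∃ h ∈ H, S.Acts D ((h : N) : G) A := by
    intro A hA
    obtain ⟨n, hn, hnA⟩ := S.exists_of_stab K hs hA
    obtain ⟨⟨k, h⟩, hkh⟩ := hH.2 (⟨n, hn⟩ : N)
    obtain ⟨v, hv, hve⟩ := (S.mem_eSub K.good).1 (show ((k : N) : G) ∈ E from k.2)
    refine ⟨h, h.2, ?_⟩
    have he : ((h : N) : G) = S.e D.dec v * n := by
      have hkh' : ((k : N) : G) * ((h : N) : G) = n := congrArg Subtype.val hkh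
      rw [← hkh', ← hve, ← mul_assoc, S.e_sq K.good hv, one_mul]
    intro w hw
    rw [he, show S.e D.dec v * n * S.e D.dec w * (S.e D.dec v * n)⁻¹ =
      S.e D.dec v * (n * S.e D.dec w * n⁻¹) * (S.e D.dec v)⁻¹ by group, hnA w hw,
      (S.acts_e K hv) _ (apA_lt (stabOK_spec hA).1 w), apA_idA _ (apA_lt (stabOK_spec hA).1 w)]
  let y0 : List ℕ → G := fun A => if h : stabOK D.cls s A = true then ((hex A h).choose : G) else 1
  have hy0 : ∀ A, stabOK D.cls s A = true → ∃ h ∈ H, ((h : N) : G) = y0 A ∧ S.Acts D (y0 A) A := by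
    intro A hA
    have h := (hex A hA).choose_spec
    refine ⟨(hex A hA).choose, h.1, ?_⟩
    have : y0 A = (((hex A hA).choose : N) : G) := dif_pos hA
    exact ⟨this.symm, this ▸ h.2⟩
  have hy0mul : ∀ {A B}, stabOK D.cls s A = true → stabOK D.cls s B = true →
      y0 (compA A B) = y0 A * y0 B := by
    intro A B hA hB
    obtain ⟨a, ha, hae, haA⟩ := hy0 A hA
    obtain ⟨b, hb, hbe, hbB⟩ := hy0 B hB
    obtain ⟨c, hc, hce, hcC⟩ := hy0 _ (S.stab_compA K hs hA hB)
    have := huniq hc (mul_mem ha hb) (A := compA A B) (hce.symm ▸ hcC)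
      (by rw [Subgroup.coe_mul, hae, hbe]; exact S.acts_mul K (stabOK_spec hB).1 haA hbB)
    rw [← hce, this, Subgroup.coe_mul, hae, hbe]
  have hy0one : y0 idA = 1 := by
    obtain ⟨a, ha, hae, haA⟩ := hy0 idA (S.stab_idA K hs)
    rw [← hae, huniq ha (one_mem H) (A := idA) (hae.symm ▸ haA) (by simpa using S.acts_one K)]
    rfl
  -- the lifts of the two generators
  have hglue := K.glue
  simp only [Side.glueOK, Bool.and_eq_true, beq_iff, beq_iff_eq, List.all_eq_true, List.mem_range] at hglue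
  obtain ⟨⟨⟨⟨⟨⟨hgl2, hgmem⟩, hword⟩, hlt⟩, hrelA⟩, hsearch⟩, hglv⟩ := hglue
  have hlift : ∀ k < 2, ∃ v < 64, y0 (D.hGen.getD k idA) =
      S.ι (mulC (decE D.dec v) (D.pWit.getD (D.hList.idxOf (D.hGen.getD k [])) 0)) := by
    intro k hk
    have hmem := S.hGen_mem K hs hk
    have hgd : D.hGen.getD k [] = D.hGen.getD k idA := by
      rw [List.getD_eq_getElem?_getD, List.getD_eq_getElem?_getD, List.getElem?_eq_getElem (hgl2 ▸ hk)]
      rfl
    rw [hgd]
    set A := D.hGen.getD k idA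
    have hi := List.idxOf_lt_length_iff.2 hmem
    have hgi : D.hList.getD (D.hList.idxOf A) [] = A := by
      rw [List.getD_eq_getElem?_getD, List.getElem?_eq_getElem hi, Option.getD_some, List.getElem_idxOf hi]
    have hp := S.acts_pWit K hi
    rw [hgi] at hp
    obtain ⟨a, -, hae, haA⟩ := hy0 A (S.stab_hList K hs hmem)
    set p := S.ι (D.pWit.getD (D.hList.idxOf A) 0)
    have hq : y0 A * p⁻¹ ∈ E := by
      refine S.mem_eSub_of_acts_id K fun v hv => ?_
      obtain ⟨B, hB, hBact⟩ := S.exists_acts K (inv_mem (hp_mem _ hi))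
      have hw := apA_lt hB v
      have h1 : p * S.e D.dec (apA B v) * p⁻¹ = S.e D.dec v := by
        rw [← hBact v hv]; simp only [p]; group
      rw [apA_idA v hv]
      calc y0 A * p⁻¹ * S.e D.dec v * (y0 A * p⁻¹)⁻¹
          = y0 A * p⁻¹ * (p * S.e D.dec (apA B v) * p⁻¹) * (y0 A * p⁻¹)⁻¹ := by rw [h1]
        _ = y0 A * S.e D.dec (apA B v) * (y0 A)⁻¹ := by group
        _ = S.e D.dec (apA A (apA B v)) := haA _ hw
        _ = p * S.e D.dec (apA B v) * p⁻¹ := (hp _ hw).symm
        _ = S.e D.dec v := h1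
    obtain ⟨v, hv, hve⟩ := (S.mem_eSub K.good).1 hq
    refine ⟨v, hv, ?_⟩
    rw [S.mul (K.good.valid_mem (K.good.mem_of_lt hv)).1 (hwit _ hi).1, show S.ι (decE D.dec v) = y0 A * p⁻¹ from hve]
    simp only [p]
    group
  obtain ⟨v0, hv0, he0⟩ := hlift 0 (by norm_num)
  obtain ⟨v1, hv1, he1⟩ := hlift 1 (by norm_num)
  set w0 := mulC (decE D.dec v0) (D.pWit.getD (D.hList.idxOf (D.hGen.getD 0 [])) 0)
  set w1 := mulC (decE D.dec v1) (D.pWit.getD (D.hList.idxOf (D.hGen.getD 1 [])) 0)
  have hidx : ∀ k < 2, D.hList.idxOf (D.hGen.getD k []) < D.hList.length := by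
    intro k hk
    refine List.idxOf_lt_length_iff.2 ?_
    rw [List.getD_eq_getElem?_getD, List.getElem?_eq_getElem (hgl2 ▸ hk), Option.getD_some]
    exact List.mem_of_elem_eq_true (hgmem _ (List.getElem_mem _))
  have hw0 : valid w0 = true :=
    valid_mulC (K.good.valid_mem (K.good.mem_of_lt hv0)).1 (hwit _ (hidx 0 (by norm_num))).1
  have hw1 : valid w1 = true :=
    valid_mulC (K.good.valid_mem (K.good.mem_of_lt hv1)).1 (hwit _ (hidx 1 (by norm_num))).1
  have heval : ∀ w : List ℕ, (∀ i ∈ w, i < 2) → ∀ (x : ℕ) (A : List ℕ), valid x = true →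
      stabOK D.cls s A = true → S.ι x = y0 A →
      valid (w.foldl (fun x i => mulC x ([w0, w1].getD i oneC)) x) = true ∧
      S.ι (w.foldl (fun x i => mulC x ([w0, w1].getD i oneC)) x) =
        y0 (w.foldl (fun A i => compA A (D.hGen.getD i idA)) A) := by
    intro w
    induction w with
    | nil => exact fun _ x A hx _ he => ⟨hx, he⟩
    | cons i w ih =>
      intro hw x A hx hA he
      have hi : i < 2 := hw i List.mem_cons_self
      have hvi : valid ([w0, w1].getD i oneC) = true := by interval_cases i <;> simpa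
      have hei : S.ι ([w0, w1].getD i oneC) = y0 (D.hGen.getD i idA) := by
        interval_cases i
        · exact he0.symm
        · exact he1.symm
      have hg := S.stab_hList K hs (S.hGen_mem K hs hi)
      exact ih (fun j hj => hw j (List.mem_cons_of_mem _ hj)) _ _ (valid_mulC hx hvi) (S.stab_compA K hs hA hg)
        (by rw [S.mul hx hvi, he, hei, hy0mul hA hg])
  have hrels : ∀ w ∈ D.hRel, Nat.beq (evalC [w0, w1] w) oneC = true := by
    intro w hw
    obtain ⟨hv, he⟩ := heval w (fun i hi => Nat.le_of_ble_eq_true (hlt w (List.mem_append_right _ hw) i hi))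
      oneC idA valid_oneC (S.stab_idA K hs) (by rw [S.map_one, hy0one])
    refine beq_iff.2 (S.inj hv valid_oneC ?_)
    show S.ι (evalC [w0, w1] w) = _
    rw [S.map_one, evalC, he]
    show y0 (evalA D.hGen w) = 1
    rw [hrelA w hw, hy0one]
  have hfound := hsearch v0 hv0 v1 hv1
  simp only [Bool.or_eq_true, Bool.not_eq_true'] at hfound
  rcases hfound with hfound | hfound
  · exact absurd (List.all_eq_true.2 hrels) (Bool.eq_false_iff.1 hfound)
  obtain ⟨gl, hgl, hgl'⟩ := List.any_eq_true.1 hfound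
  obtain ⟨u, hu, hu'⟩ := List.any_eq_true.1 hgl'
  simp only [Bool.and_eq_true, beq_iff] at hu'
  have hu64 := List.mem_range.1 hu
  refine ⟨gl, hgl, ⟨⟨fun A => S.e D.dec u * y0 A * S.e D.dec u, ?_, ?_, ?_⟩⟩⟩
  · intro A hA v hv
    obtain ⟨a, -, -, haA⟩ := hy0 A hA
    have hinv : (S.e D.dec u)⁻¹ = S.e D.dec u := inv_eq_of_mul_eq_one_right (S.e_sq K.good hu64)
    have h1 := (S.acts_e K hu64) v hv
    have h2 := (S.acts_e K hu64) _ (apA_lt (stabOK_spec hA).1 v)
    rw [apA_idA v hv] at h1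
    rw [apA_idA _ (apA_lt (stabOK_spec hA).1 v)] at h2
    rw [show S.e D.dec u * y0 A * S.e D.dec u * S.e D.dec v * (S.e D.dec u * y0 A * S.e D.dec u)⁻¹ =
      S.e D.dec u * (y0 A * (S.e D.dec u * S.e D.dec v * (S.e D.dec u)⁻¹) * (y0 A)⁻¹) * (S.e D.dec u)⁻¹ by group,
      h1, haA v hv, h2]
  · intro A B hA hB
    show S.e D.dec u * y0 (compA A B) * S.e D.dec u = _
    rw [hy0mul hA hB]
    calc S.e D.dec u * (y0 A * y0 B) * S.e D.dec u
        = S.e D.dec u * y0 A * (S.e D.dec u * S.e D.dec u) * y0 B * S.e D.dec u := by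
          rw [S.e_sq K.good hu64]; group
      _ = _ := by group
  · intro k hk
    have hvu := (K.good.valid_mem (K.good.mem_of_lt hu64)).1
    have hvg := hglv gl hgl
    show S.e D.dec u * y0 (D.hGen.getD k idA) * S.e D.dec u = _
    interval_cases k
    · rw [he0, e, ← S.mul hvu hw0, hu'.1, S.mul hvg.1 hvu, mul_assoc]
      rw [show S.ι (decE D.dec u) * S.ι (decE D.dec u) = 1 from S.e_sq K.good hu64, mul_one]
    · rw [he1, e, ← S.mul hvu hw1, hu'.2, S.mul hvg.2 hvu, mul_assoc]
      rw [show S.ι (decE D.dec u) * S.ι (decE D.dec u) = 1 from S.e_sq K.good hu64, mul_one]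

end Setup

end Cfsg.Lib.HeldType
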