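import Cfsg.Agent.Lib.HeldType.Cent
import Cfsg.Agent.Lib.HeldType.EChecks
import Cfsg.Agent.Lib.HeldType.Burnside

/-!
# The Sylow subgroup of a group with this involution centraliser, and fusion in it
-/

set_option autoImplicit false
set_option maxRecDepth 100000
set_option linter.style.haveILetI false
set_option linter.unusedSectionVars false

namespace Cfsg.Lib.HeldType

attribute [local irreducible] tList invList tMask invMask decA decB

theorem beq_iff {a b : ℕ} : Nat.beq a b = true ↔ a = b :=
  ⟨Nat.eq_of_beq_eq_true, fun h => h ▸ Nat.beq_refl _⟩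

theorem inE_iff {dec : List ℕ} {x : ℕ} : inE dec x = true ↔ x ∈ dec :=
  List.any_eq_true.trans ⟨fun ⟨_, hy, h⟩ => beq_iff.1 h ▸ hy, fun h => ⟨x, h, beq_iff.2 rfl⟩⟩

theorem foldl_mask_testBit (f : ℕ → ℕ) : ∀ (l : List ℕ) (m : ℕ) (x : ℕ),
    (l.foldl (fun m n => Nat.lor m (Nat.shiftLeft 1 (f n))) m).testBit x = true ↔
      m.testBit x = true ∨ x ∈ l.map f
  | [], m, x => by simp
  | a :: l, m, x => by
    rw [List.foldl_cons, foldl_mask_testBit f l]
    change ((m ||| 1 <<< f a).testBit x = true ∨ _) ↔ _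
    rw [Nat.testBit_or, Nat.one_shiftLeft, Nat.testBit_two_pow, List.map_cons, List.mem_cons]
    simp only [Bool.or_eq_true, decide_eq_true_eq]
    tauto

theorem mem_invMask {x : ℕ} : invMask.testBit x = true ↔ x ∈ invList.map entX := by
  rw [Nat.eq_of_beq_eq_true invMask_checked, foldl_mask_testBit]
  simp

theorem mem_tMask {x : ℕ} : tMask.testBit x = true ↔ x ∈ tList.map entX := by
  rw [Nat.eq_of_beq_eq_true tMask_checked, foldl_mask_testBit]
  simp

namespace Setup

variable {G : Type*} [Group G] (S : Setup G)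

/-- The involution of a class. -/
def rep (k : ℕ) : G := S.ι (reps.getD k 0)

theorem entry_valid {n : ℕ} (h : n ∈ invList) :
    valid (entX n) = true ∧ valid (entG n) = true ∧ entK n < 8 ∧
      mulC (entX n) (entG n) = mulC (entG n) (reps.getD (entK n) 0) := by
  have := List.all_eq_true.1 entries_checked n h
  simp only [Bool.and_eq_true, beq_iff] at this
  exact ⟨this.1.1.1, this.1.1.2, Nat.le_of_ble_eq_true this.1.2, this.2⟩

theorem reps_valid : ∀ k < 8, valid (reps.getD k 0) = true := by decide +kernel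

theorem ι_sq {n : ℕ} (h : n ∈ invList) : S.ι (entX n) * S.ι (entX n) = 1 ∧ S.ι (entX n) ≠ 1 := by
  have hv := (entry_valid h).1
  have := List.all_eq_true.1 invMem_checked n h
  simp only [Bool.and_eq_true, beq_iff, Bool.not_eq_true'] at this
  refine ⟨by rw [← S.mul hv hv, this.2, S.map_one], fun e => ?_⟩
  rw [← S.map_one] at e
  exact Bool.false_ne_true (this.1.2.symm.trans (beq_iff.2 (S.inj hv valid_oneC e)))

theorem orderOf_ι {n : ℕ} (h : n ∈ invList) : orderOf (S.ι (entX n)) = 2 :=
  orderOf_eq_prime (by rw [pow_two]; exact (S.ι_sq h).1) (S.ι_sq h).2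

theorem conj_rep {n : ℕ} (h : n ∈ invList) :
    ∃ c ∈ Subgroup.centralizer ({S.z} : Set G), c * S.rep (entK n) * c⁻¹ = S.ι (entX n) := by
  obtain ⟨hx, hg, hk, he⟩ := entry_valid h
  refine ⟨S.ι (entG n), S.mem hg, ?_⟩
  rw [rep, ← S.mul hg (reps_valid _ hk), ← he, S.mul hx hg, mul_inv_cancel_right]

/-- The class is fused to the involution. -/
def InS (k : ℕ) : Prop := IsConj S.z (S.rep k)

theorem isConj_ι_iff {n : ℕ} (h : n ∈ invList) : IsConj S.z (S.ι (entX n)) ↔ S.InS (entK n) := by
  obtain ⟨c, -, hc⟩ := S.conj_rep h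
  have hcj : IsConj (S.rep (entK n)) (S.ι (entX n)) := isConj_iff.2 ⟨c, hc⟩
  exact ⟨fun h' => h'.trans hcj.symm, fun h' => h'.trans hcj⟩

theorem exists_entry {g : G} (hg : g ∈ Subgroup.centralizer ({S.z} : Set G)) (h2 : g * g = 1) (h1 : g ≠ 1) :
    ∃ n ∈ invList, S.ι (entX n) = g := by
  obtain ⟨x, hx, rfl⟩ := S.surj hg
  have := of_all_allC complete_checked hx
  simp only [Bool.or_eq_true, Bool.not_eq_true', beq_iff] at this
  rcases this with (h | h) | h
  · exfalso
    rw [← Bool.not_eq_true, beq_iff] at h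
    refine h (S.inj (valid_mulC hx hx) valid_oneC ?_)
    rw [S.mul hx hx, h2, S.map_one]
  · exact absurd (h ▸ S.map_one) h1
  · obtain ⟨n, hn, he⟩ := List.mem_map.1 (mem_invMask.1 h)
    exact ⟨n, hn, congrArg S.ι he⟩

variable [Finite G]

/-- The Sylow subgroup. -/
def tSub : Subgroup G := Subgroup.closure (S.ι '' {g | g ∈ tGens})

theorem tGens_valid : ∀ g ∈ tGens, valid g = true := by
  have := tList_checked
  simp only [tListOK, Bool.and_eq_true] at this
  exact fun g hg => List.all_eq_true.1 this.1.1.2 g hg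

theorem tList_valid {n : ℕ} (hn : n ∈ tList) : valid (entX n) = true := by
  have hl := tList_checked
  simp only [tListOK, Bool.and_eq_true] at hl
  obtain ⟨i, hi, he⟩ := List.getElem_of_mem hn
  have := List.all_eq_true.1 hl.1.2 i (List.mem_range.2 (by rw [← Nat.eq_of_beq_eq_true hl.1.1.1.1]; exact hi))
  rw [List.getD_eq_getElem?_getD, List.getElem?_eq_getElem hi, Option.getD_some, he, Bool.and_eq_true] at this
  exact this.1

theorem tSub_eq : (S.tSub : Set G) = S.ι '' {x | x ∈ tList.map entX} := by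
  have hl := tList_checked
  simp only [tListOK, Bool.and_eq_true] at hl
  obtain ⟨⟨⟨⟨hlen, -⟩, hgens⟩, htree⟩, hclosed⟩ := hl
  have hlen' : tList.length = 1024 := Nat.eq_of_beq_eq_true hlen
  have hzero : entX (tList.getD 0 0) = oneC := by decide +kernel
  have h0mem : oneC ∈ tList.map entX := by decide +kernel
  refine Set.Subset.antisymm ?_ ?_
  · intro g hg
    rw [tSub, SetLike.mem_coe, ← Subgroup.mem_toSubmonoid, Subgroup.closure_toSubmonoid_of_finite] at hg
    refine Submonoid.closure_induction_right ⟨oneC, h0mem, S.map_one⟩ ?_ hg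
    rintro a - _ ⟨j, hj, rfl⟩ ⟨x, hx, rfl⟩
    obtain ⟨n, hn, rfl⟩ := List.mem_map.1 hx
    refine ⟨_, mem_tMask.1 (List.all_eq_true.1 (List.all_eq_true.1 hclosed n hn) j hj), ?_⟩
    exact S.mul (tList_valid hn) (tGens_valid j hj)
  · have key : ∀ i, i < 1024 → S.ι (entX (tList.getD i 0)) ∈ S.tSub := by
      intro i
      induction i using Nat.strong_induction_on with
      | _ i ih =>
        intro hi
        rcases Nat.eq_zero_or_pos i with rfl | hpos
        · rw [hzero, S.map_one]; exact one_mem _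
        have h := List.all_eq_true.1 htree i (List.mem_range.2 hi)
        have hi0 : Nat.beq i 0 = false := by
          rw [← Bool.not_eq_true, beq_iff]; omega
        simp only [hi0, cond_false, Bool.and_eq_true, beq_iff] at h
        obtain ⟨-, ⟨hp, hg⟩, he⟩ := h
        have hp' := Nat.le_of_ble_eq_true hp
        have hg' : Nat.div (tList.getD i 0) 134217728 < 4 := Nat.le_of_ble_eq_true hg
        have hgm : tGens.getD (Nat.div (tList.getD i 0) 134217728) oneC ∈ tGens := by
          revert hg'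
          generalize Nat.div (tList.getD i 0) 134217728 = j
          revert j
          decide +kernel
        have hvp : valid (entX (tList.getD (Nat.mod (Nat.div (tList.getD i 0) 65536) 2048) 0)) = true := by
          have := List.all_eq_true.1 htree _ (List.mem_range.2 (Nat.lt_trans (Nat.lt_of_succ_le hp') hi))
          simp only [Bool.and_eq_true] at this
          exact this.1
        rw [he, S.mul hvp (tGens_valid _ hgm)]
        exact mul_mem (ih _ hp' (Nat.lt_trans (Nat.lt_of_succ_le hp') hi))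
          (Subgroup.subset_closure ⟨_, hgm, rfl⟩)
    rintro _ ⟨x, hx, rfl⟩
    obtain ⟨n, hn, rfl⟩ := List.mem_map.1 hx
    obtain ⟨i, hi, rfl⟩ := List.getElem_of_mem hn
    have := key i (hlen' ▸ hi)
    rwa [List.getD_eq_getElem?_getD, List.getElem?_eq_getElem hi, Option.getD_some] at this

theorem mem_tSub {g : G} : g ∈ S.tSub ↔ ∃ n ∈ tList, S.ι (entX n) = g := by
  rw [← SetLike.mem_coe, tSub_eq]
  simp [List.mem_map]

theorem tSub_le : S.tSub ≤ Subgroup.centralizer ({S.z} : Set G) := by
  intro g hg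
  obtain ⟨n, hn, rfl⟩ := S.mem_tSub.1 hg
  exact S.mem (tList_valid hn)

theorem card_tSub : Nat.card S.tSub = 1024 := by
  have hl := tList_checked
  simp only [tListOK, Bool.and_eq_true] at hl
  have hnd := (nodup_of_distinctB hl.1.1.1.2).1
  have hlen : (tList.map entX).length = 1024 := by
    rw [List.length_map]; exact Nat.eq_of_beq_eq_true hl.1.1.1.1
  have hset : (S.tSub : Set G) = S.ι '' ↑(tList.map entX).toFinset := by
    rw [tSub_eq]; congr 1; ext x; simp
  calc Nat.card S.tSub = (S.tSub : Set G).ncard := rfl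
    _ = (↑(tList.map entX).toFinset : Set ℕ).ncard := by
      rw [hset]
      refine Set.InjOn.ncard_image fun a ha b hb => S.inj ?_ ?_
      · obtain ⟨n, hn, rfl⟩ := List.mem_map.1 (List.mem_toFinset.1 ha); exact tList_valid hn
      · obtain ⟨n, hn, rfl⟩ := List.mem_map.1 (List.mem_toFinset.1 hb); exact tList_valid hn
    _ = 1024 := by rw [Set.ncard_coe_finset, List.toFinset_card_of_nodup hnd, hlen]

theorem eq_one_or_z_of_central {g : G} (hg : g ∈ S.tSub) (hc : ∀ t ∈ S.tSub, t * g = g * t) :
    g = 1 ∨ g = S.z := by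
  obtain ⟨n, hn, rfl⟩ := S.mem_tSub.1 hg
  have := List.all_eq_true.1 tCentre_checked n hn
  simp only [Bool.or_eq_true, Bool.not_eq_true', beq_iff] at this
  rcases this with (h | h) | h
  · exact Or.inl (h ▸ S.map_one)
  · exact Or.inr (h ▸ S.map_z)
  · exfalso
    rw [← Bool.not_eq_true] at h
    refine h (List.all_eq_true.2 fun j hj => beq_iff.2 ?_)
    exact (S.comm_iff (tList_valid hn) (tGens_valid j hj)).1
      (hc _ (Subgroup.subset_closure ⟨j, hj, rfl⟩)).symm

theorem card_cent : Nat.card (Subgroup.centralizer ({S.z} : Set G)) = 21504 := by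
  let f : {x // valid x = true} → ↥(Subgroup.centralizer ({S.z} : Set G)) := fun x => ⟨S.ι x.1, S.mem x.2⟩
  have hf : Function.Bijective f := by
    refine ⟨fun a b h => Subtype.ext (S.inj a.2 b.2 (congrArg Subtype.val h)), fun g => ?_⟩
    obtain ⟨x, hx, he⟩ := S.surj g.2
    exact ⟨⟨x, hx⟩, Subtype.ext he⟩
  rw [← Nat.card_congr (Equiv.ofBijective f hf)]
  have h1 : (fun x => valid x = true) = fun x => x ∈ allC := by
    funext x
    refine propext ⟨mem_allC, fun h => ?_⟩
    exact List.all_eq_true.1 (show allC.all valid = true by decide +kernel) x h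
  have hnd : allC.Nodup := (nodup_of_distinctB (m := 0) (by decide +kernel)).1
  have e : {x // valid x = true} ≃ {x // x ∈ allC.toFinset} :=
    Equiv.subtypeEquivRight fun x => by rw [List.mem_toFinset]; exact iff_of_eq (congrFun h1 x)
  rw [Nat.card_congr e, Nat.card_eq_fintype_card, Fintype.card_coe, List.toFinset_card_of_nodup hnd, length_allC]

theorem isPGroup_tSub : IsPGroup 2 S.tSub := IsPGroup.of_card (n := 10) (by rw [card_tSub]; rfl)

/-- It is a Sylow subgroup of the whole group. -/
theorem exists_sylow : ∃ P : Sylow 2 G, (P : Subgroup G) = S.tSub := by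
  haveI : Fact (Nat.Prime 2) := ⟨Nat.prime_two⟩
  obtain ⟨P, hP⟩ := S.isPGroup_tSub.exists_le_sylow
  refine ⟨P, le_antisymm ?_ hP⟩
  by_contra hne
  have hlt : S.tSub.subgroupOf P < ⊤ := by
    rw [lt_top_iff_ne_top]
    intro h
    exact hne (Subgroup.subgroupOf_eq_top.1 h)
  haveI : Group.IsNilpotent (P : Subgroup G) := P.isPGroup'.isNilpotent
  have hgt := Group.normalizerCondition_of_isNilpotent (G := (P : Subgroup G)) _ hlt
  obtain ⟨g, hg, hgn⟩ := SetLike.exists_of_lt hgt
  have hnorm : ∀ t : G, t ∈ S.tSub ↔ (g : G) * t * (g : G)⁻¹ ∈ S.tSub := by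
    intro t
    constructor
    · intro ht
      exact ((Subgroup.mem_normalizer_iff.1 hg) ⟨t, hP ht⟩).1 ht
    · intro ht
      have htP : t ∈ (P : Subgroup G) := by
        have := mul_mem (mul_mem (inv_mem g.2) (hP ht)) g.2
        simpa [mul_assoc] using this
      exact ((Subgroup.mem_normalizer_iff.1 hg) ⟨t, htP⟩).2 ht
  have hzT : S.z ∈ S.tSub := by
    rw [← S.map_z]
    exact S.mem_tSub.2 (by
      obtain ⟨n, hn, he⟩ := List.mem_map.1 (mem_tMask.1 (show tMask.testBit zC = true by decide +kernel))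
      exact ⟨n, hn, congrArg S.ι he⟩)
  have hfix : (g : G) * S.z * (g : G)⁻¹ = S.z := by
    rcases S.eq_one_or_z_of_central ((hnorm S.z).1 hzT) (fun t ht => by
      have hc := Subgroup.mem_centralizer_singleton_iff.1 (S.tSub_le ((hnorm ((g : G)⁻¹ * t * g)).2 (by simpa [mul_assoc] using ht)))
      calc t * ((g : G) * S.z * (g : G)⁻¹) = g * (((g : G)⁻¹ * t * g) * S.z) * (g : G)⁻¹ := by group
        _ = g * (S.z * ((g : G)⁻¹ * t * g)) * (g : G)⁻¹ := by rw [hc]
        _ = g * S.z * (g : G)⁻¹ * t := by group) with h | h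
    · exfalso
      have hz1 : S.z = 1 := by simpa using h
      have := S.hz
      rw [hz1, orderOf_one] at this
      omega
    · exact h
  -- the larger subgroup lies in the centraliser
  let H : Subgroup G := (S.tSub ⊔ Subgroup.zpowers (g : G))
  have hH : H ≤ (P : Subgroup G) ⊓ Subgroup.centralizer ({S.z} : Set G) := by
    refine sup_le (le_inf hP S.tSub_le) (Subgroup.zpowers_le.2 ⟨g.2, ?_⟩)
    exact Subgroup.mem_centralizer_singleton_iff.2 (mul_inv_eq_iff_eq_mul.1 hfix)
  have hHp : IsPGroup 2 H := P.isPGroup'.to_le (le_trans hH inf_le_left)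
  obtain ⟨m, hm⟩ := IsPGroup.iff_card.1 hHp
  have hdvd : Nat.card H ∣ 21504 := S.card_cent ▸ Subgroup.card_dvd_of_le (le_trans hH inf_le_right)
  have hlt' : S.tSub < H := lt_of_le_of_ne le_sup_left fun h => hgn (by
    have : (g : G) ∈ H := Subgroup.mem_sup_right (Subgroup.mem_zpowers _)
    rw [← h] at this; exact this)
  have h10 : 1024 < Nat.card H := by
    rw [← S.card_tSub]
    rcases lt_or_eq_of_le (Nat.le_of_dvd Nat.card_pos (Subgroup.card_dvd_of_le hlt'.le)) with h | h
    · exact h
    · exact absurd (Subgroup.eq_of_le_of_card_ge hlt'.le h.symm.le) hlt'.ne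
  rw [hm] at hdvd h10
  have hm11 : 11 ≤ m := by
    by_contra hcon
    have : 2 ^ m ≤ 2 ^ 10 := Nat.pow_le_pow_right (by norm_num) (by omega)
    omega
  exact absurd ((pow_dvd_pow 2 hm11).trans hdvd) (by norm_num)

end Setup

end Cfsg.Lib.HeldType
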