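import Cfsg.Agent.Lib.HeldType.Descent

/-!
# The generated subgroup is the whole group: the top of the descent
-/

set_option autoImplicit false
set_option maxRecDepth 100000
set_option linter.style.haveILetI false
set_option linter.unusedSectionVars false

namespace Cfsg.Lib.HeldType

open Amalgam (wv)

attribute [local irreducible] tList invList tMask invMask decA decB allC

/-- A step from one class to another by a word of one side. -/
structure Link where
  /-- whether the word lies in the second side -/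
  side : Bool
  /-- the coordinate -/
  a : ℕ
  /-- the word -/
  word : List ℕ
  /-- the class of the coordinate -/
  src : ℕ
  /-- the class of its image -/
  dst : ℕ

/-- The side chosen by a flag. -/
def sideOf (b : Bool) : Side := bif b then sideB else sideA

/-- The letters chosen by a flag. -/
def Case.lettersOf (c : Case) (b : Bool) : Letters := bif b then c.LB else c.LA

/-- The step is right. -/
def Link.ok (l : Link) (c : Case) : Bool :=
  let D := sideOf l.side
  let L := c.lettersOf l.side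
  Nat.blt l.a 64 && L.inDom l.word && l.word.all (fun x => Nat.blt x 8) &&
    classIs (decE D.dec l.a) l.src && classIs (decE D.dec (apA (L.eval l.word).2 l.a)) l.dst

/-- The steps connect the given class to all classes of one kind. -/
def linksOK (c : Case) (kind : ℕ → Bool) : List Link → List ℕ → Bool
  | [], done => (List.range 8).all fun k => !kind k || done.any (Nat.beq k)
  | l :: r, done => l.ok c && done.any (Nat.beq l.src) && linksOK c kind r (l.dst :: done)

/-- The mask of the fused codes. -/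
def fusedMask (s : ℕ → Bool) : ℕ :=
  (invList.filter fun n => s (entK n)).foldl (fun m n => Nat.lor m (Nat.shiftLeft 1 (entX n))) 0

/-- The node is right, its children coming later or among the extra ones. -/
def nodeAtOK (c : Case) (fm : ℕ) (nodes : List Node) (extra : List (List ℕ)) (i : ℕ) : Bool :=
  let N := nodes.getD i ⟨false, [], ⟨0, [], []⟩, [], []⟩
  N.ok (sideOf N.side) (c.lettersOf N.side) c.s fm
      (nodes.map (fun N => N.basis.map (decE (sideOf N.side).dec)) ++ extra) &&
    N.ext.all fun e => Nat.blt i e.2.1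

namespace Amal

variable {G : Type*} [Group G] [Finite G] {S : Setup G} {c : Case} (A : Amal S c)

theorem centralizer_le_of_claim {P : List ℕ} (hP : ∀ x ∈ P, valid x = true) (hF : A.Fused) (h : A.Claim P) {g : G}
    (hg : ∀ x ∈ P, g * S.ι x = S.ι x * g) : g ∈ A.M := by
  have hu : g * S.z * g⁻¹ ∈ A.M := h _ (isConj_iff.2 ⟨g, rfl⟩) fun x hx => by
    have hz := Subgroup.mem_centralizer_singleton_iff.1 (S.mem (hP x hx))
    calc g * S.z * g⁻¹ * S.ι x = g * (S.z * (g⁻¹ * (S.ι x * g))) * g⁻¹ := by group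
      _ = g * (S.z * S.ι x) * g⁻¹ := by rw [← hg x hx]; group
      _ = g * S.ι x * S.z * g⁻¹ := by rw [← hz]; group
      _ = S.ι x * (g * S.z * g⁻¹) := by rw [hg x hx]; group
  obtain ⟨m, hm, hme⟩ := hF _ hu (isConj_iff.2 ⟨g, rfl⟩)
  exact A.conj_mem_of_eq hm hme.symm

theorem exists_conj_ι {u : G} (hu : u ∈ A.M) (h2 : u * u = 1) (h1 : u ≠ 1) :
    ∃ m ∈ A.M, ∃ n ∈ invList, m * S.ι (entX n) * m⁻¹ = u := by
  obtain ⟨P, hP⟩ := S.exists_sylow
  have hPM : (P : Subgroup G) ≤ A.M := hP ▸ le_trans S.tSub_le A.cent_le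
  let P' : Sylow 2 A.M := P.subtype hPM
  let Z : Subgroup A.M := Subgroup.zpowers ⟨u, hu⟩
  have hord : orderOf (⟨u, hu⟩ : A.M) = 2 :=
    orderOf_eq_prime (Subtype.ext (by simpa [pow_two] using h2)) fun e => h1 (congrArg Subtype.val e)
  have hZ : IsPGroup 2 Z := IsPGroup.of_card (n := 1) (by rw [Nat.card_zpowers, hord, pow_one])
  obtain ⟨Q, hQ⟩ := hZ.exists_le_sylow
  obtain ⟨m, rfl⟩ := MulAction.exists_smul_eq A.M P' Q
  have hmem : (⟨u, hu⟩ : A.M) ∈ ((m • P' : Sylow 2 A.M) : Subgroup A.M) := hQ (Subgroup.mem_zpowers _)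
  rw [Sylow.coe_subgroup_smul, Subgroup.mem_pointwise_smul_iff_inv_smul_mem] at hmem
  have hmem' : (m : G)⁻¹ * u * (m : G) ∈ (P : Subgroup G) := by
    simpa [P', Subgroup.mem_subgroupOf, MulAut.conj_inv_apply] using hmem
  have hC := S.tSub_le (hP ▸ hmem')
  obtain ⟨n, hn, hne⟩ := S.exists_entry hC
    (by rw [show ∀ a b : G, a⁻¹ * b * a * (a⁻¹ * b * a) = a⁻¹ * (b * b) * a from fun a b => by group, h2]; group)
    (fun e => h1 (by
      calc u = (m : G) * ((m : G)⁻¹ * u * m) * (m : G)⁻¹ := by group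
        _ = 1 := by rw [e]; group))
  exact ⟨m, m.2, n, hn, by rw [hne]; group⟩

theorem link_mem (K : c.OK) (hs : ∀ k < 8, c.s k = true ↔ S.InS k) {l : Link} (h : l.ok c = true) :
    l.src < 8 ∧ l.dst < 8 ∧ ∃ m ∈ A.M, m * S.rep l.src * m⁻¹ = S.rep l.dst := by
  have key : ∀ (D : Side) (L : Letters) (gl : List ℕ), SideOK D c.s → ∀ P : Split S D c.s gl,
      L.check D c.s gl = true → A.g L.extra = S.pval D P.y (L.val.getD L.extra pone) →
      (Nat.blt l.a 64 && L.inDom l.word && l.word.all (fun x => Nat.blt x 8) &&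
        classIs (decE D.dec l.a) l.src && classIs (decE D.dec (apA (L.eval l.word).2 l.a)) l.dst) = true →
      l.src < 8 ∧ l.dst < 8 ∧ ∃ m ∈ A.M, m * S.rep l.src * m⁻¹ = S.rep l.dst := by
    intro D L gl KD P hL hx hok
    simp only [Bool.and_eq_true, List.all_eq_true] at hok
    obtain ⟨⟨⟨⟨ha, hdom⟩, h8⟩, hsrc⟩, hdst⟩ := hok
    obtain ⟨hp, hwv⟩ := S.wv_eval KD hs P hL A.g A.cent hx l.word hdom
    have hact := acts_pval KD hs P hp l.a (Nat.le_of_ble_eq_true ha)
    obtain ⟨n, hn, hne, hnk⟩ := Setup.classIs_spec hsrc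
    obtain ⟨n', hn', hne', hnk'⟩ := Setup.classIs_spec hdst
    obtain ⟨d, hd, hde⟩ := S.conj_rep hn
    obtain ⟨d', hd', hde'⟩ := S.conj_rep hn'
    rw [hne, hnk] at hde
    rw [hne', hnk'] at hde'
    have hm : S.pval D P.y (L.eval l.word) ∈ A.M := by
      rw [← hwv]
      exact list_prod_mem fun a ha' => by
        obtain ⟨x, hx', rfl⟩ := List.mem_map.1 ha'
        exact A.g_mem (Nat.le_of_ble_eq_true (h8 x hx'))
    refine ⟨hnk ▸ (Setup.entry_valid hn).2.2.1, hnk' ▸ (Setup.entry_valid hn').2.2.1,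
      d'⁻¹ * S.pval D P.y (L.eval l.word) * d, mul_mem (mul_mem (inv_mem (A.cent_le hd')) hm) (A.cent_le hd), ?_⟩
    calc d'⁻¹ * S.pval D P.y (L.eval l.word) * d * S.rep l.src * (d'⁻¹ * S.pval D P.y (L.eval l.word) * d)⁻¹
        = d'⁻¹ * (S.pval D P.y (L.eval l.word) * (d * S.rep l.src * d⁻¹) * (S.pval D P.y (L.eval l.word))⁻¹) * d' := by
          group
      _ = d'⁻¹ * S.e D.dec (apA (L.eval l.word).2 l.a) * d' := by rw [hde]; exact congrArg (fun x => d'⁻¹ * x * d') hact
      _ = S.rep l.dst := by rw [Setup.e, ← hde']; group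
  cases hb : l.side <;> simp only [Link.ok, sideOf, Case.lettersOf, hb, cond_true, cond_false] at h
  · exact key _ _ _ K.sideA A.PA K.letA (by rw [K.extra.1]; exact A.six) h
  · exact key _ _ _ K.sideB A.PB K.letB (by rw [K.extra.2]; exact A.seven) h

theorem rep_conj_of_links (K : c.OK) (hs : ∀ k < 8, c.s k = true ↔ S.InS k) {kind : ℕ → Bool} {k0 : ℕ} :
    ∀ (ls : List Link) (done : List ℕ), linksOK c kind ls done = true →
      (∀ k ∈ done, ∃ m ∈ A.M, m * S.rep k0 * m⁻¹ = S.rep k) →
      ∀ k < 8, kind k = true → ∃ m ∈ A.M, m * S.rep k0 * m⁻¹ = S.rep k := by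
  intro ls
  induction ls with
  | nil =>
    intro done h hd k hk hkind
    have := List.all_eq_true.1 h k (List.mem_range.2 hk)
    simp only [hkind, Bool.not_true, Bool.false_or, List.any_eq_true, beq_iff] at this
    obtain ⟨j, hj, rfl⟩ := this
    exact hd _ hj
  | cons l r ih =>
    intro done h hd
    simp only [linksOK, Bool.and_eq_true, List.any_eq_true, beq_iff] at h
    obtain ⟨⟨hl, j, hj, hje⟩, hr⟩ := h
    refine ih _ hr fun k hk => ?_
    rcases List.mem_cons.1 hk with rfl | hk
    · obtain ⟨-, -, m, hm, hme⟩ := A.link_mem K hs hl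
      obtain ⟨m', hm', hme'⟩ := hd j hj
      refine ⟨m * m', mul_mem hm hm', ?_⟩
      rw [← hme, hje, ← hme']
      group
    · exact hd k hk

theorem fused_of_links (K : c.OK) (hs : ∀ k < 8, c.s k = true ↔ S.InS k) {ls : List Link}
    (h : linksOK c c.s ls [3] = true) : A.Fused := by
  intro u hu huz
  have hz : S.rep 3 = S.z := by rw [Setup.rep, show reps.getD 3 0 = zC by decide +kernel, S.map_z]
  have hzo := pow_orderOf_eq_one S.z
  rw [S.hz, pow_two] at hzo
  obtain ⟨g, hg⟩ := isConj_iff.1 huz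
  have h2 : u * u = 1 := by
    rw [← hg, show ∀ a b : G, a * b * a⁻¹ * (a * b * a⁻¹) = a * (b * b) * a⁻¹ from fun a b => by group, hzo]; group
  have h1 : u ≠ 1 := by
    intro e
    have : S.z = 1 := isConj_one_left.1 (e ▸ huz.symm).symm
    have := S.hz
    simp_all
  obtain ⟨m, hm, n, hn, hne⟩ := A.exists_conj_ι hu h2 h1
  have hk8 := (Setup.entry_valid hn).2.2.1
  have hfu : c.s (entK n) = true :=
    (hs _ hk8).2 ((S.isConj_ι_iff hn).1 (huz.trans (isConj_iff.2 ⟨m⁻¹, by rw [← hne]; group⟩)))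
  obtain ⟨d, hd, hde⟩ := A.rep_conj_of_links K hs (k0 := 3) ls [3] h (fun k hk => ⟨1, one_mem _, by
    rw [List.mem_singleton.1 hk]; group⟩) _ hk8 hfu
  obtain ⟨e, he, hee⟩ := S.conj_rep hn
  refine ⟨m * (e * d), mul_mem hm (mul_mem (A.cent_le he) hd), ?_⟩
  rw [← hne, ← hee, ← hde, hz]
  group

theorem claim_nodes (K : c.OK) (hs : ∀ k < 8, c.s k = true ↔ S.InS k) (hF : A.Fused) {nodes : List Node}
    {extra : List (List ℕ)} {fm : ℕ} (hfm : Nat.beq fm (fusedMask c.s) = true)
    (h : ∀ i < nodes.length, nodeAtOK c fm nodes extra i = true) (hx : ∀ P ∈ extra, A.Claim P) :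
    ∀ P ∈ nodes.map (fun N => N.basis.map (decE (sideOf N.side).dec)), A.Claim P := by
  have hfm' : ∀ x, fm.testBit x = true → ∃ m ∈ invList, entX m = x ∧ c.s (entK m) = true := by
    intro x hx
    rw [Nat.eq_of_beq_eq_true hfm, fusedMask, foldl_mask_testBit] at hx
    simp only [Nat.zero_testBit, Bool.false_eq_true, false_or, List.mem_map, List.mem_filter] at hx
    obtain ⟨m, ⟨hm, hs'⟩, he⟩ := hx
    exact ⟨m, hm, he, hs'⟩
  set kids := nodes.map (fun N => N.basis.map (decE (sideOf N.side).dec)) ++ extra with hkids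
  have key : ∀ d i, i < kids.length → kids.length - i ≤ d → A.Claim (kids.getD i []) := by
    intro d
    induction d with
    | zero => intro i hi hd; omega
    | succ d ih =>
      intro i hi hd
      rw [List.getD_eq_getElem?_getD, List.getElem?_eq_getElem hi, Option.getD_some]
      by_cases hn : i < nodes.length
      swap
      · refine hx _ ?_
        simp only [hkids, List.length_map, List.getElem_append_right (show (nodes.map _).length ≤ i by simp; omega)]
        exact List.getElem_mem _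
      simp only [hkids, List.getElem_append_left (show i < (nodes.map _).length by simpa using hn), List.getElem_map]
      have hi' := h i hn
      rw [nodeAtOK, List.getD_eq_getElem?_getD, List.getElem?_eq_getElem hn, Option.getD_some, Bool.and_eq_true,
        List.all_eq_true, ← hkids] at hi'
      obtain ⟨hok, hlt⟩ := hi'
      have hkid : ∀ e ∈ (nodes[i]).ext, e.2.1 < kids.length → A.Claim (kids.getD e.2.1 []) := fun e he hel => by
        have := Nat.le_of_ble_eq_true (hlt e he)
        exact ih _ hel (by omega)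
      cases hb : (nodes[i]).side <;> simp only [hb, sideOf, Case.lettersOf, cond_true, cond_false] at hok ⊢
      · exact Node.claim_of_ok A hfm' A.PA K.sideA hs K.letA (by rw [K.extra.1]; exact A.six) hF hok hkid
      · exact Node.claim_of_ok A hfm' A.PB K.sideB hs K.letB (by rw [K.extra.2]; exact A.seven) hF hok hkid
  intro P hP
  obtain ⟨i, hi, rfl⟩ := List.getElem_of_mem hP
  have hik : i < kids.length := by rw [hkids, List.length_append]; omega
  have := key kids.length i hik (Nat.sub_le _ _)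
  rwa [List.getD_eq_getElem?_getD, List.getElem?_eq_getElem hik, Option.getD_some,
    List.getElem_of_eq hkids hik, List.getElem_append_left hi] at this

/-- The subgroup is everything. -/
theorem eq_top_of_claim (K : c.OK) (hs : ∀ k < 8, c.s k = true ↔ S.InS k) {lf ln : List Link} {x k0 : ℕ}
    (hlf : linksOK c c.s lf [3] = true) (hln : linksOK c (fun k => !c.s k) ln [k0] = true)
    (hx : classIs x k0 = true) (hk0 : c.s k0 = false) (hcl : A.Claim [x]) : A.M = ⊤ := by
  have hF := A.fused_of_links K hs hlf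
  obtain ⟨n0, hn0, hne0, hnk0⟩ := Setup.classIs_spec hx
  have hv : valid x = true := hne0 ▸ (Setup.entry_valid hn0).1
  have hkM : S.ι x ∈ A.M := A.cent_le (S.mem hv)
  have hknf : ¬ IsConj S.z (S.ι x) := by
    rw [← hne0, S.isConj_ι_iff hn0, ← hs _ (Setup.entry_valid hn0).2.2.1, hnk0, hk0]
    exact Bool.false_ne_true
  obtain ⟨e0, he0, he0e⟩ := S.conj_rep hn0
  rw [hne0, hnk0] at he0e
  have hk2 : S.ι x * S.ι x = 1 := hne0 ▸ (S.ι_sq hn0).1
  have hzo := pow_orderOf_eq_one S.z
  rw [S.hz, pow_two] at hzo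
  have hall : ∀ g : G, g * S.z * g⁻¹ ∈ A.M := by
    intro g
    by_contra hout
    set u := g * S.z * g⁻¹ with hu
    have huz : IsConj S.z u := isConj_iff.2 ⟨g, rfl⟩
    have hu2 : u * u = 1 := by
      rw [hu, show ∀ a b : G, a * b * a⁻¹ * (a * b * a⁻¹) = a * (b * b) * a⁻¹ from fun a b => by group, hzo]; group
    rcases dihedral_cases hk2 hu2 with ⟨e, he⟩ | ⟨i, hi1, hi2, hix, hiu, -, -⟩
    · exact hknf (huz.trans (isConj_iff.2 ⟨_, he⟩).symm)
    have hiM : i ∈ A.M := A.centralizer_le_of_claim (P := [x]) (fun y hy => List.mem_singleton.1 hy ▸ hv) hF hcl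
      fun y hy => by rw [List.mem_singleton.1 hy]; exact hix
    by_cases hfi : IsConj S.z i
    · exact hout (A.cent_le_of_fused hF hiM hfi (Subgroup.mem_centralizer_singleton_iff.2 hiu.symm))
    obtain ⟨m, hm, n, hn, hne⟩ := A.exists_conj_ι hiM hi2 hi1
    have hk8 := (Setup.entry_valid hn).2.2.1
    have hnf : (fun k => !c.s k) (entK n) = true := by
      simp only [Bool.not_eq_true', Bool.eq_false_iff]
      exact fun h => hfi ((S.isConj_ι_iff hn).2 ((hs _ hk8).1 h) |>.trans (isConj_iff.2 ⟨m, hne⟩))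
    obtain ⟨d, hd, hde⟩ := A.rep_conj_of_links K hs (k0 := k0) ln [k0] hln (fun k hk => ⟨1, one_mem _, by
      rw [List.mem_singleton.1 hk]; group⟩) _ hk8 hnf
    obtain ⟨e, he, hee⟩ := S.conj_rep hn
    set w := m * (e * (d * e0⁻¹)) with hw
    have hwM : w ∈ A.M := mul_mem hm (mul_mem (A.cent_le he) (mul_mem hd (inv_mem (A.cent_le he0))))
    have hwx : w * S.ι x * w⁻¹ = i := by
      rw [hw, ← hne, ← hee, ← hde, ← he0e]
      group
    have h1 := hcl (w⁻¹ * u * w) (huz.trans (isConj_iff.2 ⟨w⁻¹, by group⟩)) fun y hy => by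
      rw [List.mem_singleton.1 hy]
      calc w⁻¹ * u * w * S.ι x = w⁻¹ * (u * (w * S.ι x * w⁻¹)) * w := by group
        _ = w⁻¹ * (i * u) * w := by rw [hwx, hiu]
        _ = S.ι x * (w⁻¹ * u * w) := by rw [← hwx]; group
    exact hout (by simpa [mul_assoc] using mul_mem (mul_mem hwM h1) (inv_mem hwM))
  refine (Subgroup.eq_top_iff' _).2 fun g => ?_
  obtain ⟨m, hm, hme⟩ := hF _ (hall g) (isConj_iff.2 ⟨g, rfl⟩)
  exact A.conj_mem_of_eq hm hme.symm

end Amal

end Cfsg.Lib.HeldType
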